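import Mathlib
import Cfsg.Agent.H802.FusAlp
import Cfsg.Agent.H802.FusEss
import Cfsg.Agent.Transfer.TausskyTwoGroup
set_option linter.all false

-- part: H617/FusInv
section
/-!
# Subsets invariant under a saturated fusion system

`mem_iff_of_hom`: a set `X` is preserved by all maps of a saturated system as soon as it is
preserved by the groups `Aut_F(Q)`, `Q` fully normalized and centric (Alperin's fusion theorem).
-/

set_option autoImplicit false

namespace Cfsg.Agent.H617.FusInv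

open Cfsg Cfsg.FusionSystem Cfsg.Agent.H802

variable {Ω : Type*} [Group Ω] {S : Subgroup Ω}

/-- The maps of `F` preserving `X`. -/
def subSys (F : FusionSystem S) (X : Set Ω)
    (hX : ∀ g ∈ S, ∀ x ∈ S, x ∈ X ↔ g * x * g⁻¹ ∈ X) : FusionSystem S where
  Hom P := {φ | φ ∈ F.Hom P ∧ ∀ x : P, (x : Ω) ∈ X ↔ φ x ∈ X}
  le_of_mem h := F.le_of_mem h.1
  injective_of_mem h := F.injective_of_mem h.1
  conj_mem := fun {P g} hP hg => ⟨F.conj_mem hP hg, fun x => hX g hg x (hP x.2)⟩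
  comp_mem := fun {P Q φ ψ} hφ hψ h => ⟨F.comp_mem hφ.1 hψ.1 h, fun x =>
    (hφ.2 x).trans (hψ.2 ⟨φ x, h x⟩)⟩
  inv_mem := by
    rintro P φ ⟨hφ, hφX⟩
    obtain ⟨ψ, hψ, he⟩ := F.inv_mem hφ
    refine ⟨ψ, ⟨hψ, ?_⟩, he⟩
    rintro ⟨_, x, rfl⟩
    change φ x ∈ X ↔ _
    rw [he x]
    exact (hφX x).symm

theorem isFullyNormalized_self [Finite S] (F : FusionSystem S) : F.IsFullyNormalized S := by
  refine ⟨le_rfl, fun Q hQ => ?_⟩
  have h1 : Q = S := by
    have := isConj_card_eq hQ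
    exact Subgroup.eq_of_le_of_card_ge (isConj_le_right hQ) this.le
  rw [h1]

theorem isCentric_self [Finite S] (F : FusionSystem S) : F.IsCentric S := by
  refine ⟨le_rfl, fun Q hQ => ?_⟩
  have h1 : Q = S := by
    have := isConj_card_eq hQ
    exact Subgroup.eq_of_le_of_card_ge (isConj_le_right hQ) this.le
  rw [h1]
  exact inf_le_left

/-- **Alperin's fusion theorem for invariant sets.** -/
theorem mem_iff_of_hom {p : ℕ} [Fact p.Prime] [Finite S] (hS : IsPGroup p S)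
    {F : FusionSystem S} (hF : F.IsSaturated p) (X : Set Ω)
    (h : ∀ Q : Subgroup Ω, F.IsFullyNormalized Q → F.IsCentric Q → ∀ α ∈ F.autGroup Q,
      ∀ x : Q, (x : Ω) ∈ X ↔ ((α x : Q) : Ω) ∈ X)
    {P : Subgroup Ω} {φ : P →* Ω} (hφ : φ ∈ F.Hom P) (x : P) : (x : Ω) ∈ X ↔ φ x ∈ X := by
  have hX : ∀ g ∈ S, ∀ x ∈ S, x ∈ X ↔ g * x * g⁻¹ ∈ X := by
    intro g hg x hx
    have hgn : g ∈ Subgroup.normalizer (S : Set Ω) := Subgroup.le_normalizer hg
    obtain ⟨α, hα⟩ := exists_conjAut hgn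
    have hαF : α ∈ F.autGroup S := autInducedBy_le_autGroup F le_rfl
      ((mem_autInducedBy_iff S S α).2 ⟨g, hg, hα⟩)
    have h1 := h S (isFullyNormalized_self F) (isCentric_self F) α hαF ⟨x, hx⟩
    rwa [hα] at h1
  have key : F.Hom P ⊆ (subSys F X hX).Hom P := by
    refine le_of_centric hS hF (subSys F X hX) (fun Q hQ hQc _ α hα => ?_) P
    rw [mem_autGroup_iff _ hQ.1]
    exact ⟨(mem_autGroup_iff F hQ.1 α).1 hα, fun x => h Q hQ hQc α hα x⟩
  exact (key hφ).2 x

/-- Conjugate elements: `F.IsConjElt` preserves invariant sets. -/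
theorem mem_iff_of_isConjElt {p : ℕ} [Fact p.Prime] [Finite S] (hS : IsPGroup p S)
    {F : FusionSystem S} (hF : F.IsSaturated p) (X : Set Ω)
    (h : ∀ Q : Subgroup Ω, F.IsFullyNormalized Q → F.IsCentric Q → ∀ α ∈ F.autGroup Q,
      ∀ x : Q, (x : Ω) ∈ X ↔ ((α x : Q) : Ω) ∈ X)
    {x y : Ω} (hxy : F.IsConjElt x y) : x ∈ X ↔ y ∈ X := by
  obtain ⟨φ, hφ, rfl⟩ := hxy
  exact mem_iff_of_hom hS hF X h hφ ⟨x, Subgroup.mem_zpowers x⟩


/-- **Alperin's fusion theorem for invariant sets**, with the automorphisms which extend left out. -/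
theorem mem_iff_of_hom_of_not_extends {p : ℕ} [Fact p.Prime] [Finite S] (hS : IsPGroup p S)
    {F : FusionSystem S} (hF : F.IsSaturated p) (X : Set Ω)
    (h : ∀ Q : Subgroup Ω, F.IsFullyNormalized Q → F.IsCentric Q → ∀ α ∈ F.autGroup Q,
      ¬ Extends F Q α → ∀ x : Q, (x : Ω) ∈ X ↔ ((α x : Q) : Ω) ∈ X)
    {P : Subgroup Ω} {φ : P →* Ω} (hφ : φ ∈ F.Hom P) (x : P) : (x : Ω) ∈ X ↔ φ x ∈ X := by
  have htop : ∀ α ∈ F.autGroup S, ¬ Extends F S α := by
    rintro α hα ⟨R, hR, hcard, ψ, hψ, -⟩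
    have h1 := hom_le hψ
    have : R = S := le_antisymm h1 hR
    rw [this] at hcard
    exact lt_irrefl _ hcard
  have hX : ∀ g ∈ S, ∀ x ∈ S, x ∈ X ↔ g * x * g⁻¹ ∈ X := by
    intro g hg x hx
    have hgn : g ∈ Subgroup.normalizer (S : Set Ω) := Subgroup.le_normalizer hg
    obtain ⟨α, hα⟩ := exists_conjAut hgn
    have hαF : α ∈ F.autGroup S := autInducedBy_le_autGroup F le_rfl
      ((mem_autInducedBy_iff S S α).2 ⟨g, hg, hα⟩)
    have h1 := h S (isFullyNormalized_self F) (isCentric_self F) α hαF (htop α hαF) ⟨x, hx⟩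
    rwa [hα] at h1
  have key : F.Hom P ⊆ (subSys F X hX).Hom P := by
    refine le_of_centric hS hF (subSys F X hX) (fun Q hQ hQc hbig α hα => ?_) P
    rw [mem_autGroup_iff _ hQ.1]
    refine ⟨(mem_autGroup_iff F hQ.1 α).1 hα, fun x => ?_⟩
    by_cases he : Extends F Q α
    · obtain ⟨R, hQR, hcard, ψ, hψ, hψe⟩ := he
      have h1 := (hbig R hcard hψ).2 ⟨x, hQR x.2⟩
      rw [hψe] at h1
      exact h1
    · exact h Q hQ hQc α hα he x
  exact (key hφ).2 x

theorem mem_iff_of_isConjElt_of_not_extends {p : ℕ} [Fact p.Prime] [Finite S]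
    (hS : IsPGroup p S)
    {F : FusionSystem S} (hF : F.IsSaturated p) (X : Set Ω)
    (h : ∀ Q : Subgroup Ω, F.IsFullyNormalized Q → F.IsCentric Q → ∀ α ∈ F.autGroup Q,
      ¬ Extends F Q α → ∀ x : Q, (x : Ω) ∈ X ↔ ((α x : Q) : Ω) ∈ X)
    {x y : Ω} (hxy : F.IsConjElt x y) : x ∈ X ↔ y ∈ X := by
  obtain ⟨φ, hφ, rfl⟩ := hxy
  exact mem_iff_of_hom_of_not_extends hS hF X h hφ ⟨x, Subgroup.mem_zpowers x⟩

/-- It is enough to map `X` into `X`. -/
theorem mem_iff_of_maps {Q : Subgroup Ω} [Finite Q] {X : Set Ω} {α : MulAut Q}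
    (h : ∀ x : Q, (x : Ω) ∈ X → ((α x : Q) : Ω) ∈ X) (x : Q) :
    (x : Ω) ∈ X ↔ ((α x : Q) : Ω) ∈ X := by
  have hfin : Finite (MulAut Q) := inferInstance
  refine ⟨h x, fun hx => ?_⟩
  have h1 : ∀ n : ℕ, ((((α ^ n) (α x) : Q)) : Ω) ∈ X := by
    intro n
    induction n with
    | zero => simpa using hx
    | succ n ih =>
      rw [pow_succ']
      exact h _ ih
  obtain ⟨n, hn, hn1⟩ := (isOfFinOrder_of_finite α).exists_pow_eq_one
  obtain ⟨m, rfl⟩ : ∃ m, n = m + 1 := ⟨n - 1, by omega⟩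
  have h2 := h1 m
  rw [← MulAut.mul_apply, ← pow_succ, hn1] at h2
  exact h2

/-- Two commuting distinct involutions cannot exist when the Sylow `2`-subgroups have order `2`. -/
theorem eq_of_commuting_involutions {H : Type*} [Group H] [Finite H] (R : Sylow 2 H)
    (hR : Nat.card R = 2) {σ τ : H} (hσ : σ ^ 2 = 1) (hτ : τ ^ 2 = 1) (hc : σ * τ = τ * σ)
    (hσ1 : σ ≠ 1) (hτ1 : τ ≠ 1) : σ = τ := by
  have : Fact (Nat.Prime 2) := ⟨Nat.prime_two⟩
  have hoσ : orderOf σ = 2 := orderOf_eq_prime hσ hσ1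
  have hoτ : orderOf τ = 2 := orderOf_eq_prime hτ hτ1
  have hPσ : IsPGroup 2 (Subgroup.zpowers σ) :=
    IsPGroup.of_card (n := 1) (by rw [Nat.card_zpowers, hoσ, pow_one])
  have hPτ : IsPGroup 2 (Subgroup.zpowers τ) :=
    IsPGroup.of_card (n := 1) (by rw [Nat.card_zpowers, hoτ, pow_one])
  obtain ⟨Q, hQ⟩ := hPσ.exists_le_sylow
  have hQcard : Nat.card Q = 2 := (Nat.card_congr (Sylow.equiv Q R).toEquiv).trans hR
  have hQeq : Subgroup.zpowers σ = Q := Subgroup.eq_of_le_of_card_ge hQ (by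
    rw [Nat.card_zpowers, hoσ]; exact hQcard.le)
  have h1 := hPτ.inf_normalizer_sylow Q
  have h2 : τ ∈ Subgroup.normalizer ((Q : Subgroup H) : Set H) := by
    rw [← hQeq, Subgroup.mem_normalizer_iff]
    intro x
    constructor
    · rintro ⟨n, rfl⟩
      refine ⟨n, ?_⟩
      change σ ^ n = τ * σ ^ n * τ⁻¹
      have h3 : Commute τ (σ ^ n) := (show Commute τ σ from hc.symm).zpow_right n
      rw [h3.eq, mul_inv_cancel_right]
    · rintro ⟨n, hn⟩
      refine ⟨n, ?_⟩
      change σ ^ n = x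
      change σ ^ n = τ * x * τ⁻¹ at hn
      have h3 : Commute τ (σ ^ n) := (show Commute τ σ from hc.symm).zpow_right n
      have h4 : x = τ⁻¹ * σ ^ n * τ := by rw [hn]; group
      rw [h4, mul_assoc, ← h3.eq, inv_mul_cancel_left]
  have h3 : τ ∈ (Subgroup.zpowers τ ⊓ Subgroup.normalizer ((Q : Subgroup H) : Set H) :
      Subgroup H) := ⟨Subgroup.mem_zpowers τ, h2⟩
  have h4 : τ ∈ Subgroup.zpowers σ := by rw [hQeq]; exact (h1.le h3).2
  obtain ⟨n, hn⟩ := h4
  change σ ^ n = τ at hn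
  rcases Int.even_or_odd n with ⟨m, hm⟩ | ⟨m, hm⟩
  · exfalso
    apply hτ1
    rw [← hn, hm, ← two_mul, zpow_mul]
    have : σ ^ (2 : ℤ) = 1 := by exact_mod_cast hσ
    rw [this, one_zpow]
  · rw [← hn, hm, zpow_add, zpow_mul, zpow_one]
    have : σ ^ (2 : ℤ) = 1 := by exact_mod_cast hσ
    rw [this, one_zpow, one_mul]

end Cfsg.Agent.H617.FusInv
end

-- part: H617/FusTwo
section
/-!
# Fusion and centralizers in small `2`-groups

Notation: `C S x = C_S(x)`, `Z S = Z(S)`, both as subgroups of the ambient group.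
-/

set_option autoImplicit false

namespace Cfsg.Agent.H617.FusTwo

open Cfsg Cfsg.FusionSystem Cfsg.Agent.H802 Cfsg.Agent.H617.FusInv

variable {Ω : Type*} [Group Ω] {S : Subgroup Ω}

/-- The centralizer of `x` in `S`. -/
abbrev C (S : Subgroup Ω) (x : Ω) : Subgroup Ω := centralizerIn S (Subgroup.zpowers x)

/-- The centre of `S`. -/
abbrev Z (S : Subgroup Ω) : Subgroup Ω := centralizerIn S S

theorem mem_C {x y : Ω} : y ∈ C S x ↔ y ∈ S ∧ x * y = y * x := by
  constructor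
  · rintro ⟨h1, h2⟩
    exact ⟨h1, Subgroup.mem_centralizer_iff.1 h2 x (Subgroup.mem_zpowers x)⟩
  · rintro ⟨h1, h2⟩
    refine ⟨h1, Subgroup.mem_centralizer_iff.2 ?_⟩
    rintro _ ⟨n, rfl⟩
    exact ((show Commute x y from h2).zpow_left n).eq

theorem mem_Z {y : Ω} : y ∈ Z S ↔ y ∈ S ∧ ∀ s ∈ S, s * y = y * s := by
  constructor
  · rintro ⟨h1, h2⟩
    exact ⟨h1, fun s hs => Subgroup.mem_centralizer_iff.1 h2 s hs⟩
  · rintro ⟨h1, h2⟩
    exact ⟨h1, Subgroup.mem_centralizer_iff.2 fun s hs => h2 s hs⟩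

theorem Z_le : Z S ≤ S := inf_le_left

theorem C_le (x : Ω) : C S x ≤ S := inf_le_left

theorem Z_le_C {x : Ω} (hx : x ∈ S) : Z S ≤ C S x := fun y hy =>
  mem_C.2 ⟨hy.1, (mem_Z.1 hy).2 x hx⟩

theorem self_mem_C {x : Ω} (hx : x ∈ S) : x ∈ C S x := mem_C.2 ⟨hx, rfl⟩

theorem C_ne {x : Ω} (hx : x ∈ S) (hxZ : x ∉ Z S) : C S x ≠ S := by
  intro h
  apply hxZ
  refine mem_Z.2 ⟨hx, fun s hs => ?_⟩
  rw [← h] at hs
  exact ((mem_C.1 hs).2).symm

theorem Z_le_of_isCentric {F : FusionSystem S} {Q : Subgroup Ω} (hQ : F.IsCentric Q) : Z S ≤ Q := by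
  have h1 := hQ.2 Q (isConj_refl F hQ.1)
  refine le_trans ?_ h1
  intro y hy
  exact ⟨hy.1, Subgroup.mem_centralizer_iff.2 fun q hq => (mem_Z.1 hy).2 q (hQ.1 hq)⟩

theorem mul_mem_iff_of_relIndex_two {H K : Subgroup Ω} (h : H.relIndex K = 2) {a b : Ω}
    (ha : a ∈ K) (hb : b ∈ K) : a * b ∈ H ↔ (a ∈ H ↔ b ∈ H) := by
  have := Subgroup.mul_mem_iff_of_index_two (H := H.subgroupOf K) h (a := ⟨a, ha⟩) (b := ⟨b, hb⟩)
  simpa [Subgroup.mem_subgroupOf] using this

theorem inv_mul_mem_of_relIndex_two {H K : Subgroup Ω} (h : H.relIndex K = 2) {a b : Ω}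
    (ha : a ∈ K) (hb : b ∈ K) (ha' : a ∉ H) (hb' : b ∉ H) : a⁻¹ * b ∈ H := by
  rw [mul_mem_iff_of_relIndex_two h (K.inv_mem ha) hb, inv_mem_iff]
  tauto

/-- Conjugation by an element of `S` acts on a normal subgroup. -/
theorem le_normalizer_of_relIndex_two {H : Subgroup Ω} (hH : H ≤ S) (h : H.relIndex S = 2) :
    S ≤ Subgroup.normalizer (H : Set Ω) := by
  have hn : (H.subgroupOf S).Normal := Subgroup.normal_of_index_eq_two h
  intro s hs
  rw [Subgroup.mem_normalizer_iff]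
  intro x
  constructor
  · intro hx
    have := hn.conj_mem ⟨x, hH hx⟩ (Subgroup.mem_subgroupOf.2 hx) ⟨s, hs⟩
    exact this
  · intro hx
    have := hn.conj_mem ⟨s * x * s⁻¹, hH hx⟩ (Subgroup.mem_subgroupOf.2 hx) ⟨s⁻¹, S.inv_mem hs⟩
    have h2 : s⁻¹ * (s * x * s⁻¹) * s⁻¹⁻¹ ∈ H := this
    have h3 : s⁻¹ * (s * x * s⁻¹) * s⁻¹⁻¹ = x := by group
    rwa [h3] at h2

theorem isFullyNormalized_of_le_normalizer [Finite S] (F : FusionSystem S) {H : Subgroup Ω}
    (hH : H ≤ S) (h : S ≤ Subgroup.normalizer (H : Set Ω)) : F.IsFullyNormalized H := by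
  refine ⟨hH, fun Q hQ => ?_⟩
  have h1 : normalizerIn S H = S := inf_eq_left.2 h
  rw [h1]
  have : Finite (normalizerIn S Q) := finite_of_le inf_le_left
  exact Nat.card_le_card_of_injective _ (Subgroup.inclusion_injective
    (inf_le_left : normalizerIn S Q ≤ S))

/-! ### `|S : Z(S)| = 4` -/

section Quarter

variable (h4 : (Z S).relIndex S = 4)
include h4

theorem relIndex_of_between {Q : Subgroup Ω} (hZ : Z S ≤ Q) (hQ : Q ≤ S) {x : Ω} (hx : x ∈ Q)
    (hxZ : x ∉ Z S) (hne : Q ≠ S) : (Z S).relIndex Q = 2 ∧ Q.relIndex S = 2 := by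
  have h1 := Subgroup.relIndex_mul_relIndex (Z S) Q S hZ hQ
  rw [h4] at h1
  have h2 : (Z S).relIndex Q ≠ 1 := fun h => hxZ (Subgroup.relIndex_eq_one.1 h hx)
  have h3 : Q.relIndex S ≠ 1 := fun h => hne (le_antisymm hQ (Subgroup.relIndex_eq_one.1 h))
  have h5 : (Z S).relIndex Q ∣ 4 := ⟨_, h1.symm⟩
  have h6 : (Z S).relIndex Q ≤ 4 := Nat.le_of_dvd (by norm_num) h5
  generalize (Z S).relIndex Q = m at *
  generalize Q.relIndex S = n at *
  interval_cases m <;> omega

theorem relIndex_C {x : Ω} (hx : x ∈ S) (hxZ : x ∉ Z S) :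
    (Z S).relIndex (C S x) = 2 ∧ (C S x).relIndex S = 2 :=
  relIndex_of_between h4 (Z_le_C hx) (C_le x) (self_mem_C hx) hxZ (C_ne hx hxZ)

theorem eq_C_of_between {Q : Subgroup Ω} (hZ : Z S ≤ Q) (hQ : Q ≤ S) {x : Ω} (hx : x ∈ Q)
    (hxZ : x ∉ Z S) (hne : Q ≠ S) : Q = C S x := by
  have h1 := relIndex_of_between h4 hZ hQ hx hxZ hne
  have h2 := relIndex_C h4 (hQ hx) hxZ
  apply le_antisymm
  · intro y hy
    refine mem_C.2 ⟨hQ hy, ?_⟩
    by_cases hyZ : y ∈ Z S
    · exact (mem_Z.1 hyZ).2 x (hQ hx)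
    · have h3 := inv_mul_mem_of_relIndex_two h1.1 hx hy hxZ hyZ
      have h4' := (mem_Z.1 h3).2 x (hQ hx)
      calc x * y = x * (x * (x⁻¹ * y)) := by group
        _ = x * (x⁻¹ * y * x) := by rw [h4']
        _ = y * x := by group
  · intro y hy
    by_cases hyZ : y ∈ Z S
    · exact hZ hyZ
    · have h3 := inv_mul_mem_of_relIndex_two h2.1 (self_mem_C (hQ hx)) hy hxZ hyZ
      have h5 : y = x * (x⁻¹ * y) := by group
      rw [h5]
      exact Q.mul_mem hx (hZ h3)

theorem C_eq_of_mem {x y : Ω} (hx : x ∈ S) (hxZ : x ∉ Z S) (hy : y ∈ C S x) (hyZ : y ∉ Z S) :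
    C S x = C S y :=
  eq_C_of_between h4 (Z_le_C hx) (C_le x) hy hyZ (C_ne hx hxZ)

theorem comm_of_mem_C {x a b : Ω} (hx : x ∈ S) (hxZ : x ∉ Z S) (ha : a ∈ C S x)
    (hb : b ∈ C S x) : a * b = b * a := by
  by_cases haZ : a ∈ Z S
  · exact ((mem_Z.1 haZ).2 b hb.1).symm
  · rw [C_eq_of_mem h4 hx hxZ ha haZ] at hb
    exact (mem_C.1 hb).2

theorem sq_mem_Z {x a : Ω} (hx : x ∈ S) (hxZ : x ∉ Z S) (ha : a ∈ C S x) : a * a ∈ Z S := by
  rw [mul_mem_iff_of_relIndex_two (relIndex_C h4 hx hxZ).1 ha ha]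

/-- An element of `C_S(x)` commuting with some `s` outside `C_S(x)` is central. -/
theorem mem_Z_of_comm {x a s : Ω} (hx : x ∈ S) (hxZ : x ∉ Z S) (ha : a ∈ C S x) (hs : s ∈ S)
    (hsx : s ∉ C S x) (h : s * a = a * s) : a ∈ Z S := by
  by_contra haZ
  rw [C_eq_of_mem h4 hx hxZ ha haZ] at hsx
  exact hsx (mem_C.2 ⟨hs, h.symm⟩)

end Quarter

/-! ### The bad subgroups -/

/-- Conjugation by `s ∈ S` on a subgroup it normalizes. -/
theorem exists_conjAut_mem {F : FusionSystem S} {Q : Subgroup Ω} (hQ : Q ≤ S) {s : Ω}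
    (hs : s ∈ S) (hn : s ∈ Subgroup.normalizer (Q : Set Ω)) :
    ∃ τ ∈ F.autGroup Q, τ ∈ autInducedBy S Q ∧ ∀ x : Q, ((τ x : Q) : Ω) = s * x * s⁻¹ := by
  obtain ⟨τ, hτ⟩ := exists_conjAut hn
  have h1 : τ ∈ autInducedBy S Q := (mem_autInducedBy_iff S Q τ).2 ⟨s, hs, hτ⟩
  exact ⟨τ, autInducedBy_le_autGroup F hQ h1, h1, hτ⟩

/-- For `|S : Q| = 2` and `Q = C_S(Q)` the group `Aut_S(Q)` has order two. -/
theorem card_autInducedBy_of_relIndex_two {Q : Subgroup Ω} (hQ : Q ≤ S) (h2 : Q.relIndex S = 2)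
    (hab : ∀ a ∈ Q, ∀ b ∈ Q, a * b = b * a) {s : Ω} (hs : s ∈ S) {x : Ω} (hx : x ∈ Q)
    (hsx : s * x ≠ x * s) : Nat.card (autInducedBy S Q) = 2 := by
  have hnorm := le_normalizer_of_relIndex_two hQ h2
  obtain ⟨τ, hτ⟩ := exists_conjAut (P := Q) (hnorm hs)
  have hτm : τ ∈ autInducedBy S Q := (mem_autInducedBy_iff S Q τ).2 ⟨s, hs, hτ⟩
  have hsQ : s ∉ Q := fun h => hsx (hab s h x hx)
  have hτ1 : τ ≠ 1 := by
    intro h
    have h3 := hτ ⟨x, hx⟩
    rw [h] at h3
    apply hsx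
    have h3' : x = s * x * s⁻¹ := h3
    calc s * x = s * x * s⁻¹ * s := by group
      _ = x * s := by rw [← h3']
  have key : ((autInducedBy S Q : Subgroup (MulAut Q)) : Set (MulAut Q)) = {1, τ} := by
    ext σ
    constructor
    · intro hσ
      obtain ⟨g, hg, hσg⟩ := (mem_autInducedBy_iff S Q σ).1 hσ
      by_cases hgQ : g ∈ Q
      · left
        apply MulEquiv.ext
        intro y
        apply Subtype.ext
        rw [hσg, hab g hgQ y y.2, mul_inv_cancel_right]
        rfl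
      · right
        apply MulEquiv.ext
        intro y
        apply Subtype.ext
        rw [hσg, hτ]
        have h3 := inv_mul_mem_of_relIndex_two h2 hs hg hsQ hgQ
        have h5 := hab _ h3 y y.2
        calc g * (y : Ω) * g⁻¹ = s * ((s⁻¹ * g) * y) * g⁻¹ := by group
          _ = s * (y * (s⁻¹ * g)) * g⁻¹ := by rw [h5]
          _ = s * y * s⁻¹ := by group
    · rintro (rfl | rfl)
      · exact Subgroup.one_mem _
      · exact hτm
  have : Nat.card (autInducedBy S Q) =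
      Set.ncard ((autInducedBy S Q : Subgroup (MulAut Q)) : Set (MulAut Q)) := rfl
  rw [this, key, Set.ncard_pair hτ1.symm]

/-- The key lemma: a map of the system not preserving `Z(S)` on an abelian subgroup `Q` of index `2`. -/
theorem exists_involution_of_not_mem [Finite S] (hS : IsPGroup 2 S)
    {F : FusionSystem S} (hF : F.IsSaturated 2) (h4 : (Z S).relIndex S = 4) {z : Ω} (hz : z ∈ Z S)
    (hz2 : z * z = 1) (hcom : ∀ a ∈ S, ∀ b ∈ S, a * b = b * a ∨ a * b = b * a * z)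
    {x : Ω} (hx : x ∈ S) (hxZ : x ∉ Z S) {α : MulAut (C S x)} (hα : α ∈ F.autGroup (C S x))
    {y : C S x} (hy : ¬ ((y : Ω) ∈ Z S ↔ ((α y : C S x) : Ω) ∈ Z S)) :
    (∃ i ∈ C S x, i ∉ Z S ∧ i * i = 1) ∧ ∀ w ∈ Z S, w * w ≠ z := by
  have hp : Fact (Nat.Prime 2) := ⟨Nat.prime_two⟩
  obtain ⟨hr1, hr2⟩ := relIndex_C h4 hx hxZ
  have hCS : C S x ≤ S := C_le x
  have hfin : Finite (C S x) := finite_of_le hCS
  have hfinM : Finite (MulAut (C S x)) := inferInstance
  have hnorm := le_normalizer_of_relIndex_two hCS hr2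
  have hab : ∀ a ∈ C S x, ∀ b ∈ C S x, a * b = b * a := fun a ha b hb =>
    comm_of_mem_C h4 hx hxZ ha hb
  obtain ⟨s, hs, hsC⟩ : ∃ s ∈ S, s ∉ C S x := by
    by_contra hcon
    push Not at hcon
    exact C_ne hx hxZ (le_antisymm hCS hcon)
  have hsx : s * x ≠ x * s := fun h => hsC (mem_C.2 ⟨hs, h.symm⟩)
  have hcard := card_autInducedBy_of_relIndex_two hCS hr2 hab hs (self_mem_C hx) hsx
  obtain ⟨-, R, hR⟩ := isFullyAutomized_of_isFullyNormalized hS hF
    (isFullyNormalized_of_le_normalizer F hCS hnorm)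
  have hRcard : Nat.card R = 2 := by
    have h1 : Nat.card R = Nat.card ((autInducedBy S (C S x)).subgroupOf (F.autGroup (C S x))) := by
      rw [← hR]
    rw [h1, Nat.card_congr (Subgroup.subgroupOfEquivOfLe
      (autInducedBy_le_autGroup F hCS)).toEquiv, hcard]
  obtain ⟨τ, hτF, hτS, hτ⟩ := exists_conjAut_mem (F := F) hCS hs (hnorm hs)
  have hτZ : ∀ a : C S x, (a : Ω) ∈ Z S ↔ τ a = a := by
    intro a
    constructor
    · intro ha
      apply Subtype.ext
      rw [hτ, (mem_Z.1 ha).2 s hs, mul_inv_cancel_right]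
    · intro ha
      have h1 := hτ a
      rw [ha] at h1
      refine mem_Z_of_comm h4 hx hxZ a.2 hs hsC ?_
      calc s * (a : Ω) = s * a * s⁻¹ * s := by group
        _ = a * s := by rw [← h1]
  have hτ2 : τ * τ = 1 := by
    apply MulEquiv.ext
    intro a
    apply Subtype.ext
    rw [MulAut.mul_apply, hτ, hτ]
    have h1 : s * s ∈ C S x := by
      rw [mul_mem_iff_of_relIndex_two hr2 hs hs]
    have h2 := hab _ h1 a a.2
    calc s * (s * (a : Ω) * s⁻¹) * s⁻¹ = (s * s * a) * (s * s)⁻¹ := by group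
      _ = a := by rw [h2]; group
  have hτz : ∀ a : C S x, ((τ a : C S x) : Ω) = a ∨ ((τ a : C S x) : Ω) = a * z := by
    intro a
    rw [hτ]
    rcases hcom s hs a (hCS a.2) with h1 | h1
    · left
      rw [h1, mul_inv_cancel_right]
    · right
      rw [h1, mul_assoc (a : Ω) s z, (mem_Z.1 hz).2 s hs, mul_assoc, mul_assoc,
        mul_inv_cancel, mul_one]
  let zC : C S x := ⟨z, Z_le_C hx hz⟩
  have hτz' : ∀ a : C S x, τ a = a ∨ τ a = a * zC := by
    intro a
    rcases hτz a with h1 | h1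
    · exact Or.inl (Subtype.ext h1)
    · exact Or.inr (Subtype.ext h1)
  obtain ⟨τ₁, hτ₁⟩ : ∃ t : MulAut (C S x), t = α * τ * α⁻¹ := ⟨_, rfl⟩
  have hτ₁a : ∀ a : C S x, τ₁ a = α (τ (α⁻¹ a)) := fun a => by rw [hτ₁]; rfl
  have hne : τ₁ ≠ τ := by
    intro he
    apply hy
    have h1 : ∀ a : C S x, (a : Ω) ∈ Z S ↔ ((α⁻¹ a : C S x) : Ω) ∈ Z S := by
      intro a
      have h0 : τ a = α (τ (α⁻¹ a)) := by rw [← hτ₁a, he]
      rw [hτZ, hτZ, h0]
      constructor
      · intro h2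
        calc τ (α⁻¹ a) = α⁻¹ (α (τ (α⁻¹ a))) := by simp
          _ = α⁻¹ a := by rw [h2]
      · intro h3
        rw [h3]
        simp
    have h2 := h1 (α y)
    simp only [MulAut.inv_apply_self] at h2
    exact h2.symm
  have hnc : ¬ (τ * τ₁ = τ₁ * τ) := by
    intro hc
    have hσ2 : (⟨τ, hτF⟩ : F.autGroup (C S x)) ^ 2 = 1 := by
      apply Subtype.ext
      rw [pow_two]
      exact hτ2
    have hmem₁ : τ₁ ∈ F.autGroup (C S x) := by
      rw [hτ₁]
      exact Subgroup.mul_mem _ (Subgroup.mul_mem _ hα hτF) (Subgroup.inv_mem _ hα)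
    have hσ2' : (⟨τ₁, hmem₁⟩ : F.autGroup (C S x)) ^ 2 = 1 := by
      apply Subtype.ext
      rw [pow_two]
      change τ₁ * τ₁ = 1
      rw [hτ₁]
      calc α * τ * α⁻¹ * (α * τ * α⁻¹) = α * (τ * τ) * α⁻¹ := by group
        _ = 1 := by rw [hτ2]; group
    have hτ1 : τ ≠ 1 := by
      intro h
      apply hxZ
      rw [show x = ((⟨x, self_mem_C hx⟩ : C S x) : Ω) from rfl, hτZ, h]
      rfl
    have h5 := eq_of_commuting_involutions R hRcard hσ2 hσ2' (Subtype.ext hc)
      (fun h => hτ1 (congrArg Subtype.val h))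
      (fun h => hτ1 (by
        have h6 : τ₁ = 1 := congrArg Subtype.val h
        have h7 : τ = α⁻¹ * τ₁ * α := by rw [hτ₁]; group
        rw [h7, h6]
        group))
    exact hne (congrArg Subtype.val h5).symm
  -- one of `α z`, `α⁻¹ z` is not central
  have hor : ¬ ((α zC : C S x) : Ω) ∈ Z S ∨ ¬ ((α⁻¹ zC : C S x) : Ω) ∈ Z S := by
    by_contra hcon
    push Not at hcon
    obtain ⟨hc1, hc2⟩ := hcon
    apply hnc
    have hτ₁z : ∀ a : C S x, τ₁ a = a ∨ τ₁ a = a * α zC := by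
      intro a
      rw [hτ₁a]
      rcases hτz' (α⁻¹ a) with h1 | h1
      · left
        rw [h1]
        simp
      · right
        rw [h1, map_mul]
        simp
    have hf1 : τ (α zC) = α zC := (hτZ _).1 hc1
    have hf2 : τ₁ zC = zC := by
      rw [hτ₁a, (hτZ _).1 hc2]
      simp
    have hcomm : ∀ a b c : C S x, a * b * c = a * c * b := by
      intro a b c
      apply Subtype.ext
      change (a : Ω) * b * c = a * c * b
      rw [mul_assoc, mul_assoc, hab b b.2 c c.2]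
    apply MulEquiv.ext
    intro a
    rw [MulAut.mul_apply, MulAut.mul_apply]
    rcases hτz' a with h1 | h1 <;> rcases hτ₁z a with h2 | h2
    · rw [h1, h2, h1]
    · rw [h1, h2, map_mul, h1, hf1]
    · rw [h1, h2, map_mul, h2, hf2, h1]
    · rw [h1, h2, map_mul, map_mul, h1, h2, hf1, hf2]
      exact hcomm _ _ _
  -- conclusion
  have main : ∀ β : MulAut (C S x), ¬ ((β zC : C S x) : Ω) ∈ Z S →
      (∃ i ∈ C S x, i ∉ Z S ∧ i * i = 1) ∧ ∀ w ∈ Z S, w * w ≠ z := by
    intro β hβ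
    refine ⟨⟨(β zC : C S x), (β zC).2, hβ, ?_⟩, ?_⟩
    · have h1 : zC * zC = 1 := Subtype.ext hz2
      have h2 : β zC * β zC = 1 := by rw [← map_mul, h1, map_one]
      exact congrArg Subtype.val h2
    · intro w hw hwz
      apply hβ
      have h1 : (⟨w, Z_le_C hx hw⟩ : C S x) * ⟨w, Z_le_C hx hw⟩ = zC := Subtype.ext hwz
      rw [← h1, map_mul]
      exact sq_mem_Z h4 hx hxZ (β _).2
  rcases hor with h | h
  · exact main α h
  · exact main α⁻¹ h

/-- `x` is good: the maps of the system on `C_S(x)` preserve `Z(S)`. -/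
def Good (F : FusionSystem S) (x : Ω) : Prop :=
  x ∈ S ∧ x ∉ Z S ∧ ∀ α ∈ F.autGroup (C S x), ∀ y : C S x,
    (y : Ω) ∈ Z S ↔ ((α y : C S x) : Ω) ∈ Z S

theorem exists_good [Finite S] (hS : IsPGroup 2 S)
    {F : FusionSystem S} (hF : F.IsSaturated 2) (h4 : (Z S).relIndex S = 4) {z : Ω} (hz : z ∈ Z S)
    (hz2 : z * z = 1) (hcom : ∀ a ∈ S, ∀ b ∈ S, a * b = b * a ∨ a * b = b * a * z) :
    ∃ x, Good F x := by
  by_contra hcon
  have hbad : ∀ x ∈ S, x ∉ Z S → (∃ i ∈ C S x, i ∉ Z S ∧ i * i = 1) ∧ ∀ w ∈ Z S, w * w ≠ z := by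
    intro x hx hxZ
    by_contra hno
    apply hcon
    refine ⟨x, hx, hxZ, fun α hα y => ?_⟩
    by_contra hy
    exact hno (exists_involution_of_not_mem hS hF h4 hz hz2 hcom hx hxZ hα hy)
  obtain ⟨x₁, hx₁, hx₁Z⟩ : ∃ x ∈ S, x ∉ Z S := by
    by_contra hno
    push Not at hno
    have h1 : (Z S).relIndex S = 1 := Subgroup.relIndex_eq_one.2 hno
    omega
  obtain ⟨⟨i₁, hi₁, hi₁Z, hi₁2⟩, hsq⟩ := hbad x₁ hx₁ hx₁Z
  have hi₁S : i₁ ∈ S := hi₁.1
  obtain ⟨x₂, hx₂, hx₂C⟩ : ∃ x ∈ S, x ∉ C S i₁ := by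
    by_contra hno
    push Not at hno
    exact C_ne hi₁S hi₁Z (le_antisymm (C_le _) hno)
  have hx₂Z : x₂ ∉ Z S := fun h => hx₂C (Z_le_C hi₁S h)
  obtain ⟨⟨i₂, hi₂, hi₂Z, hi₂2⟩, -⟩ := hbad x₂ hx₂ hx₂Z
  have hi₂S : i₂ ∈ S := hi₂.1
  have hi₂C : i₂ ∉ C S i₁ := by
    intro h
    have h1 := C_eq_of_mem h4 hi₁S hi₁Z h hi₂Z
    have h2 := C_eq_of_mem h4 hx₂ hx₂Z hi₂ hi₂Z
    exact hx₂C (by rw [h1, ← h2]; exact self_mem_C hx₂)
  have hx₃ : i₁ * i₂ ∈ S := S.mul_mem hi₁S hi₂S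
  have hx₃Z : i₁ * i₂ ∉ Z S := by
    intro h
    apply hi₂C
    have h1 := (mem_Z.1 h).2 i₁ hi₁S
    refine mem_C.2 ⟨hi₂S, ?_⟩
    calc i₁ * i₂ = i₁⁻¹ * (i₁ * (i₁ * i₂)) := by group
      _ = i₁⁻¹ * (i₁ * i₂ * i₁) := by rw [h1]
      _ = i₂ * i₁ := by group
  obtain ⟨⟨i₃, hi₃, hi₃Z, hi₃2⟩, -⟩ := hbad _ hx₃ hx₃Z
  have hw := inv_mul_mem_of_relIndex_two (relIndex_C h4 hx₃ hx₃Z).1 (self_mem_C hx₃) hi₃ hx₃Z hi₃Z
  set w := (i₁ * i₂)⁻¹ * i₃ with hwdef
  have hi₃e : i₃ = i₁ * i₂ * w := by rw [hwdef]; group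
  have hwc : ∀ s ∈ S, s * w = w * s := (mem_Z.1 hw).2
  have h12 : i₁ * i₂ * (i₁ * i₂) = z := by
    rcases hcom i₁ hi₁S i₂ hi₂S with h | h
    · exact absurd (mem_C.2 ⟨hi₂S, h⟩) hi₂C
    · calc i₁ * i₂ * (i₁ * i₂) = i₁ * i₂ * (i₂ * i₁ * z) := by rw [← h]
        _ = i₁ * (i₂ * i₂) * i₁ * z := by group
        _ = z := by rw [hi₂2, mul_one, hi₁2, one_mul]
  have h3 : z * (w * w) = 1 := by
    calc z * (w * w) = i₁ * i₂ * (i₁ * i₂ * w) * w := by rw [← h12]; group
      _ = i₁ * i₂ * (w * (i₁ * i₂)) * w := by rw [hwc _ hx₃]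
      _ = (i₁ * i₂ * w) * (i₁ * i₂ * w) := by group
      _ = 1 := by rw [← hi₃e, hi₃2]
  apply hsq w hw
  calc w * w = z * z * (w * w) := by rw [hz2, one_mul]
    _ = z * (z * (w * w)) := by group
    _ = z := by rw [h3, mul_one]

theorem aut_preserves_Z {α : MulAut S} (y : S) :
    (y : Ω) ∈ Z S ↔ ((α y : S) : Ω) ∈ Z S := by
  have key : ∀ (β : MulAut S) (y : S), (y : Ω) ∈ Z S → ((β y : S) : Ω) ∈ Z S := by
    intro β y hy
    refine mem_Z.2 ⟨(β y).2, fun s hs => ?_⟩
    have h1 := (mem_Z.1 hy).2 (β⁻¹ ⟨s, hs⟩ : S) (β⁻¹ ⟨s, hs⟩ : S).2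
    have h2 : (β⁻¹ ⟨s, hs⟩ : S) * y = y * (β⁻¹ ⟨s, hs⟩ : S) := Subtype.ext h1
    have h3 := congrArg β h2
    rw [map_mul, map_mul, MulAut.apply_inv_self] at h3
    exact congrArg Subtype.val h3
  refine ⟨key α y, fun h => ?_⟩
  have := key α⁻¹ _ h
  rwa [MulAut.inv_apply_self] at this

theorem good_aut [Finite S] {F : FusionSystem S} {α : MulAut S} (hα : α ∈ F.autGroup S) (x : S)
    (hx : Good F (x : Ω)) : Good F ((α x : S) : Ω) := by
  obtain ⟨hxS, hxZ, hg⟩ := hx
  refine ⟨(α x).2, fun h => hxZ ((aut_preserves_Z (α := α) x).2 h), ?_⟩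
  have hαF := (mem_autGroup_iff F le_rfl α).1 hα
  -- restriction of `α` to `C_S(x)`
  have hCS : C S (x : Ω) ≤ S := C_le _
  have hφ := restrict_mem hαF hCS
  have hmap : ∀ y : S, (y : Ω) ∈ C S (x : Ω) ↔ ((α y : S) : Ω) ∈ C S ((α x : S) : Ω) := by
    intro y
    rw [mem_C, mem_C]
    constructor
    · rintro ⟨-, h⟩
      have h2 : x * y = y * x := Subtype.ext h
      have h3 := congrArg α h2
      rw [map_mul, map_mul] at h3
      exact ⟨(α y).2, congrArg Subtype.val h3⟩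
    · rintro ⟨-, h⟩
      have h2 : α x * α y = α y * α x := Subtype.ext h
      rw [← map_mul, ← map_mul] at h2
      exact ⟨y.2, congrArg Subtype.val (α.injective h2)⟩
  have hrange : ((S.subtype.comp α.toMonoidHom).comp (Subgroup.inclusion hCS)).range =
      C S ((α x : S) : Ω) := by
    ext w
    constructor
    · rintro ⟨y, rfl⟩
      exact (hmap ⟨y, hCS y.2⟩).1 y.2
    · intro hw
      have hwS : w ∈ S := hw.1
      have h1 : ((α (α⁻¹ ⟨w, hwS⟩) : S) : Ω) ∈ C S ((α x : S) : Ω) := by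
        rw [MulAut.apply_inv_self]
        exact hw
      refine ⟨⟨(α⁻¹ ⟨w, hwS⟩ : S), (hmap _).2 h1⟩, ?_⟩
      change ((α (α⁻¹ ⟨w, hwS⟩) : S) : Ω) = w
      rw [MulAut.apply_inv_self]
  intro β hβ y
  obtain ⟨β', rfl⟩ : ∃ β' : MulAut (C S (x : Ω)),
      MulAut.congr (isoOf _ (F.injective_of_mem hφ) hrange) β' = β :=
    (MulAut.congr (isoOf _ (F.injective_of_mem hφ) hrange)).surjective β
  rw [congr_mem_autGroup_iff hφ hrange] at hβ
  have h1 := hg β' hβ ((isoOf _ (F.injective_of_mem hφ) hrange).symm y)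
  have hiso : ∀ t : C S (x : Ω), (t : Ω) ∈ Z S ↔
      ((isoOf _ (F.injective_of_mem hφ) hrange t : C S ((α x : S) : Ω)) : Ω) ∈ Z S := by
    intro t
    rw [coe_isoOf]
    exact aut_preserves_Z (α := α) ⟨t, hCS t.2⟩
  rw [hiso, MulEquiv.apply_symm_apply, hiso] at h1
  exact h1

/-- The set of good elements is closed under the maps of the system. -/
theorem good_iff_of_isConjElt [Finite S] (hS : IsPGroup 2 S)
    {F : FusionSystem S} (hF : F.IsSaturated 2) (h4 : (Z S).relIndex S = 4) {x y : Ω}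
    (hxy : F.IsConjElt x y) : Good F x ↔ Good F y := by
  have : Fact (Nat.Prime 2) := ⟨Nat.prime_two⟩
  refine mem_iff_of_isConjElt hS hF {x | Good F x} (fun Q hQn hQc α hα => ?_) hxy
  have hfin : Finite Q := finite_of_le hQc.1
  refine mem_iff_of_maps fun x hx => ?_
  by_cases hQS : Q = S
  · subst hQS
    exact good_aut hα x hx
  · obtain ⟨hxS, hxZ, hg⟩ := hx
    have hQ := eq_C_of_between h4 (Z_le_of_isCentric hQc) hQc.1 x.2 hxZ hQS
    have h1 : ((α x : Q) : Ω) ∉ Z S := by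
      have h2 : ∀ (R : Subgroup Ω) (hR : R = C S (x : Ω)) (β : MulAut R), β ∈ F.autGroup R →
          ∀ y : R, (y : Ω) ∈ Z S ↔ ((β y : R) : Ω) ∈ Z S := by
        rintro R rfl β hβ
        exact hg β hβ
      intro h
      exact hxZ ((h2 Q hQ α hα x).2 h)
    have h2 := eq_C_of_between h4 (Z_le_of_isCentric hQc) hQc.1 (α x).2 h1 hQS
    refine ⟨hQc.1 (α x).2, h1, ?_⟩
    rw [← h2, hQ]
    exact hg

/-- **The case `|S : Z(S)| = 4`, `Z(S)` not elementary abelian.** -/
theorem exists_noncentral_of_quarter [Finite S] (hS : IsPGroup 2 S)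
    {F : FusionSystem S} (hF : F.IsSaturated 2) (h4 : (Z S).relIndex S = 4) {z : Ω} (hz : z ∈ Z S)
    (hz2 : z * z = 1) (hcom : ∀ a ∈ S, ∀ b ∈ S, a * b = b * a ∨ a * b = b * a * z)
    (hy : ∃ y ∈ Z S, y * y ≠ 1) :
    ∃ u ∈ S, u * u ≠ 1 ∧ ∀ v, F.IsConjElt u v → v ∈ S ∧ v ∉ Z S := by
  obtain ⟨x, hx⟩ := exists_good hS hF h4 hz hz2 hcom
  obtain ⟨y, hy, hy2⟩ := hy
  have hyc := (mem_Z.1 hy).2 x hx.1
  have hxy : Good F (x * y) := by
    have h1 : x * y ∉ Z S := fun h => hx.2.1 (by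
      have h2 := (Z S).mul_mem h ((Z S).inv_mem hy)
      rwa [mul_inv_cancel_right] at h2)
    have h3 : x * y ∈ C S x := (C S x).mul_mem (self_mem_C hx.1) (Z_le_C hx.1 hy)
    have h2 := C_eq_of_mem h4 hx.1 hx.2.1 h3 h1
    refine ⟨S.mul_mem hx.1 (Z_le hy), h1, ?_⟩
    rw [← h2]
    exact hx.2.2
  by_cases hx2 : x * x = 1
  · refine ⟨x * y, hxy.1, fun h => hy2 ?_, fun v hv => ?_⟩
    · calc y * y = x * x * (y * y) := by rw [hx2, one_mul]
        _ = x * (x * y) * y := by group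
        _ = x * (y * x) * y := by rw [hyc]
        _ = x * y * (x * y) := by group
        _ = 1 := h
    · have := (good_iff_of_isConjElt hS hF h4 hv).1 hxy
      exact ⟨this.1, this.2.1⟩
  · refine ⟨x, hx.1, hx2, fun v hv => ?_⟩
    have := (good_iff_of_isConjElt hS hF h4 hv).1 hx
    exact ⟨this.1, this.2.1⟩

end Cfsg.Agent.H617.FusTwo
end

-- part: H617/FusFour
section
/-!
# Commutators in small `2`-groups

`E S = [S, S]`.
-/

set_option autoImplicit false

namespace Cfsg.Agent.H617.FusFour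

open Cfsg Cfsg.FusionSystem Cfsg.Agent.H802 Cfsg.Agent.H617.FusInv Cfsg.Agent.H617.FusTwo

variable {Ω : Type*} [Group Ω] {S : Subgroup Ω}

/-- The commutator subgroup. -/
abbrev E (S : Subgroup Ω) : Subgroup Ω := ⁅S, S⁆

theorem comm_mem {a b : Ω} (ha : a ∈ S) (hb : b ∈ S) : a * b * a⁻¹ * b⁻¹ ∈ E S :=
  Subgroup.commutator_mem_commutator ha hb

theorem E_le : E S ≤ S := by
  rw [Subgroup.commutator_le]
  intro a ha b hb
  exact S.mul_mem (S.mul_mem (S.mul_mem ha hb) (S.inv_mem ha)) (S.inv_mem hb)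

theorem conj_mem_E {s e : Ω} (hs : s ∈ S) (he : e ∈ E S) : s * e * s⁻¹ ∈ E S := by
  have h1 : s * e * s⁻¹ = (s * e * s⁻¹ * e⁻¹) * e := by group
  rw [h1]
  exact (E S).mul_mem (comm_mem hs (E_le he)) he

theorem E_le_of_comm {N : Subgroup Ω} (h : ∀ a ∈ S, ∀ b ∈ S, a * b * a⁻¹ * b⁻¹ ∈ N) : E S ≤ N :=
  Subgroup.commutator_le.2 h

theorem E_le_of_relIndex_two {A : Subgroup Ω} (h : A.relIndex S = 2) : E S ≤ A := by
  refine E_le_of_comm fun a ha b hb => ?_
  rw [mul_mem_iff_of_relIndex_two h (S.mul_mem (S.mul_mem ha hb) (S.inv_mem ha)) (S.inv_mem hb),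
    mul_mem_iff_of_relIndex_two h (S.mul_mem ha hb) (S.inv_mem ha),
    mul_mem_iff_of_relIndex_two h ha hb, inv_mem_iff, inv_mem_iff]
  tauto

theorem card_eq_mul_relIndex {H K : Subgroup Ω} (h : H ≤ K) :
    Nat.card K = Nat.card H * H.relIndex K := by
  have h1 := (H.subgroupOf K).card_mul_index
  rw [Nat.card_congr (Subgroup.subgroupOfEquivOfLe h).toEquiv] at h1
  exact h1.symm

/-- The class of `x` in `S` has at most `|[S, S]|` elements. -/
theorem relIndex_C_le [Finite S] {x : Ω} (hx : x ∈ S) : (C S x).relIndex S ≤ Nat.card (E S) := by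
  have hfin : Finite (E S) := finite_of_le E_le
  let f : S ⧸ (C S x).subgroupOf S → E S :=
    Quotient.lift (fun s : S => (⟨(s : Ω) * x * (s : Ω)⁻¹ * x⁻¹, comm_mem s.2 hx⟩ : E S))
      (by
        intro a b hab
        have h1 : a⁻¹ * b ∈ (C S x).subgroupOf S := QuotientGroup.leftRel_apply.1 hab
        have h2 : x * ((a : Ω)⁻¹ * b) = (a : Ω)⁻¹ * b * x := (mem_C.1 h1).2
        apply Subtype.ext
        change (a : Ω) * x * (a : Ω)⁻¹ * x⁻¹ = b * x * (b : Ω)⁻¹ * x⁻¹
        have h3 : (b : Ω) * x * (b : Ω)⁻¹ = a * ((a : Ω)⁻¹ * b * x) * (b : Ω)⁻¹ := by group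
        rw [h3, ← h2]
        group)
  have hinj : Function.Injective f := by
    intro a b
    induction a using QuotientGroup.induction_on with
    | H a =>
      induction b using QuotientGroup.induction_on with
      | H b =>
        intro hab
        have h1 : (a : Ω) * x * (a : Ω)⁻¹ * x⁻¹ = b * x * (b : Ω)⁻¹ * x⁻¹ :=
          congrArg Subtype.val hab
        apply QuotientGroup.eq.2
        refine mem_C.2 ⟨(a⁻¹ * b).2, ?_⟩
        change x * ((a : Ω)⁻¹ * b) = (a : Ω)⁻¹ * b * x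
        have h2 : (a : Ω) * x * (a : Ω)⁻¹ = b * x * (b : Ω)⁻¹ := mul_right_cancel h1
        calc x * ((a : Ω)⁻¹ * b) = (a : Ω)⁻¹ * (a * x * (a : Ω)⁻¹) * b := by group
          _ = (a : Ω)⁻¹ * (b * x * (b : Ω)⁻¹) * b := by rw [h2]
          _ = (a : Ω)⁻¹ * b * x := by group
  exact Nat.card_le_card_of_injective f hinj

/-- If the class of `x` has `|[S, S]|` elements then every element of `[S, S]` is a commutator with `x`. -/
theorem exists_comm_of_relIndex [Finite S] {x : Ω} (hx : x ∈ S)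
    (h : (C S x).relIndex S = Nat.card (E S)) {e : Ω} (he : e ∈ E S) :
    ∃ s ∈ S, s * x * s⁻¹ = e * x := by
  have hfin : Finite (E S) := finite_of_le E_le
  let f : S ⧸ (C S x).subgroupOf S → E S :=
    Quotient.lift (fun s : S => (⟨(s : Ω) * x * (s : Ω)⁻¹ * x⁻¹, comm_mem s.2 hx⟩ : E S))
      (by
        intro a b hab
        have h1 : a⁻¹ * b ∈ (C S x).subgroupOf S := QuotientGroup.leftRel_apply.1 hab
        have h2 : x * ((a : Ω)⁻¹ * b) = (a : Ω)⁻¹ * b * x := (mem_C.1 h1).2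
        apply Subtype.ext
        change (a : Ω) * x * (a : Ω)⁻¹ * x⁻¹ = b * x * (b : Ω)⁻¹ * x⁻¹
        have h3 : (b : Ω) * x * (b : Ω)⁻¹ = a * ((a : Ω)⁻¹ * b * x) * (b : Ω)⁻¹ := by group
        rw [h3, ← h2]
        group)
  have hinj : Function.Injective f := by
    intro a b
    induction a using QuotientGroup.induction_on with
    | H a =>
      induction b using QuotientGroup.induction_on with
      | H b =>
        intro hab
        have h1 : (a : Ω) * x * (a : Ω)⁻¹ * x⁻¹ = b * x * (b : Ω)⁻¹ * x⁻¹ :=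
          congrArg Subtype.val hab
        apply QuotientGroup.eq.2
        refine mem_C.2 ⟨(a⁻¹ * b).2, ?_⟩
        change x * ((a : Ω)⁻¹ * b) = (a : Ω)⁻¹ * b * x
        have h2 : (a : Ω) * x * (a : Ω)⁻¹ = b * x * (b : Ω)⁻¹ := mul_right_cancel h1
        calc x * ((a : Ω)⁻¹ * b) = (a : Ω)⁻¹ * (a * x * (a : Ω)⁻¹) * b := by group
          _ = (a : Ω)⁻¹ * (b * x * (b : Ω)⁻¹) * b := by rw [h2]
          _ = (a : Ω)⁻¹ * b * x := by group
  have hbij : Function.Bijective f := (Nat.bijective_iff_injective_and_card f).2 ⟨hinj, h⟩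
  obtain ⟨q, hq⟩ := hbij.2 ⟨e, he⟩
  induction q using QuotientGroup.induction_on with
  | H s =>
    refine ⟨s, s.2, ?_⟩
    have h1 : (s : Ω) * x * (s : Ω)⁻¹ * x⁻¹ = e := congrArg Subtype.val hq
    rw [← h1]
    group

/-! ### An abelian subgroup of index two -/

section AbelianTwo

variable {A : Subgroup Ω} (hA : A ≤ S) (h2 : A.relIndex S = 2)
  (hab : ∀ a ∈ A, ∀ b ∈ A, a * b = b * a)

include hA h2 hab

/-- An element of `A` commuting with an element of `S` outside `A` is central. -/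
theorem mem_Z_of_comm_out {a u : Ω} (ha : a ∈ A) (hu : u ∈ S) (huA : u ∉ A)
    (h : u * a = a * u) : a ∈ Z S := by
  refine mem_Z.2 ⟨hA ha, fun s hs => ?_⟩
  by_cases hsA : s ∈ A
  · exact hab s hsA a ha
  · have h3 := inv_mul_mem_of_relIndex_two h2 hu hs huA hsA
    calc s * a = u * ((u⁻¹ * s) * a) := by group
      _ = u * a * (u⁻¹ * s) := by rw [hab _ h3 a ha]; group
      _ = a * s := by rw [h]; group

theorem Z_le_A (hne : Z S ≠ S) : Z S ≤ A := by
  intro y hy
  by_contra hyA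
  apply hne
  refine le_antisymm Z_le fun s hs => ?_
  by_cases hsA : s ∈ A
  · exact mem_Z_of_comm_out hA h2 hab hsA hy.1 hyA ((mem_Z.1 hy).2 s (hA hsA)).symm
  · have h3 := inv_mul_mem_of_relIndex_two h2 hy.1 hs hyA hsA
    have h4 := mem_Z_of_comm_out hA h2 hab h3 hy.1 hyA ((mem_Z.1 hy).2 _ (hA h3)).symm
    have h5 : s = y * (y⁻¹ * s) := by group
    rw [h5]
    exact (Z S).mul_mem hy h4

theorem sq_mem_Z_of_out {u : Ω} (hu : u ∈ S) (huA : u ∉ A) : u * u ∈ Z S := by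
  have h3 : u * u ∈ A := by rw [mul_mem_iff_of_relIndex_two h2 hu hu]
  exact mem_Z_of_comm_out hA h2 hab h3 hu huA (by group)

/-- `|C_S(u)| = 2 |Z(S)|` for `u` outside `A`. -/
theorem card_C_out [Finite S] (hne : Z S ≠ S) {u : Ω} (hu : u ∈ S) (huA : u ∉ A) :
    (Z S).relIndex (C S u) = 2 := by
  have hZA := Z_le_A hA h2 hab hne
  rw [Subgroup.relIndex_eq_two_iff_exists_notMem_and]
  refine ⟨u, self_mem_C hu, fun h => huA (hZA h), fun b hb => ?_⟩
  by_cases hbA : b ∈ A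
  · right
    exact mem_Z_of_comm_out hA h2 hab hbA hu huA (mem_C.1 hb).2
  · left
    have h3 : b * u ∈ A := by
      rw [mul_mem_iff_of_relIndex_two h2 (C_le u hb) hu]
      tauto
    refine mem_Z_of_comm_out hA h2 hab h3 hu huA ?_
    have h4 := (mem_C.1 hb).2
    calc u * (b * u) = u * b * u := by group
      _ = b * u * u := by rw [h4]

theorem card_C_in [Finite S] {x : Ω} (hx : x ∈ A) (hxZ : x ∉ Z S) : C S x = A := by
  apply le_antisymm
  · intro y hy
    by_contra hyA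
    exact hxZ (mem_Z_of_comm_out hA h2 hab hx hy.1 hyA ((mem_C.1 hy).2).symm)
  · intro y hy
    exact mem_C.2 ⟨hA hy, hab x hx y hy⟩

/-- The commutators with a fixed element outside `A`. -/
theorem exists_comm_out {s : Ω} (hs : s ∈ S) (hsA : s ∉ A) {e : Ω} (he : e ∈ E S) :
    ∃ a ∈ A, e = s * a * s⁻¹ * a⁻¹ := by
  have hnorm := le_normalizer_of_relIndex_two hA h2
  have hconj : ∀ t ∈ S, ∀ a ∈ A, t * a * t⁻¹ ∈ A := fun t ht a ha =>
    (Subgroup.mem_normalizer_iff.1 (hnorm ht) a).1 ha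
  have hss : ∀ a ∈ A, s * (s * a * s⁻¹) * s⁻¹ = a := by
    intro a ha
    have h3 : s * s ∈ A := by rw [mul_mem_iff_of_relIndex_two h2 hs hs]
    calc s * (s * a * s⁻¹) * s⁻¹ = (s * s) * a * (s * s)⁻¹ := by group
      _ = a := by rw [hab _ h3 a ha]; group
  let T : Subgroup Ω :=
    { carrier := {e | ∃ a ∈ A, e = s * a * s⁻¹ * a⁻¹}
      mul_mem' := by
        rintro _ _ ⟨a, ha, rfl⟩ ⟨b, hb, rfl⟩
        refine ⟨a * b, A.mul_mem ha hb, ?_⟩
        have h3 := hab _ (A.inv_mem ha) _ (hconj s hs b hb)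
        have h4 := hab _ (A.inv_mem ha) _ (A.inv_mem hb)
        calc s * a * s⁻¹ * a⁻¹ * (s * b * s⁻¹ * b⁻¹)
            = s * a * s⁻¹ * (a⁻¹ * (s * b * s⁻¹)) * b⁻¹ := by group
          _ = s * a * s⁻¹ * ((s * b * s⁻¹) * a⁻¹) * b⁻¹ := by rw [h3]
          _ = s * (a * b) * s⁻¹ * (a⁻¹ * b⁻¹) := by group
          _ = s * (a * b) * s⁻¹ * (a * b)⁻¹ := by rw [h4]; group
      one_mem' := ⟨1, A.one_mem, by group⟩
      inv_mem' := by
        rintro _ ⟨a, ha, rfl⟩
        refine ⟨a⁻¹, A.inv_mem ha, ?_⟩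
        have h3 := hab _ ha _ (hconj s hs _ (A.inv_mem ha))
        calc (s * a * s⁻¹ * a⁻¹)⁻¹ = a * (s * a⁻¹ * s⁻¹) := by group
          _ = s * a⁻¹ * s⁻¹ * a⁻¹⁻¹ := by rw [h3]; group }
  have key : E S ≤ T := by
    have hA1 : ∀ a ∈ A, ∀ b ∈ A, a * b * a⁻¹ * b⁻¹ ∈ T := by
      intro a ha b hb
      rw [hab a ha b hb]
      have : b * a * a⁻¹ * b⁻¹ = 1 := by group
      rw [this]
      exact T.one_mem
    have hA2 : ∀ a ∈ A, ∀ b ∈ S, b ∉ A → b * a * b⁻¹ * a⁻¹ ∈ T := by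
      intro a ha b hb hbA
      have h3 := inv_mul_mem_of_relIndex_two h2 hs hb hsA hbA
      refine ⟨a, ha, ?_⟩
      have h4 := hab _ h3 a ha
      calc b * a * b⁻¹ * a⁻¹ = s * ((s⁻¹ * b) * a) * b⁻¹ * a⁻¹ := by group
        _ = s * (a * (s⁻¹ * b)) * b⁻¹ * a⁻¹ := by rw [h4]
        _ = s * a * s⁻¹ * a⁻¹ := by group
    refine E_le_of_comm fun a ha b hb => ?_
    by_cases haA : a ∈ A
    · by_cases hbA : b ∈ A
      · exact hA1 a haA b hbA
      · have h3 := T.inv_mem (hA2 a haA b hb hbA)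
        have h4 : (b * a * b⁻¹ * a⁻¹)⁻¹ = a * b * a⁻¹ * b⁻¹ := by group
        rwa [h4] at h3
    · by_cases hbA : b ∈ A
      · exact hA2 b hbA a ha haA
      · -- both outside
        have h3 : a * b ∈ A := by
          rw [mul_mem_iff_of_relIndex_two h2 ha hb]
          tauto
        have h4 := T.inv_mem (hA2 (a * b) h3 b hb hbA)
        have h5 : (b * (a * b) * b⁻¹ * (a * b)⁻¹)⁻¹ = a * b * a⁻¹ * b⁻¹ := by group
        rwa [h5] at h4
  exact key he

/-- An element outside `A` inverts `[S, S]`. -/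
theorem conj_E_out {s : Ω} (hs : s ∈ S) (hsA : s ∉ A) {e : Ω} (he : e ∈ E S) :
    s * e * s⁻¹ = e⁻¹ := by
  obtain ⟨a, ha, rfl⟩ := exists_comm_out hA h2 hab hs hsA he
  have hnorm := le_normalizer_of_relIndex_two hA h2
  have hconj : ∀ t ∈ S, ∀ a ∈ A, t * a * t⁻¹ ∈ A := fun t ht a ha =>
    (Subgroup.mem_normalizer_iff.1 (hnorm ht) a).1 ha
  have h3 : s * s ∈ A := by rw [mul_mem_iff_of_relIndex_two h2 hs hs]
  have h4 := hab _ h3 a ha
  have h5 : s * (s * a * s⁻¹ * a⁻¹) * s⁻¹ = (s * s * a) * (s * s)⁻¹ * (s * a⁻¹ * s⁻¹) := by group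
  rw [h5, h4]
  group

theorem relIndex_Z_A_le [Finite S] {s : Ω} (hs : s ∈ S) (hsA : s ∉ A) (hne : Z S ≠ S) :
    (Z S).relIndex A = Nat.card (E S) := by
  have hfin : Finite (E S) := finite_of_le E_le
  have hZA := Z_le_A hA h2 hab hne
  have hconj : ∀ t ∈ S, ∀ a ∈ A, t * a * t⁻¹ ∈ A := fun t ht a ha =>
    (Subgroup.mem_normalizer_iff.1 (le_normalizer_of_relIndex_two hA h2 ht) a).1 ha
  let f : A ⧸ (Z S).subgroupOf A → E S :=
    Quotient.lift (fun a : A => (⟨s * (a : Ω) * s⁻¹ * (a : Ω)⁻¹, comm_mem hs (hA a.2)⟩ : E S))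
      (by
        intro a b h
        have h1 : a⁻¹ * b ∈ (Z S).subgroupOf A := QuotientGroup.leftRel_apply.1 h
        have h3 : s * ((a : Ω)⁻¹ * b) = (a : Ω)⁻¹ * b * s := (mem_Z.1 h1).2 s hs
        apply Subtype.ext
        change s * (a : Ω) * s⁻¹ * (a : Ω)⁻¹ = s * b * s⁻¹ * (b : Ω)⁻¹
        have h4 := hab _ (hconj s hs a a.2) _ (A.inv_mem a.2)
        calc s * (a : Ω) * s⁻¹ * (a : Ω)⁻¹
            = s * (a : Ω) * s⁻¹ * ((a : Ω)⁻¹ * b * s) * s⁻¹ * (b : Ω)⁻¹ := by group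
          _ = s * (a : Ω) * s⁻¹ * (s * ((a : Ω)⁻¹ * b)) * s⁻¹ * (b : Ω)⁻¹ := by rw [h3]
          _ = s * b * s⁻¹ * (b : Ω)⁻¹ := by group)
  have hbij : Function.Bijective f := by
    constructor
    · intro a b
      induction a using QuotientGroup.induction_on with
      | H a =>
        induction b using QuotientGroup.induction_on with
        | H b =>
          intro h
          have h1 : s * (a : Ω) * s⁻¹ * (a : Ω)⁻¹ = s * b * s⁻¹ * (b : Ω)⁻¹ :=
            congrArg Subtype.val h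
          apply QuotientGroup.eq.2
          refine mem_Z_of_comm_out hA h2 hab (a⁻¹ * b).2 hs hsA ?_
          change s * ((a : Ω)⁻¹ * b) = (a : Ω)⁻¹ * b * s
          have h3 := hab _ (hconj s hs _ (A.inv_mem a.2)) _ b.2
          calc s * ((a : Ω)⁻¹ * b) = (s * (a : Ω)⁻¹ * s⁻¹) * (s * b * s⁻¹ * (b : Ω)⁻¹) * b * s := by
                group
            _ = (s * (a : Ω)⁻¹ * s⁻¹) * (s * (a : Ω) * s⁻¹ * (a : Ω)⁻¹) * b * s := by rw [h1]
            _ = (a : Ω)⁻¹ * b * s := by group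
    · rintro ⟨e, he⟩
      obtain ⟨a, ha, rfl⟩ := exists_comm_out hA h2 hab hs hsA he
      exact ⟨QuotientGroup.mk (⟨a, ha⟩ : A), rfl⟩
  exact Nat.card_congr (Equiv.ofBijective f hbij)

end AbelianTwo

end Cfsg.Agent.H617.FusFour
end

-- part: H617/FusCyc
section
/-!
# Order `32`, `[S, S]` cyclic of order `4`, `|Z(S)| = 2`
-/

set_option autoImplicit false

namespace Cfsg.Agent.H617.FusFour

open Cfsg Cfsg.FusionSystem Cfsg.Agent.H802 Cfsg.Agent.H617.FusInv Cfsg.Agent.H617.FusTwo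

variable {Ω : Type*} [Group Ω] {S : Subgroup Ω}

theorem comm_of_relIndex_two {N A : Subgroup Ω} (h : N.relIndex A = 2)
    (hc : ∀ n ∈ N, ∀ a ∈ A, n * a = a * n) : ∀ a ∈ A, ∀ b ∈ A, a * b = b * a := by
  intro a ha b hb
  by_cases haN : a ∈ N
  · exact hc a haN b hb
  · by_cases hbN : b ∈ N
    · exact (hc b hbN a ha).symm
    · have h3 := hc _ (inv_mul_mem_of_relIndex_two h ha hb haN hbN) a ha
      calc a * b = a * (a * (a⁻¹ * b)) := by group
        _ = a * (a⁻¹ * b * a) := by rw [h3]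
        _ = b * a := by group

/-- `M / N` of order four with an element whose square is not in `N`. -/
theorem le_of_relIndex_four {N M : Subgroup Ω} (hN : N ≤ M) (h : N.relIndex M = 4) {a : Ω}
    (ha : a ∈ M) (haa : a * a ∉ N) : M ≤ Subgroup.zpowers a ⊔ N := by
  have hNK : N ≤ Subgroup.zpowers a ⊔ N := le_sup_right
  have haK : a ∈ Subgroup.zpowers a ⊔ N := Subgroup.mem_sup_left (Subgroup.mem_zpowers a)
  have hKM : Subgroup.zpowers a ⊔ N ≤ M := sup_le (Subgroup.zpowers_le.2 ha) hN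
  have h1 := Subgroup.relIndex_mul_relIndex N _ M hNK hKM
  rw [h] at h1
  have h2 : N.relIndex (Subgroup.zpowers a ⊔ N) ≠ 1 := fun h' =>
    haa (Subgroup.relIndex_eq_one.1 h' ((Subgroup.zpowers a ⊔ N).mul_mem haK haK))
  have h3 : N.relIndex (Subgroup.zpowers a ⊔ N) ≠ 2 := fun h' =>
    haa ((mul_mem_iff_of_relIndex_two h' haK haK).2 Iff.rfl)
  have h4 : N.relIndex (Subgroup.zpowers a ⊔ N) ∣ 4 := ⟨_, h1.symm⟩
  have h5 : N.relIndex (Subgroup.zpowers a ⊔ N) ≤ 4 := Nat.le_of_dvd (by norm_num) h4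
  have h6 : (Subgroup.zpowers a ⊔ N).relIndex M = 1 := by
    generalize N.relIndex (Subgroup.zpowers a ⊔ N) = m at *
    generalize (Subgroup.zpowers a ⊔ N).relIndex M = n at *
    interval_cases m <;> omega
  exact Subgroup.relIndex_eq_one.1 h6

/-- A cyclic `[S, S]` of order four. -/
theorem E_cyclic (hE : Nat.card (E S) = 4) {w : Ω} (hw : w ∈ E S) (hw2 : w * w ≠ 1) :
    (∀ e ∈ E S, e = 1 ∨ e = w ∨ e = w * w ∨ e = w⁻¹) ∧ w * w * (w * w) = 1 ∧
      E S = Subgroup.zpowers w := by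
  have hfin : Finite (E S) := Nat.finite_of_card_ne_zero (by omega)
  have h1 : orderOf w ∣ 4 := by
    rw [← hE]
    exact Subgroup.orderOf_dvd_natCard _ hw
  have h2 : orderOf w = 4 := by
    have h3 : orderOf w ≠ 1 := fun h => hw2 (by rw [orderOf_eq_one_iff.1 h, one_mul])
    have h4 : orderOf w ≠ 2 := fun h => hw2 (by
      have := pow_orderOf_eq_one w
      rwa [h, pow_two] at this)
    have h5 : orderOf w ≤ 4 := Nat.le_of_dvd (by norm_num) h1
    have h6 : orderOf w ≠ 3 := fun h => by rw [h] at h1; revert h1; decide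
    have h7 : orderOf w ≠ 0 := fun h => by rw [h] at h1; revert h1; decide
    omega
  have h3 : Subgroup.zpowers w = E S := by
    refine Subgroup.eq_of_le_of_card_ge (Subgroup.zpowers_le.2 hw) ?_
    rw [hE, Nat.card_zpowers, h2]
  have h4 : w * w * (w * w) = 1 := by
    have := pow_orderOf_eq_one w
    rw [h2] at this
    rw [← this]
    simp [pow_succ, mul_assoc]
  refine ⟨fun e he => ?_, h4, h3.symm⟩
  rw [← h3] at he
  obtain ⟨k, rfl⟩ := he
  change w ^ k = 1 ∨ w ^ k = w ∨ w ^ k = w * w ∨ w ^ k = w⁻¹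
  rw [← zpow_mod_orderOf w k, h2]
  have h5 : 0 ≤ k % (4 : ℕ) := Int.emod_nonneg _ (by norm_num)
  have h6 : k % (4 : ℕ) < 4 := Int.emod_lt_of_pos _ (by norm_num)
  generalize k % ((4 : ℕ) : ℤ) = m at *
  interval_cases m
  · left; simp
  · right; left; simp
  · right; right; left
    rw [show (2 : ℤ) = 1 + 1 by norm_num, zpow_add, zpow_one]
  · right; right; right
    have h7 : w ^ (3 : ℤ) = w * w * (w * w) * w⁻¹ := by
      rw [show (3 : ℤ) = ((3 : ℕ) : ℤ) from rfl, zpow_natCast]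
      simp [pow_succ, mul_assoc]
    rw [h7, h4, one_mul]

/-- An element commuting with `M` and with `y` outside `M`, `|S : M| = 2`, is central. -/
theorem mem_Z_of_index_two {M : Subgroup Ω} (h2 : M.relIndex S = 2) {y c : Ω}
    (hy : y ∈ S) (hyM : y ∉ M) (hc : c ∈ S) (hcM : ∀ m ∈ M, m * c = c * m)
    (hcy : y * c = c * y) : c ∈ Z S := by
  refine mem_Z.2 ⟨hc, fun s hs => ?_⟩
  by_cases hsM : s ∈ M
  · exact hcM s hsM
  · have h3 := hcM _ (inv_mul_mem_of_relIndex_two h2 hy hs hyM hsM)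
    calc s * c = y * (y⁻¹ * s * c) := by group
      _ = y * (c * (y⁻¹ * s)) := by rw [h3]
      _ = y * c * (y⁻¹ * s) := by group
      _ = c * s := by rw [hcy]; group

theorem not_mem_Z_of_card {w : Ω} (hZ : Nat.card (Z S) = 2) (hw2 : w * w ≠ 1) : w ∉ Z S := by
  intro h
  have hfin : Finite (Z S) := Nat.finite_of_card_ne_zero (by omega)
  have h1 : orderOf w ∣ 2 := by
    rw [← hZ]
    exact Subgroup.orderOf_dvd_natCard _ h
  apply hw2
  have := orderOf_dvd_iff_pow_eq_one.1 h1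
  rwa [pow_two] at this

/-- For `[S, S] = ⟨w⟩` of order four. -/
theorem conj_w (hE : Nat.card (E S) = 4) {w : Ω} (hw : w ∈ E S) (hw2 : w * w ≠ 1) {s : Ω}
    (hs : s ∈ S) : s * w * s⁻¹ = w ∨ s * w * s⁻¹ = w⁻¹ := by
  obtain ⟨hall, h4, -⟩ := E_cyclic hE hw hw2
  rcases hall _ (conj_mem_E hs hw) with h | h | h | h
  · exfalso
    apply hw2
    have : w = 1 := by
      calc w = s⁻¹ * (s * w * s⁻¹) * s := by group
        _ = 1 := by rw [h]; group
    rw [this, one_mul]
  · exact Or.inl h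
  · exfalso
    apply hw2
    calc w * w = s⁻¹ * ((s * w * s⁻¹) * (s * w * s⁻¹)) * s := by group
      _ = 1 := by rw [h, h4]; group
  · exact Or.inr h

theorem ww_mem_Z (hE : Nat.card (E S) = 4) {w : Ω} (hw : w ∈ E S) (hw2 : w * w ≠ 1) :
    w * w ∈ Z S := by
  obtain ⟨-, h4, -⟩ := E_cyclic hE hw hw2
  refine mem_Z.2 ⟨S.mul_mem (E_le hw) (E_le hw), fun s hs => ?_⟩
  have h5 : s * (w * w) * s⁻¹ = w * w := by
    rcases conj_w hE hw hw2 hs with h | h
    · calc s * (w * w) * s⁻¹ = (s * w * s⁻¹) * (s * w * s⁻¹) := by group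
        _ = w * w := by rw [h]
    · calc s * (w * w) * s⁻¹ = (s * w * s⁻¹) * (s * w * s⁻¹) := by group
        _ = (w * w * (w * w)) * (w⁻¹ * w⁻¹) := by rw [h, h4, one_mul]
        _ = w * w := by simp [mul_assoc]
  calc s * (w * w) = s * (w * w) * s⁻¹ * s := by group
    _ = w * w * s := by rw [h5]

section CaseOne

variable [Finite S] (h32 : Nat.card S = 32) (hE : Nat.card (E S) = 4)
include h32 hE

theorem card_C_ge {v : Ω} (hv : v ∈ S) :
    Nat.card (C S v) * (C S v).relIndex S = 32 ∧ (C S v).relIndex S ≤ 4 := by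
  rw [← card_eq_mul_relIndex (C_le v), ← hE]
  exact ⟨h32, relIndex_C_le hv⟩

/-- Elements of order `8` have centralizers of order `8`. -/
theorem card_C_of_orderOf_eight (hZ : Nat.card (Z S) = 2) {v : Ω} (hv : v ∈ S)
    (hv8 : orderOf v = 8) : Nat.card (C S v) = 8 := by
  obtain ⟨h1, h2⟩ := card_C_ge h32 hE hv
  have hle : Subgroup.zpowers v ≤ C S v := Subgroup.zpowers_le.2 (self_mem_C hv)
  have h3 := card_eq_mul_relIndex hle
  rw [Nat.card_zpowers, hv8] at h3
  have hvZ : v ∉ Z S := by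
    apply not_mem_Z_of_card hZ
    intro h
    have : orderOf v ∣ 2 := orderOf_dvd_of_pow_eq_one (by rwa [pow_two])
    rw [hv8] at this
    revert this
    decide
  have hne : (C S v).relIndex S ≠ 1 := fun h =>
    C_ne hv hvZ (le_antisymm (C_le v) (Subgroup.relIndex_eq_one.1 h))
  by_contra hne8
  have h5 : (C S v).relIndex S = 2 := by
    generalize (C S v).relIndex S = r at *
    interval_cases r <;> omega
  have h6 : (Subgroup.zpowers v).relIndex (C S v) = 2 := by
    rw [h5] at h1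
    omega
  have hab := comm_of_relIndex_two h6 (by
    rintro _ ⟨n, rfl⟩ a ha
    exact ((show Commute v a from (mem_C.1 ha).2).zpow_left n).eq)
  obtain ⟨s, hs, hsA⟩ : ∃ s ∈ S, s ∉ C S v := by
    by_contra hno
    push Not at hno
    exact C_ne hv hvZ (le_antisymm (C_le _) hno)
  have hneS : Z S ≠ S := fun h => hvZ (by rw [h]; exact hv)
  have h7 := relIndex_Z_A_le (C_le v) h5 hab hs hsA hneS
  have h8 := card_eq_mul_relIndex (Z_le_C (S := S) hv)
  rw [hZ, h7, hE] at h8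
  rw [h8, h5] at h1
  omega

/-- **Order `32`, `[S, S]` cyclic of order `4`, `|Z(S)| = 2`.** -/
theorem exists_orderOf_eight (hZ : Nat.card (Z S) = 2) {w₀ : Ω} (hw₀ : w₀ ∈ E S)
    (hw₀2 : w₀ * w₀ ≠ 1) : ∃ u ∈ S, orderOf u = 8 := by
  obtain ⟨hall₀, h4₀, -⟩ := E_cyclic hE hw₀ hw₀2
  have hww₀ := ww_mem_Z hE hw₀ hw₀2
  -- a commutator of order four
  obtain ⟨a, ha, b, hb, hab⟩ : ∃ a ∈ S, ∃ b ∈ S, a * b * a⁻¹ * b⁻¹ ∉ Z S := by
    by_contra hno
    push Not at hno
    have h1 : E S ≤ Z S := E_le_of_comm hno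
    have hfin : Finite (Z S) := Nat.finite_of_card_ne_zero (by omega)
    have h2 := Nat.card_le_card_of_injective _ (Subgroup.inclusion_injective h1)
    omega
  obtain ⟨w, hw⟩ : ∃ w, w = a * b * a⁻¹ * b⁻¹ := ⟨_, rfl⟩
  have hwE : w ∈ E S := by rw [hw]; exact comm_mem ha hb
  have hww : w * w = w₀ * w₀ := by
    rcases hall₀ w hwE with h | h | h | h
    · exfalso
      apply hab
      rw [← hw, h]
      exact (Z S).one_mem
    · rw [h]
    · exfalso
      apply hab
      rw [← hw, h]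
      exact hww₀
    · rw [h]
      calc w₀⁻¹ * w₀⁻¹ = (w₀ * w₀ * (w₀ * w₀)) * (w₀⁻¹ * w₀⁻¹) := by rw [h4₀, one_mul]
        _ = w₀ * w₀ := by simp [mul_assoc]
  have hw2 : w * w ≠ 1 := by rw [hww]; exact hw₀2
  have hwZ := not_mem_Z_of_card hZ hw2
  obtain ⟨hall, h4, hEw⟩ := E_cyclic hE hwE hw2
  have hwwZ := ww_mem_Z hE hwE hw2
  have hwS : w ∈ S := E_le hwE
  -- `M = C_S(w)` has index two
  have hMle : C S w ≤ S := C_le w
  have hM2 : (C S w).relIndex S = 2 := by
    have h1 : ∃ s ∈ S, s ∉ C S w := by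
      by_contra hno
      push Not at hno
      exact C_ne hwS hwZ (le_antisymm (C_le _) hno)
    obtain ⟨s, hs, hsM⟩ := h1
    rw [Subgroup.relIndex_eq_two_iff]
    refine ⟨s, hs, fun t ht => ?_⟩
    have hout : ∀ r ∈ S, r ∉ C S w → r * w * r⁻¹ = w⁻¹ := by
      intro r hr hrM
      rcases conj_w hE hwE hw2 hr with h | h
      · exfalso
        apply hrM
        refine mem_C.2 ⟨hr, ?_⟩
        calc w * r = r * w * r⁻¹ * r := by rw [h]
          _ = r * w := by group
      · exact h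
    have hin : ∀ r, r ∈ C S w ↔ r ∈ S ∧ r * w * r⁻¹ = w := by
      intro r
      rw [mem_C]
      constructor
      · rintro ⟨h1, h2⟩
        refine ⟨h1, ?_⟩
        rw [← h2]
        group
      · rintro ⟨h1, h2⟩
        refine ⟨h1, ?_⟩
        calc w * r = r * w * r⁻¹ * r := by rw [h2]
          _ = r * w := by group
    have hwinv : w⁻¹ ≠ w := fun h => hw2 (by
      calc w * w = w * w⁻¹ := by rw [h]
        _ = 1 := mul_inv_cancel w)
    by_cases htM : t ∈ C S w
    · right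
      refine ⟨htM, fun h => ?_⟩
      have h3 := (hin _).1 h
      have h5 := (hin _).1 htM
      apply hwinv
      calc w⁻¹ = t⁻¹ * (t * (s * w * s⁻¹) * t⁻¹) * t := by rw [hout s hs hsM]; group
        _ = t⁻¹ * (t * s * w * (t * s)⁻¹) * t := by group
        _ = t⁻¹ * w * t := by rw [h3.2]
        _ = t⁻¹ * (t * w * t⁻¹) * t := by rw [h5.2]
        _ = w := by group
    · left
      refine ⟨(hin _).2 ⟨S.mul_mem ht hs, ?_⟩, htM⟩
      calc t * s * w * (t * s)⁻¹ = t * (s * w * s⁻¹) * t⁻¹ := by group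
        _ = (t * w * t⁻¹)⁻¹ := by rw [hout s hs hsM]; group
        _ = w := by rw [hout t ht htM, inv_inv]
  have hMcard : Nat.card (C S w) = 16 := by
    have := card_eq_mul_relIndex hMle
    rw [h32, hM2] at this
    omega
  have hEM : E S ≤ C S w := by
    rw [hEw]
    exact Subgroup.zpowers_le.2 (self_mem_C hwS)
  have hEM4 : (E S).relIndex (C S w) = 4 := by
    have := card_eq_mul_relIndex hEM
    rw [hMcard, hE] at this
    omega
  -- `E` is central in `M`
  have hEc : ∀ e ∈ E S, ∀ m ∈ C S w, e * m = m * e := by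
    intro e he m hm
    rw [hEw] at he
    obtain ⟨n, rfl⟩ := he
    exact ((show Commute w m from (mem_C.1 hm).2).zpow_left n).eq
  -- no commutator of elements of `M` has order four
  have hMM : ∀ p ∈ C S w, ∀ q ∈ C S w,
      p * q * p⁻¹ * q⁻¹ * (p * q * p⁻¹ * q⁻¹) = 1 := by
    intro p hp q hq
    obtain ⟨δ, hδ⟩ : ∃ δ, δ = p * q * p⁻¹ * q⁻¹ := ⟨_, rfl⟩
    have hδE : δ ∈ E S := by rw [hδ]; exact comm_mem (hMle hp) (hMle hq)
    have hpq : p * q = δ * (q * p) := by rw [hδ]; group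
    by_cases hpp : p * p ∈ E S
    · have h1 := hEc _ hpp q hq
      have h2 := hEc _ hδE p hp
      have h3 : p * p * q = δ * δ * (q * (p * p)) := by
        calc p * p * q = p * (p * q) := by group
          _ = p * δ * q * p := by rw [hpq]; group
          _ = δ * (p * q) * p := by rw [← h2]; group
          _ = δ * δ * (q * (p * p)) := by rw [hpq]; group
      rw [← hδ]
      calc δ * δ = (p * p * q) * (q * (p * p))⁻¹ := by rw [h3]; group
        _ = 1 := by rw [h1, mul_inv_cancel]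
    · have h1 := le_of_relIndex_four hEM hEM4 hp hpp hq
      have h2 : ∀ r ∈ Subgroup.zpowers p ⊔ E S, p * r = r * p := by
        intro r hr
        have h3 : Subgroup.zpowers p ⊔ E S ≤ Subgroup.centralizer {p} := by
          refine sup_le (Subgroup.zpowers_le.2 ?_) fun e he => ?_
          · exact Subgroup.mem_centralizer_singleton_iff.2 rfl
          · exact Subgroup.mem_centralizer_singleton_iff.2 (hEc e he p hp)
        exact (Subgroup.mem_centralizer_singleton_iff.1 (h3 hr)).symm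
      have h3 := h2 q h1
      rw [h3]
      group
  have hne : ∀ p ∈ C S w, ∀ q ∈ C S w, p * q * p⁻¹ * q⁻¹ ≠ w ∧ p * q * p⁻¹ * q⁻¹ ≠ w⁻¹ := by
    intro p hp q hq
    have h1 := hMM p hp q hq
    constructor
    · intro h
      rw [h] at h1
      exact hw2 h1
    · intro h
      rw [h] at h1
      apply hw2
      calc w * w = (w⁻¹ * w⁻¹)⁻¹ := by simp [mul_assoc]
        _ = 1 := by rw [h1, inv_one]
  -- a good commutator
  obtain ⟨m, hm, y, hy, hyM, ω, hω, hmy⟩ : ∃ m ∈ C S w, ∃ y ∈ S, y ∉ C S w ∧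
      ∃ ω, (ω = w ∨ ω = w⁻¹) ∧ m * y = ω * (y * m) := by
    by_cases haM : a ∈ C S w
    · by_cases hbM : b ∈ C S w
      · exact absurd hw.symm (hne a haM b hbM).1
      · exact ⟨a, haM, b, hb, hbM, w, Or.inl rfl, by rw [hw]; group⟩
    · by_cases hbM : b ∈ C S w
      · exact ⟨b, hbM, a, ha, haM, w⁻¹, Or.inr rfl, by rw [hw]; group⟩
      · refine ⟨a * b, ?_, b, hb, hbM, w, Or.inl rfl, by rw [hw]; group⟩
        rw [mul_mem_iff_of_relIndex_two hM2 ha hb]
        tauto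
  have hωE : ω ∈ E S := by
    rcases hω with rfl | rfl
    · exact hwE
    · exact (E S).inv_mem hwE
  have hωω : ω * ω ≠ 1 := by
    rcases hω with rfl | rfl
    · exact hw2
    · intro h
      apply hw2
      calc w * w = (w⁻¹ * w⁻¹)⁻¹ := by simp [mul_assoc]
        _ = 1 := by rw [h, inv_one]
  have hω4 : ω * ω * (ω * ω) = 1 := (E_cyclic hE hωE hωω).2.1
  have hyω : y * ω * y⁻¹ = ω⁻¹ := by
    rcases conj_w hE hωE hωω hy with h | h
    · exfalso
      apply hyM
      refine mem_C.2 ⟨hy, ?_⟩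
      have h1 : y * ω = ω * y := by
        calc y * ω = y * ω * y⁻¹ * y := by group
          _ = ω * y := by rw [h]
      rcases hω with rfl | rfl
      · exact h1.symm
      · calc w * y = w * (y * w⁻¹) * w := by group
          _ = w * (w⁻¹ * y) * w := by rw [h1]
          _ = y * w := by group
    · exact h
  have hmω : ω * m = m * ω := hEc ω hωE m hm
  have hmS : m ∈ S := hMle hm
  have hcS : m * m * ω⁻¹ ∈ S := S.mul_mem (S.mul_mem hmS hmS) (S.inv_mem (E_le hωE))
  have hc : m * m * ω⁻¹ ∈ Z S := by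
    refine mem_Z_of_index_two hM2 hy hyM hcS (fun m' hm' => ?_) ?_
    · -- commutes with `M`
      have h1 := hMM m hm m' hm'
      obtain ⟨δ, hδ⟩ : ∃ δ, δ = m * m' * m⁻¹ * m'⁻¹ := ⟨_, rfl⟩
      have hδE : δ ∈ E S := by rw [hδ]; exact comm_mem hmS (hMle hm')
      rw [← hδ] at h1
      have h2 : m * m' = δ * (m' * m) := by rw [hδ]; group
      have h3 := hEc δ hδE m hm
      have h5 : m * m * m' = m' * (m * m) := by
        calc m * m * m' = m * (m * m') := by group
          _ = (m * δ) * (m' * m) := by rw [h2]; group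
          _ = δ * (m * m') * m := by rw [← h3]; group
          _ = (δ * δ) * (m' * (m * m)) := by rw [h2]; group
          _ = m' * (m * m) := by rw [h1, one_mul]
      have h6 := hEc _ ((E S).inv_mem hωE) m' hm'
      calc m' * (m * m * ω⁻¹) = m' * (m * m) * ω⁻¹ := by group
        _ = m * m * (m' * ω⁻¹) := by rw [← h5]; group
        _ = m * m * ω⁻¹ * m' := by rw [← h6]; group
    · have h1 : y * m = ω⁻¹ * (m * y) := by rw [hmy]; group
      have h2 : y * ω⁻¹ = ω * y := by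
        calc y * ω⁻¹ = (y * ω * y⁻¹)⁻¹ * y := by group
          _ = ω * y := by rw [hyω, inv_inv]
      have h3 : ω⁻¹ * m = m * ω⁻¹ := hEc _ ((E S).inv_mem hωE) m hm
      calc y * (m * m * ω⁻¹) = y * m * m * ω⁻¹ := by simp [mul_assoc]
        _ = (ω⁻¹ * (m * y)) * m * ω⁻¹ := by rw [h1]
        _ = ω⁻¹ * m * (y * m) * ω⁻¹ := by simp [mul_assoc]
        _ = ω⁻¹ * m * (ω⁻¹ * (m * y)) * ω⁻¹ := by rw [h1]
        _ = ω⁻¹ * m * ω⁻¹ * m * (y * ω⁻¹) := by simp [mul_assoc]
        _ = ω⁻¹ * m * ω⁻¹ * m * (ω * y) := by rw [h2]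
        _ = (ω⁻¹ * m) * (ω⁻¹ * m) * ω * y := by simp [mul_assoc]
        _ = (m * ω⁻¹) * (m * ω⁻¹) * ω * y := by rw [h3]
        _ = m * (ω⁻¹ * m) * y := by group
        _ = m * m * ω⁻¹ * y := by rw [h3]; group
  have hcc : m * m * ω⁻¹ * (m * m * ω⁻¹) = 1 := by
    by_contra h
    exact not_mem_Z_of_card hZ h hc
  have hm4 : m ^ 4 = ω * ω := by
    have h3 : ω⁻¹ * m = m * ω⁻¹ := hEc _ ((E S).inv_mem hωE) m hm
    have h5 : m * m * m * m * (ω⁻¹ * ω⁻¹) = 1 := by
      have h6 : ω⁻¹ * (m * m) = m * m * ω⁻¹ :=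
        ((show Commute ω⁻¹ m from h3).mul_right (show Commute ω⁻¹ m from h3)).eq
      calc m * m * m * m * (ω⁻¹ * ω⁻¹) = m * m * (m * m * ω⁻¹) * ω⁻¹ := by simp [mul_assoc]
        _ = m * m * (ω⁻¹ * (m * m)) * ω⁻¹ := by rw [h6]
        _ = m * m * ω⁻¹ * (m * m * ω⁻¹) := by simp [mul_assoc]
        _ = 1 := hcc
    calc m ^ 4 = m * m * m * m * (ω⁻¹ * ω⁻¹) * (ω * ω) := by simp [pow_succ, mul_assoc]
      _ = ω * ω := by rw [h5, one_mul]
  refine ⟨m, hmS, ?_⟩
  have h8 : m ^ 2 ^ (2 + 1) = 1 := by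
    calc m ^ 2 ^ (2 + 1) = m ^ 4 * m ^ 4 := by group
      _ = 1 := by rw [hm4, hω4]
  have h9 : ¬ m ^ 2 ^ 2 = 1 := by
    have : m ^ 2 ^ 2 = m ^ 4 := by norm_num
    rw [this, hm4]
    exact hωω
  have hp : Fact (Nat.Prime 2) := ⟨Nat.prime_two⟩
  have := orderOf_eq_prime_pow h9 h8
  rw [this]
  norm_num

end CaseOne

end Cfsg.Agent.H617.FusFour
end

-- part: H617/FusKlein
section
/-!
# Order `32`, `[S, S]` elementary abelian of order `4`, `|Z(S)| = 2`
-/

set_option autoImplicit false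

namespace Cfsg.Agent.H617.FusFour

open Cfsg Cfsg.FusionSystem Cfsg.Agent.H802 Cfsg.Agent.H617.FusInv Cfsg.Agent.H617.FusTwo

variable {Ω : Type*} [Group Ω] {S : Subgroup Ω}

/-- `[S, S]` meets the centre. -/
theorem exists_mem_E_Z [Finite S] (hS : IsPGroup 2 S) (hE : 2 ∣ Nat.card (E S)) :
    ∃ z ∈ E S, z ∈ Z S ∧ z ≠ 1 := by
  have hp : Fact (Nat.Prime 2) := ⟨Nat.prime_two⟩
  have hfin : Finite (E S) := finite_of_le E_le
  letI act : MulAction S (E S) :=
    { smul := fun s e => ⟨(s : Ω) * e * (s : Ω)⁻¹, conj_mem_E s.2 e.2⟩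
      one_smul := fun e => Subtype.ext (by
        change ((1 : S) : Ω) * (e : Ω) * ((1 : S) : Ω)⁻¹ = e
        simp)
      mul_smul := fun s t e => Subtype.ext (by
        change ((s * t : S) : Ω) * (e : Ω) * ((s * t : S) : Ω)⁻¹ =
          (s : Ω) * ((t : Ω) * e * (t : Ω)⁻¹) * (s : Ω)⁻¹
        simp [mul_assoc]) }
  have hsmul : ∀ (s : S) (e : E S), ((s • e : E S) : Ω) = (s : Ω) * e * (s : Ω)⁻¹ :=
    fun s e => rfl
  have h1 : (1 : E S) ∈ MulAction.fixedPoints S (E S) := by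
    intro s
    apply Subtype.ext
    rw [hsmul]
    simp
  obtain ⟨b, hb, hne⟩ := hS.exists_fixed_point_of_prime_dvd_card_of_fixed_point (E S) hE h1
  refine ⟨b, b.2, mem_Z.2 ⟨E_le b.2, fun s hs => ?_⟩, fun h => hne (Subtype.ext h.symm)⟩
  have h2 := congrArg Subtype.val (hb ⟨s, hs⟩)
  rw [hsmul] at h2
  calc s * (b : Ω) = s * b * s⁻¹ * s := by group
    _ = b * s := by rw [h2]

/-- Automorphisms preserve `[S, S]`. -/
theorem aut_preserves_E {α : MulAut S} {y : S} (hy : (y : Ω) ∈ E S) : ((α y : S) : Ω) ∈ E S := by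
  have h1 : (commutator S).map S.subtype = E S := Subgroup.map_subtype_commutator S
  rw [← h1] at hy ⊢
  obtain ⟨t, ht, hty⟩ := hy
  have hty' : t = y := Subtype.ext hty
  subst hty'
  refine ⟨α t, ?_, rfl⟩
  have h2 : (commutator S).map α.toMonoidHom = commutator S :=
    Subgroup.characteristic_iff_map_eq.1 inferInstance α
  rw [← h2]
  exact ⟨t, ht, rfl⟩

section Klein

variable [Finite S] (hS : IsPGroup 2 S) (h32 : Nat.card S = 32) (hE : Nat.card (E S) = 4)
  (hE2 : ∀ e ∈ E S, e * e = 1) (hZ : Nat.card (Z S) = 2)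

include hE2 in
theorem E_comm {a b : Ω} (ha : a ∈ E S) (hb : b ∈ E S) : a * b = b * a := by
  have h1 := hE2 _ ((E S).mul_mem ha hb)
  have h2 := hE2 a ha
  have h3 := hE2 b hb
  calc a * b = a * (a * b * (a * b)) * b := by rw [h1, mul_one]
    _ = (a * a) * (b * a) * (b * b) := by simp [mul_assoc]
    _ = b * a := by rw [h2, h3, one_mul, mul_one]

include hS hE hZ in
theorem Z_le_E : Z S ≤ E S := by
  obtain ⟨z, hzE, hzZ, hz1⟩ := exists_mem_E_Z hS (by rw [hE]; norm_num)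
  have h1 : Subgroup.zpowers z ≤ Z S := Subgroup.zpowers_le.2 hzZ
  have hfin : Finite (Z S) := Nat.finite_of_card_ne_zero (by omega)
  have h2 : Subgroup.zpowers z = Z S := by
    refine Subgroup.eq_of_le_of_card_ge h1 ?_
    rw [hZ, Nat.card_zpowers]
    have h3 : orderOf z ∣ 2 := by
      rw [← hZ]
      exact Subgroup.orderOf_dvd_natCard _ hzZ
    have h4 : orderOf z ≠ 1 := fun h => hz1 (orderOf_eq_one_iff.1 h)
    have h5 : 0 < orderOf z := Nat.pos_of_dvd_of_pos h3 (by norm_num)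
    omega
  rw [← h2]
  exact Subgroup.zpowers_le.2 hzE

include hS hE hZ in
theorem relIndex_Z_E : (Z S).relIndex (E S) = 2 := by
  have := card_eq_mul_relIndex (Z_le_E hS hE hZ)
  rw [hE, hZ] at this
  omega

include hS hE hE2 hZ in
theorem comm_E_mem_Z {s f : Ω} (hs : s ∈ S) (hf : f ∈ E S) : s * f * s⁻¹ * f⁻¹ ∈ Z S := by
  by_cases hfZ : f ∈ Z S
  · rw [(mem_Z.1 hfZ).2 s hs]
    have : f * s * s⁻¹ * f⁻¹ = 1 := by group
    rw [this]
    exact (Z S).one_mem
  · have h1 := conj_mem_E hs hf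
    have h2 : s * f * s⁻¹ ∉ Z S := by
      intro h
      apply hfZ
      have h3 := (mem_Z.1 h).2 s hs
      have h4 : f = s * f * s⁻¹ := by
        calc f = s⁻¹ * (s * (s * f * s⁻¹)) * s⁻¹ * s * s⁻¹ * s := by
              rw [h3]; simp [mul_assoc]
          _ = s * f * s⁻¹ := by simp [mul_assoc]
      rw [h4]
      exact h
    have h3 := inv_mul_mem_of_relIndex_two (relIndex_Z_E hS hE hZ) hf h1 hfZ h2
    rwa [E_comm hE2 ((E S).inv_mem hf) h1] at h3

/-- `M = C_S([S, S])`. -/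
abbrev M (S : Subgroup Ω) : Subgroup Ω := centralizerIn S (E S)

theorem mem_M {y : Ω} : y ∈ M S ↔ y ∈ S ∧ ∀ e ∈ E S, e * y = y * e := by
  constructor
  · rintro ⟨h1, h2⟩
    exact ⟨h1, fun s hs => Subgroup.mem_centralizer_iff.1 h2 s hs⟩
  · rintro ⟨h1, h2⟩
    exact ⟨h1, Subgroup.mem_centralizer_iff.2 fun s hs => h2 s hs⟩

theorem Z_le_M : Z S ≤ M S := fun y hy => mem_M.2 ⟨hy.1, fun e he => (mem_Z.1 hy).2 e (E_le he)⟩

theorem exists_not_comm {u : Ω} (hu : u ∈ S) (huM : u ∉ M S) :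
    ∃ e ∈ E S, e ∉ Z S ∧ u * e ≠ e * u := by
  by_contra hno
  push Not at hno
  apply huM
  refine mem_M.2 ⟨hu, fun e he => ?_⟩
  by_cases heZ : e ∈ Z S
  · exact ((mem_Z.1 heZ).2 u hu).symm
  · exact (hno e he heZ).symm

include hS h32 hE hE2 hZ in
theorem relIndex_C_eq_four {u : Ω} (hu : u ∈ S) (huM : u ∉ M S) : (C S u).relIndex S = 4 := by
  obtain ⟨h1, h2⟩ := card_C_ge h32 hE hu
  have huZ : u ∉ Z S := fun h => huM (Z_le_M h)
  have hne : (C S u).relIndex S ≠ 1 := fun h =>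
    C_ne hu huZ (le_antisymm (C_le u) (Subgroup.relIndex_eq_one.1 h))
  by_contra hne4
  have h5 : (C S u).relIndex S = 2 := by
    generalize (C S u).relIndex S = r at *
    interval_cases r <;> omega
  obtain ⟨e, he, heZ, hue⟩ := exists_not_comm hu huM
  have heS := E_le he
  have heH : e ∉ C S u := fun h => hue (mem_C.1 h).2
  have hP2 : ∀ s ∈ S, ∀ f ∈ E S, s * f * s⁻¹ * f⁻¹ ∈ Z S := fun s hs f hf =>
    comm_E_mem_Z hS hE hE2 hZ hs hf
  have hEH : ∀ f ∈ E S, f ∈ C S u → f ∈ Z S := by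
    intro f hf hfH
    by_contra hfZ
    have h3 := inv_mul_mem_of_relIndex_two (relIndex_Z_E hS hE hZ) hf he hfZ heZ
    apply heH
    have h4 : e = f * (f⁻¹ * e) := by group
    rw [h4]
    exact (C S u).mul_mem hfH (Z_le_C hu h3)
  have hinv : ∀ a b : Ω, a * b * a⁻¹ * b⁻¹ ∈ Z S → b * a * b⁻¹ * a⁻¹ ∈ Z S := by
    intro a b h
    have h3 := (Z S).inv_mem h
    have h4 : (a * b * a⁻¹ * b⁻¹)⁻¹ = b * a * b⁻¹ * a⁻¹ := by group
    rwa [h4] at h3
  have hmul : ∀ a ∈ S, ∀ b ∈ S, ∀ c ∈ S, a * c * a⁻¹ * c⁻¹ ∈ Z S → b * c * b⁻¹ * c⁻¹ ∈ Z S →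
      (a * b) * c * (a * b)⁻¹ * c⁻¹ ∈ Z S := by
    intro a ha b hb c hc h3 h4
    have h6 := (mem_Z.1 h4).2 a ha
    have h7 : (a * b) * c * (a * b)⁻¹ * c⁻¹ =
        (a * (b * c * b⁻¹ * c⁻¹)) * a⁻¹ * (a * c * a⁻¹ * c⁻¹) := by group
    rw [h7, h6, mul_inv_cancel_right]
    exact (Z S).mul_mem h4 h3
  have hHH : ∀ a ∈ C S u, ∀ b ∈ C S u, a * b * a⁻¹ * b⁻¹ ∈ Z S := fun a ha b hb =>
    hEH _ (comm_mem ha.1 hb.1) ((C S u).mul_mem ((C S u).mul_mem ((C S u).mul_mem ha hb)
      ((C S u).inv_mem ha)) ((C S u).inv_mem hb))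
  have hHS : ∀ a ∈ C S u, ∀ b ∈ S, a * b * a⁻¹ * b⁻¹ ∈ Z S := by
    intro a ha b hb
    by_cases hbH : b ∈ C S u
    · exact hHH a ha b hbH
    · have h3 := inv_mul_mem_of_relIndex_two h5 heS hb heH hbH
      have h4 := hmul e heS (e⁻¹ * b) h3.1 a ha.1 (hinv _ _ (hP2 a ha.1 e he)) (hHH _ h3 a ha)
      have h6 : e * (e⁻¹ * b) = b := by group
      rw [h6] at h4
      exact hinv _ _ h4
  have hSS : ∀ a ∈ S, ∀ b ∈ S, a * b * a⁻¹ * b⁻¹ ∈ Z S := by
    intro a ha b hb
    by_cases haH : a ∈ C S u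
    · exact hHS a haH b hb
    · have h3 := inv_mul_mem_of_relIndex_two h5 heS ha heH haH
      have h4 := hmul e heS (e⁻¹ * a) h3.1 b hb (hinv _ _ (hP2 b hb e he)) (hHS _ h3 b hb)
      have h6 : e * (e⁻¹ * a) = a := by group
      rwa [h6] at h4
  have h6 : E S ≤ Z S := E_le_of_comm hSS
  exact heZ (h6 he)

include hS h32 hE hE2 hZ in
theorem sq_not_mem_Z {u : Ω} (hu : u ∈ S) (huM : u ∉ M S) : u * u ∉ Z S := by
  intro h
  obtain ⟨e, he, heZ, hue⟩ := exists_not_comm hu huM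
  obtain ⟨s, hs, hsu⟩ := exists_comm_of_relIndex hu
    ((relIndex_C_eq_four hS h32 hE hE2 hZ hu huM).trans hE.symm) he
  have h1 := (mem_Z.1 h).2 s hs
  have h2 : e * u * (e * u) = u * u := by
    rw [← hsu]
    calc s * u * s⁻¹ * (s * u * s⁻¹) = s * (u * u) * s⁻¹ := by group
      _ = u * u := by rw [h1, mul_inv_cancel_right]
  apply hue
  have h3 : e * u * e = u := by
    calc e * u * e = e * u * (e * u) * u⁻¹ := by group
      _ = u := by rw [h2, mul_inv_cancel_right]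
  calc u * e = e * u * e * e := by rw [h3]
    _ = e * u * (e * e) := by group
    _ = e * u := by rw [hE2 e he, mul_one]

include hS h32 hE hE2 hZ in
theorem C_le_sup {u : Ω} (hu : u ∈ S) (huM : u ∉ M S) :
    C S u ≤ Subgroup.zpowers u ⊔ Z S := by
  have h1 := relIndex_C_eq_four hS h32 hE hE2 hZ hu huM
  have h2 := (card_C_ge h32 hE hu).1
  have h3 := card_eq_mul_relIndex (Z_le_C (S := S) hu)
  refine le_of_relIndex_four (Z_le_C hu) ?_ (self_mem_C hu) (sq_not_mem_Z hS h32 hE hE2 hZ hu huM)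
  rw [h1] at h2
  rw [hZ] at h3
  omega

theorem exists_zpow_mul {u q : Ω} (hu : u ∈ S) (hq : q ∈ Subgroup.zpowers u ⊔ Z S) :
    ∃ i : ℤ, ∃ ζ ∈ Z S, q = u ^ i * ζ := by
  have hc : ∀ ζ ∈ Z S, ∀ i : ℤ, u ^ i * ζ = ζ * u ^ i := fun ζ hζ i =>
    ((show Commute u ζ from (mem_Z.1 hζ).2 u hu).zpow_left i).eq
  let T : Subgroup Ω :=
    { carrier := {q | ∃ i : ℤ, ∃ ζ ∈ Z S, q = u ^ i * ζ}
      mul_mem' := by
        rintro _ _ ⟨i, ζ, hζ, rfl⟩ ⟨j, ξ, hξ, rfl⟩
        refine ⟨i + j, ζ * ξ, (Z S).mul_mem hζ hξ, ?_⟩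
        calc u ^ i * ζ * (u ^ j * ξ) = u ^ i * (ζ * u ^ j) * ξ := by simp [mul_assoc]
          _ = u ^ i * (u ^ j * ζ) * ξ := by rw [hc ζ hζ j]
          _ = u ^ (i + j) * (ζ * ξ) := by rw [zpow_add]; simp [mul_assoc]
      one_mem' := ⟨0, 1, (Z S).one_mem, by simp⟩
      inv_mem' := by
        rintro _ ⟨i, ζ, hζ, rfl⟩
        refine ⟨-i, ζ⁻¹, (Z S).inv_mem hζ, ?_⟩
        rw [mul_inv_rev, ← zpow_neg, hc _ ((Z S).inv_mem hζ)] }
  have h1 : Subgroup.zpowers u ⊔ Z S ≤ T := by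
    refine sup_le (Subgroup.zpowers_le.2 ⟨1, 1, (Z S).one_mem, by simp⟩) fun ζ hζ => ?_
    exact ⟨0, ζ, hζ, by simp⟩
  exact h1 hq

include hS h32 hE hE2 hZ in
theorem pow_half_eq_one {u q : Ω} (hu : u ∈ S) (huM : u ∉ M S) (hq : q ∈ C S u)
    (hqM : q ∈ M S) : q ^ (orderOf u / 2) = 1 ∧ u ^ (orderOf u / 2) ≠ 1 := by
  have hp : Fact (Nat.Prime 2) := ⟨Nat.prime_two⟩
  obtain ⟨i, ζ, hζ, rfl⟩ := exists_zpow_mul hu (C_le_sup hS h32 hE hE2 hZ hu huM hq)
  obtain ⟨e, he, heZ, hue⟩ := exists_not_comm hu huM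
  have heS := E_le he
  -- `u²` commutes with `e`
  have hζe := comm_E_mem_Z hS hE hE2 hZ hu he
  obtain ⟨δ, hδ⟩ : ∃ δ, δ = u * e * u⁻¹ * e⁻¹ := ⟨_, rfl⟩
  rw [← hδ] at hζe
  have hue' : u * e = δ * e * u := by rw [hδ]; group
  have hδ2 : δ * δ = 1 := hE2 _ (Z_le_E hS hE hZ hζe)
  have huue : u * u * e = e * (u * u) := by
    have h1 := (mem_Z.1 hζe).2 u hu
    calc u * u * e = u * (u * e) := by group
      _ = (u * δ) * e * u := by rw [hue']; group
      _ = δ * (u * e) * u := by rw [h1]; group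
      _ = (δ * δ) * (e * (u * u)) := by rw [hue']; simp [mul_assoc]
      _ = e * (u * u) := by rw [hδ2, one_mul]
  have hui : u ^ i * e = e * u ^ i := by
    have h1 := (mem_M.1 hqM).2 e he
    have h2 := (mem_Z.1 hζ).2 e heS
    calc u ^ i * e = u ^ i * (e * ζ) * ζ⁻¹ := by group
      _ = (u ^ i * ζ) * e * ζ⁻¹ := by rw [h2]; group
      _ = e * (u ^ i * ζ) * ζ⁻¹ := by rw [h1]
      _ = e * u ^ i := by group
  have hi : Even i := by
    by_contra hodd
    rw [Int.not_even_iff_odd] at hodd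
    obtain ⟨j, rfl⟩ := hodd
    apply hue
    have h1 : Commute (u ^ (2 * j)) e := by
      rw [zpow_mul]
      have h3 : Commute (u ^ (2 : ℤ)) e := by
        rw [show (2 : ℤ) = 1 + 1 by norm_num, zpow_add, zpow_one]
        exact huue
      exact h3.zpow_left j
    have h2 : Commute (u ^ (2 * j + 1)) e := hui
    have h3 : u = (u ^ (2 * j))⁻¹ * u ^ (2 * j + 1) := by
      rw [zpow_add, zpow_one, inv_mul_cancel_left]
    have h4 : Commute u e := by
      rw [h3]
      exact (h1.inv_left).mul_left h2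
    exact h4.eq
  obtain ⟨j, rfl⟩ := hi
  -- the order of `u`
  obtain ⟨k, hk⟩ := hS ⟨u, hu⟩
  have hk' : u ^ 2 ^ k = 1 := congrArg Subtype.val hk
  obtain ⟨m, -, hm⟩ := (Nat.dvd_prime_pow Nat.prime_two).1 (orderOf_dvd_of_pow_eq_one hk')
  have huu := sq_not_mem_Z hS h32 hE hE2 hZ hu huM
  have hm2 : 2 ≤ m := by
    by_contra hlt
    apply huu
    have h1 : u ^ 2 = 1 := by
      apply orderOf_dvd_iff_pow_eq_one.1
      rw [hm]
      exact pow_dvd_pow 2 (show m ≤ 1 by omega) |>.trans (by norm_num)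
    rw [← pow_two, h1]
    exact (Z S).one_mem
  obtain ⟨n, rfl⟩ : ∃ n, m = n + 2 := ⟨m - 2, by omega⟩
  have hhalf : orderOf u / 2 = 2 * 2 ^ n := by
    rw [hm, pow_add]
    omega
  constructor
  · have hcomm : Commute (u ^ (j + j)) ζ := ((show Commute u ζ from (mem_Z.1 hζ).2 u hu)).zpow_left _
    rw [hcomm.mul_pow, hhalf]
    have h1 : (u ^ (j + j)) ^ (2 * 2 ^ n) = 1 := by
      have h3 : (u ^ (j + j)) ^ (2 * 2 ^ n) = (u ^ orderOf u) ^ j := by
        rw [← zpow_natCast, ← zpow_mul, ← zpow_natCast u, ← zpow_mul, hm]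
        congr 1
        push_cast
        ring
      rw [h3, pow_orderOf_eq_one, one_zpow]
    have h2 : ζ ^ (2 * 2 ^ n) = 1 := by
      rw [pow_mul, pow_two, hE2 _ (Z_le_E hS hE hZ hζ), one_pow]
    rw [h1, h2, one_mul]
  · intro h
    have h1 := orderOf_dvd_of_pow_eq_one h
    rw [hhalf, hm] at h1
    have h2 := Nat.le_of_dvd (by positivity) h1
    rw [pow_add] at h2
    have h3 : 0 < 2 ^ n := by positivity
    omega

include hS h32 hE hE2 hZ in
theorem not_mem_M_aut {F : FusionSystem S} {Q : Subgroup Ω} (hQc : F.IsCentric Q)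
    (α : MulAut Q) {x : Q} (hx : (x : Ω) ∉ M S) : ((α x : Q) : Ω) ∉ M S := by
  have hQS := hQc.1
  have hfin : Finite Q := finite_of_le hQS
  have hZQ := Z_le_of_isCentric hQc
  have hxS : (x : Ω) ∈ S := hQS x.2
  have hCQ : C S (x : Ω) ≤ Q := (C_le_sup hS h32 hE hE2 hZ hxS hx).trans
    (sup_le (Subgroup.zpowers_le.2 x.2) hZQ)
  have hC8 : Nat.card (C S (x : Ω)) = 8 := by
    have h1 := relIndex_C_eq_four hS h32 hE hE2 hZ hxS hx
    have h2 := (card_C_ge h32 hE hxS).1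
    rw [h1] at h2
    omega
  have h1 := card_eq_mul_relIndex hCQ
  have h2 := card_eq_mul_relIndex hQS
  rw [hC8] at h1
  rw [h32] at h2
  intro hαx
  have hcases : Nat.card Q = 8 ∨ Q.relIndex S = 2 ∨ Q.relIndex S = 1 := by
    generalize (C S (x : Ω)).relIndex Q = m at *
    generalize Q.relIndex S = n at *
    have h3 : n ∣ 4 := ⟨m, by rw [h1] at h2; nlinarith⟩
    have h4 : n ≤ 4 := Nat.le_of_dvd (by norm_num) h3
    interval_cases n <;> omega
  rcases hcases with h8 | h16 | h32'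
  · -- `Q = C_S(x)`
    have hQC : C S (x : Ω) = Q := Subgroup.eq_of_le_of_card_ge hCQ (by rw [h8, hC8])
    have h3 : ((α x : Q) : Ω) ∈ C S (x : Ω) := by rw [hQC]; exact (α x).2
    obtain ⟨h4, h5⟩ := pow_half_eq_one hS h32 hE hE2 hZ hxS hx h3 hαx
    apply h5
    have h6 : (α x) ^ (orderOf (x : Ω) / 2) = 1 := Subtype.ext (by
      rw [Subgroup.coe_pow, h4]; rfl)
    rw [← map_pow] at h6
    have h7 : x ^ (orderOf (x : Ω) / 2) = 1 := by
      apply α.injective
      rw [h6, map_one]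
    have h8' := congrArg Subtype.val h7
    rwa [Subgroup.coe_pow] at h8'
  · -- index two
    have hEQ := E_le_of_relIndex_two h16
    have hQ16 : Nat.card Q = 16 := by rw [h16] at h2; omega
    let K : Subgroup Q := Subgroup.closure {q : Q | q * q = 1}
    have hαK : ∀ (β : MulAut Q) (y : Q), y ∈ K → β y ∈ K := by
      intro β y hy
      have h3 : K ≤ K.comap β.toMonoidHom := by
        rw [Subgroup.closure_le]
        intro q hq
        refine Subgroup.subset_closure ?_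
        change β q * β q = 1
        rw [← map_mul, show q * q = 1 from hq, map_one]
      exact h3 hy
    have hEK : (E S).subgroupOf Q ≤ K := by
      intro q hq
      exact Subgroup.subset_closure (Subtype.ext (hE2 _ hq))
    have hKM : K ≤ (M S).subgroupOf Q := by
      rw [Subgroup.closure_le]
      intro q hq
      by_contra hqM
      have hqM' : (q : Ω) ∉ M S := hqM
      apply sq_not_mem_Z hS h32 hE hE2 hZ (hQS q.2) hqM'
      have h3 : (q : Ω) * q = 1 := congrArg Subtype.val (show q * q = 1 from hq)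
      rw [h3]
      exact (Z S).one_mem
    have hcE : Nat.card ((E S).subgroupOf Q) = 4 := by
      rw [Nat.card_congr (Subgroup.subgroupOfEquivOfLe hEQ).toEquiv, hE]
    have hd1 : 4 ∣ Nat.card K := hcE ▸ Subgroup.card_dvd_of_le hEK
    have hd2 : Nat.card ((M S).subgroupOf Q) ∣ 16 := hQ16 ▸ Subgroup.card_subgroup_dvd_card _
    have hd3 : Nat.card ((M S).subgroupOf Q) ≠ 16 := by
      intro h
      have h3 : (M S).subgroupOf Q = ⊤ := Subgroup.eq_top_of_card_eq _ (h.trans hQ16.symm)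
      apply hx
      have h4 : x ∈ (M S).subgroupOf Q := by rw [h3]; trivial
      exact h4
    have hd4 : Nat.card K ∣ Nat.card ((M S).subgroupOf Q) := Subgroup.card_dvd_of_le hKM
    have hd5 : Nat.card ((M S).subgroupOf Q) ≤ 8 := by
      have h4 : Nat.card ((M S).subgroupOf Q) ≤ 16 := Nat.le_of_dvd (by norm_num) hd2
      generalize Nat.card ((M S).subgroupOf Q) = m at *
      interval_cases m <;> omega
    have hKcases : Nat.card K = 4 ∨ Nat.card K = 8 := by
      have h3 : Nat.card K ≤ Nat.card ((M S).subgroupOf Q) :=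
        Nat.le_of_dvd Nat.card_pos hd4
      have h4 : 0 < Nat.card K := Nat.card_pos
      omega
    rcases hKcases with hK4 | hK8
    · have hKE : (E S).subgroupOf Q = K := Subgroup.eq_of_le_of_card_ge hEK (by rw [hK4, hcE])
      apply hx
      refine mem_M.2 ⟨hxS, fun e he => ?_⟩
      have h3 : (⟨e, hEQ he⟩ : Q) ∈ K := by rw [← hKE]; exact he
      have h4 := hαK α _ h3
      rw [← hKE] at h4
      have h5 := (mem_M.1 hαx).2 _ h4
      have h6 : α ⟨e, hEQ he⟩ * α x = α x * α ⟨e, hEQ he⟩ := Subtype.ext h5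
      rw [← map_mul, ← map_mul] at h6
      exact congrArg Subtype.val (α.injective h6)
    · have hKM' : K = (M S).subgroupOf Q := Subgroup.eq_of_le_of_card_ge hKM (by omega)
      apply hx
      have h3 : α x ∈ K := by rw [hKM']; exact hαx
      have h4 := hαK α⁻¹ _ h3
      rw [MulAut.inv_apply_self] at h4
      rw [hKM'] at h4
      exact h4
  · have hQ : Q = S := le_antisymm hQS (Subgroup.relIndex_eq_one.1 h32')
    subst hQ
    apply hx
    refine mem_M.2 ⟨hxS, fun e he => ?_⟩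
    have h4 := aut_preserves_E (α := α) (y := ⟨e, E_le he⟩) he
    have h5 := (mem_M.1 hαx).2 _ h4
    have h6 : α ⟨e, E_le he⟩ * α x = α x * α ⟨e, E_le he⟩ := Subtype.ext h5
    rw [← map_mul, ← map_mul] at h6
    exact congrArg Subtype.val (α.injective h6)

include hS h32 hE hE2 hZ in
/-- **Order `32`, `[S, S]` elementary abelian of order `4`, `|Z(S)| = 2`.** -/
theorem exists_of_klein {F : FusionSystem S} (hF : F.IsSaturated 2) :
    ∃ u ∈ S, ∀ v, F.IsConjElt u v → v ∈ S ∧ Nat.card (C S v) = 8 := by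
  have hp : Fact (Nat.Prime 2) := ⟨Nat.prime_two⟩
  obtain ⟨e, he, heZ⟩ : ∃ e ∈ E S, e ∉ Z S := by
    by_contra hno
    push Not at hno
    have hfin : Finite (Z S) := Nat.finite_of_card_ne_zero (by omega)
    have h2 := Nat.card_le_card_of_injective _ (Subgroup.inclusion_injective
      (show E S ≤ Z S from hno))
    omega
  obtain ⟨u, hu, hue⟩ : ∃ u ∈ S, ¬ (u * e = e * u) := by
    by_contra hno
    push Not at hno
    exact heZ (mem_Z.2 ⟨E_le he, hno⟩)
  have huM : u ∉ M S := fun h => hue ((mem_M.1 h).2 e he).symm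
  refine ⟨u, hu, fun v hv => ?_⟩
  have h1 := mem_iff_of_isConjElt hS hF {x | x ∈ S ∧ x ∉ M S} (fun Q _ hQc α _ => by
    have hfin : Finite Q := finite_of_le hQc.1
    refine mem_iff_of_maps fun x hx => ?_
    exact ⟨hQc.1 (α x).2, not_mem_M_aut hS h32 hE hE2 hZ hQc α hx.2⟩) hv
  obtain ⟨hvS, hvM⟩ := h1.1 ⟨hu, huM⟩
  refine ⟨hvS, ?_⟩
  have h1 := relIndex_C_eq_four hS h32 hE hE2 hZ hvS hvM
  have h2 := (card_C_ge h32 hE hvS).1
  rw [h1] at h2
  omega

end Klein

end Cfsg.Agent.H617.FusFour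
end

-- part: H617/FusAb
section
/-!
# Order `32`, `|[S, S]| = |Z(S)| = 4`
-/

set_option autoImplicit false

namespace Cfsg.Agent.H617.FusFour

open Cfsg Cfsg.FusionSystem Cfsg.Agent.H802 Cfsg.Agent.H617.FusInv Cfsg.Agent.H617.FusTwo

variable {Ω : Type*} [Group Ω] {S : Subgroup Ω}

/-- An involution normalizing a Sylow `2`-subgroup lies in it. -/
theorem mem_sylow_of_normalizes {H : Type*} [Group H] [Finite H] (R : Sylow 2 H) {τ : H}
    (hτ : τ * τ = 1) (hn : ∀ σ ∈ (R : Subgroup H), τ * σ * τ⁻¹ ∈ (R : Subgroup H)) :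
    τ ∈ (R : Subgroup H) := by
  have hp : Fact (Nat.Prime 2) := ⟨Nat.prime_two⟩
  have hP : IsPGroup 2 (Subgroup.zpowers τ) := by
    rintro ⟨_, n, rfl⟩
    refine ⟨1, Subtype.ext ?_⟩
    change (τ ^ n) ^ 2 ^ 1 = 1
    rw [pow_one, ← zpow_natCast, ← zpow_mul, mul_comm, zpow_mul]
    have : τ ^ ((2 : ℕ) : ℤ) = 1 := by rw [zpow_natCast, pow_two, hτ]
    rw [this, one_zpow]
  have h1 := hP.inf_normalizer_sylow R
  have hinv : τ⁻¹ = τ := by
    calc τ⁻¹ = τ⁻¹ * (τ * τ) := by rw [hτ, mul_one]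
      _ = τ := by group
  have h2 : τ ∈ Subgroup.normalizer ((R : Subgroup H) : Set H) := by
    rw [Subgroup.mem_normalizer_iff]
    refine fun x => ⟨hn x, fun hx => ?_⟩
    have h3 := hn _ hx
    have h4 : τ * (τ * x * τ⁻¹) * τ⁻¹ = x := by
      calc τ * (τ * x * τ⁻¹) * τ⁻¹ = (τ * τ) * x * (τ * τ)⁻¹ := by group
        _ = x := by rw [hτ]; group
    rwa [h4] at h3
  have h3 : τ ∈ (Subgroup.zpowers τ ⊓ Subgroup.normalizer ((R : Subgroup H) : Set H) :
      Subgroup H) := ⟨Subgroup.mem_zpowers τ, h2⟩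
  exact (h1.le h3).2

section Four

variable [Finite S] (h32 : Nat.card S = 32) (hE : Nat.card (E S) = 4)
  (hZ4 : Nat.card (Z S) = 4)

theorem E_enum {e f : Ω} (hE : Nat.card (E S) = 4) (he : e ∈ E S) (hf : f ∈ E S) (he1 : e ≠ 1)
    (hf1 : f ≠ 1) (hef : e ≠ f) (he2 : e * e = 1) (hf2 : f * f = 1) :
    ∀ c ∈ E S, c = 1 ∨ c = e ∨ c = f ∨ c = e * f := by
  classical
  have hfin : Finite (E S) := Nat.finite_of_card_ne_zero (by omega)
  have := Fintype.ofFinite (E S)
  intro c hc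
  by_contra hno
  push Not at hno
  obtain ⟨h1, h2, h3, h4⟩ := hno
  have hef1 : e * f ≠ 1 := fun h => hef (by
    calc e = e * (f * f) := by rw [hf2, mul_one]
      _ = (e * f) * f := by group
      _ = f := by rw [h, one_mul])
  have hefe : e * f ≠ e := fun h => hf1 (by
    calc f = e⁻¹ * (e * f) := by group
      _ = 1 := by rw [h, inv_mul_cancel])
  have heff : e * f ≠ f := fun h => he1 (by
    calc e = e * f * f⁻¹ := by group
      _ = 1 := by rw [h, mul_inv_cancel])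
  have h5 : ({1, ⟨e, he⟩, ⟨f, hf⟩, ⟨e * f, (E S).mul_mem he hf⟩, ⟨c, hc⟩} : Finset (E S)).card
      = 5 := by
    rw [Finset.card_insert_of_notMem, Finset.card_insert_of_notMem, Finset.card_insert_of_notMem,
      Finset.card_insert_of_notMem, Finset.card_singleton]
    · simp only [Finset.mem_singleton, Subtype.mk.injEq]
      exact fun h => h4 h.symm
    · simp only [Finset.mem_insert, Finset.mem_singleton, Subtype.mk.injEq, not_or]
      exact ⟨fun h => heff h.symm, fun h => h3 h.symm⟩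
    · simp only [Finset.mem_insert, Finset.mem_singleton, Subtype.mk.injEq, not_or]
      exact ⟨hef, fun h => hefe h.symm, fun h => h2 h.symm⟩
    · simp only [Finset.mem_insert, Finset.mem_singleton, not_or]
      refine ⟨fun h => he1 (congrArg Subtype.val h).symm, fun h => hf1 (congrArg Subtype.val h).symm,
        fun h => hef1 (congrArg Subtype.val h).symm, fun h => h1 (congrArg Subtype.val h).symm⟩
  have h6 := Finset.card_le_univ
    ({1, ⟨e, he⟩, ⟨f, hf⟩, ⟨e * f, (E S).mul_mem he hf⟩, ⟨c, hc⟩} : Finset (E S))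
  rw [h5, ← Nat.card_eq_fintype_card, hE] at h6
  omega

include h32 hE hZ4 in
/-- There is an abelian subgroup of index two. -/
theorem exists_abelian_index_two :
    ∃ A : Subgroup Ω, A ≤ S ∧ A.relIndex S = 2 ∧ ∀ a ∈ A, ∀ b ∈ A, a * b = b * a := by
  by_cases hex : ∃ x ∈ S, x ∉ Z S ∧ (C S x).relIndex S ≠ 4
  · obtain ⟨x, hx, hxZ, hx4⟩ := hex
    obtain ⟨h1, h2⟩ := card_C_ge h32 hE hx
    have hne : (C S x).relIndex S ≠ 1 := fun h =>
      C_ne hx hxZ (le_antisymm (C_le x) (Subgroup.relIndex_eq_one.1 h))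
    have h5 : (C S x).relIndex S = 2 := by
      generalize (C S x).relIndex S = r at *
      interval_cases r <;> omega
    refine ⟨C S x, C_le x, h5, ?_⟩
    have h3 := card_eq_mul_relIndex (Z_le_C (S := S) hx)
    have h6 : (Z S).relIndex (C S x) = 4 := by
      rw [h5] at h1
      rw [hZ4] at h3
      omega
    have hK : ∀ k ∈ Subgroup.zpowers x ⊔ Z S, ∀ a ∈ C S x, k * a = a * k := by
      intro k hk a ha
      have h7 : Subgroup.zpowers x ⊔ Z S ≤ Subgroup.centralizer {a} := by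
        refine sup_le (Subgroup.zpowers_le.2 ?_) fun e he => ?_
        · exact Subgroup.mem_centralizer_singleton_iff.2 (mem_C.1 ha).2
        · exact Subgroup.mem_centralizer_singleton_iff.2 ((mem_Z.1 he).2 a ha.1).symm
      exact Subgroup.mem_centralizer_singleton_iff.1 (h7 hk)
    by_cases hxx : x * x ∈ Z S
    · -- `⟨x⟩ Z` has index two
      have hKM : Subgroup.zpowers x ⊔ Z S ≤ C S x :=
        sup_le (Subgroup.zpowers_le.2 (self_mem_C hx)) (Z_le_C hx)
      have h8 := Subgroup.relIndex_mul_relIndex (Z S) _ (C S x)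
        (le_sup_right : Z S ≤ Subgroup.zpowers x ⊔ Z S) hKM
      have hxK : x ∈ Subgroup.zpowers x ⊔ Z S := Subgroup.mem_sup_left (Subgroup.mem_zpowers x)
      have h9 : (Z S).relIndex (Subgroup.zpowers x ⊔ Z S) ≠ 1 := fun h =>
        hxZ (Subgroup.relIndex_eq_one.1 h hxK)
      rw [h6] at h8
      have h10 : (Subgroup.zpowers x ⊔ Z S).relIndex (C S x) = 1 ∨
          (Subgroup.zpowers x ⊔ Z S).relIndex (C S x) = 2 := by
        generalize (Z S).relIndex (Subgroup.zpowers x ⊔ Z S) = m at *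
        generalize (Subgroup.zpowers x ⊔ Z S).relIndex (C S x) = n at *
        have h11 : n ∣ 4 := ⟨m, by rw [mul_comm]; exact h8.symm⟩
        have h12 : n ≤ 4 := Nat.le_of_dvd (by norm_num) h11
        interval_cases n <;> omega
      rcases h10 with h | h
      · have h11 := Subgroup.relIndex_eq_one.1 h
        exact fun a ha b hb => hK a (h11 ha) b hb
      · exact comm_of_relIndex_two h hK
    · have h11 := le_of_relIndex_four (Z_le_C hx) h6 (self_mem_C hx) hxx
      exact fun a ha b hb => hK a (h11 ha) b hb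
  · exfalso
    push Not at hex
    have hrel : ∀ x ∈ S, x ∉ Z S → (Z S).relIndex (C S x) = 2 := by
      intro x hx hxZ
      have h1 := hex x hx hxZ
      have h2 := (card_C_ge h32 hE hx).1
      have h3 := card_eq_mul_relIndex (Z_le_C (S := S) hx)
      rw [h1] at h2
      rw [hZ4] at h3
      omega
    have hK : ∀ p ∈ S, p ∉ Z S → ∀ q ∈ S, p * q = q * p → q ∈ Z S ∨ p⁻¹ * q ∈ Z S := by
      intro p hp hpZ q hq hpq
      by_cases hqZ : q ∈ Z S
      · exact Or.inl hqZ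
      · exact Or.inr (inv_mul_mem_of_relIndex_two (hrel p hp hpZ) (self_mem_C hp)
          (mem_C.2 ⟨hq, hpq⟩) hpZ hqZ)
    have hsq : ∀ x ∈ S, x * x ∈ Z S := by
      intro x hx
      by_cases hxZ : x ∈ Z S
      · exact (Z S).mul_mem hxZ hxZ
      · rw [mul_mem_iff_of_relIndex_two (hrel x hx hxZ) (self_mem_C hx) (self_mem_C hx)]
    have hEZ : E S ≤ Z S := by
      refine E_le_of_comm fun a ha b hb => ?_
      have h1 := hsq (a * b) (S.mul_mem ha hb)
      have h2 := hsq a⁻¹ (S.inv_mem ha)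
      have h3 := hsq b⁻¹ (S.inv_mem hb)
      have h4 := (mem_Z.1 h2).2 b⁻¹ (S.inv_mem hb)
      have h5 : a * b * a⁻¹ * b⁻¹ = a * b * (a * b) * (b⁻¹ * (a⁻¹ * a⁻¹)) * b⁻¹ := by
        simp [mul_assoc]
      rw [h5, h4]
      have h6 : a * b * (a * b) * (a⁻¹ * a⁻¹ * b⁻¹) * b⁻¹ =
          a * b * (a * b) * (a⁻¹ * a⁻¹) * (b⁻¹ * b⁻¹) := by simp [mul_assoc]
      rw [h6]
      exact (Z S).mul_mem ((Z S).mul_mem h1 h2) h3
    -- commutators are involutions
    have hinvol : ∀ a ∈ S, ∀ b ∈ S, ∀ e : Ω, a * b = e * (b * a) → e * e = 1 := by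
      intro a ha b hb e he
      have heE : e ∈ E S := by
        have : e = a * b * a⁻¹ * b⁻¹ := by rw [he]; group
        rw [this]
        exact comm_mem ha hb
      have h1 := (mem_Z.1 (hEZ heE)).2 a ha
      have h2 := (mem_Z.1 (hsq a ha)).2 b hb
      have h3 : a * a * b = e * e * (b * (a * a)) := by
        calc a * a * b = a * (a * b) := by group
          _ = (a * e) * (b * a) := by rw [he]; group
          _ = e * (a * b) * a := by rw [h1]; group
          _ = e * e * (b * (a * a)) := by rw [he]; simp [mul_assoc]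
      calc e * e = a * a * b * (b * (a * a))⁻¹ := by rw [h3]; group
        _ = 1 := by rw [h2, mul_inv_cancel]
    obtain ⟨x, hx, hxZ⟩ : ∃ x ∈ S, x ∉ Z S := by
      by_contra hno
      push Not at hno
      have hfin : Finite (Z S) := Nat.finite_of_card_ne_zero (by omega)
      have h2 := Nat.card_le_card_of_injective _ (Subgroup.inclusion_injective
        (show S ≤ Z S from hno))
      omega
    have hxrel : (C S x).relIndex S = Nat.card (E S) := by rw [hex x hx hxZ, hE]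
    have hfinE : Finite (E S) := Nat.finite_of_card_ne_zero (by omega)
    obtain ⟨e, he, he1⟩ : ∃ e ∈ E S, e ≠ 1 := by
      by_contra hno
      push Not at hno
      have h1 : E S = ⊥ := (Subgroup.eq_bot_iff_forall _).2 hno
      rw [h1, Subgroup.card_bot] at hE
      omega
    obtain ⟨y, hy, hyx⟩ := exists_comm_of_relIndex hx hxrel he
    have hyx' : y * x = e * (x * y) := by
      calc y * x = y * x * y⁻¹ * y := by group
        _ = e * (x * y) := by rw [hyx]; group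
    have he2 := hinvol y hy x hx e hyx'
    obtain ⟨f, hf, hf1, hef⟩ : ∃ f ∈ E S, f ≠ 1 ∧ e ≠ f := by
      by_contra hno
      push Not at hno
      have h1 : E S ≤ Subgroup.zpowers e := by
        intro f hf
        by_cases hf1 : f = 1
        · rw [hf1]
          exact Subgroup.one_mem _
        · rw [← hno f hf hf1]
          exact Subgroup.mem_zpowers e
      have hfinz : Finite (Subgroup.zpowers e) := finite_of_le (Subgroup.zpowers_le.2 (E_le he))
      have h2 := Nat.card_le_card_of_injective _ (Subgroup.inclusion_injective h1)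
      rw [Nat.card_zpowers, hE] at h2
      have h3 : orderOf e ∣ 2 := orderOf_dvd_of_pow_eq_one (by rw [pow_two, he2])
      have := Nat.le_of_dvd (by norm_num) h3
      omega
    obtain ⟨t, ht, htx⟩ := exists_comm_of_relIndex hx hxrel hf
    have htx' : t * x = f * (x * t) := by
      calc t * x = t * x * t⁻¹ * t := by group
        _ = f * (x * t) := by rw [htx]; group
    have hf2 := hinvol t ht x hx f htx'
    have heS := E_le he
    have hfS := E_le hf
    have hec : ∀ s ∈ S, s * e = e * s := (mem_Z.1 (hEZ he)).2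
    have hfc : ∀ s ∈ S, s * f = f * s := (mem_Z.1 (hEZ hf)).2
    have hyZ : y ∉ Z S := by
      intro h
      apply he1
      have h1 := (mem_Z.1 h).2 x hx
      calc e = e * (x * y) * (x * y)⁻¹ := by group
        _ = y * x * (x * y)⁻¹ := by rw [hyx']
        _ = 1 := by rw [h1, mul_inv_cancel]
    have htZ : t ∉ Z S := by
      intro h
      apply hf1
      have h1 := (mem_Z.1 h).2 x hx
      calc f = f * (x * t) * (x * t)⁻¹ := by group
        _ = t * x * (x * t)⁻¹ := by rw [htx']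
        _ = 1 := by rw [h1, mul_inv_cancel]
    -- `t` is not in `y Z`, `y⁻¹ t` does not commute with `x`
    have hcon1 : ∀ ζ ∈ Z S, t ≠ y * ζ := by
      rintro ζ hζ rfl
      apply hef
      have h1 := (mem_Z.1 hζ).2 x hx
      have h2 : y * ζ * x = e * (x * (y * ζ)) := by
        calc y * ζ * x = y * (x * ζ) := by rw [h1]; group
          _ = (y * x) * ζ := by group
          _ = e * (x * (y * ζ)) := by rw [hyx']; group
      rw [htx'] at h2
      exact (mul_right_cancel h2).symm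
    have hcon2 : ∀ ζ ∈ Z S, t ≠ ζ * x := by
      rintro ζ hζ rfl
      apply hf1
      have h1 := (mem_Z.1 hζ).2 x hx
      have h2 : ζ * x * x = 1 * (x * (ζ * x)) := by
        calc ζ * x * x = x * ζ * x := by rw [h1]
          _ = 1 * (x * (ζ * x)) := by group
      rw [htx'] at h2
      exact mul_right_cancel h2
    have hcon3 : ∀ ζ ∈ Z S, y ≠ ζ * x := by
      rintro ζ hζ rfl
      apply he1
      have h1 := (mem_Z.1 hζ).2 x hx
      have h2 : ζ * x * x = 1 * (x * (ζ * x)) := by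
        calc ζ * x * x = x * ζ * x := by rw [h1]
          _ = 1 * (x * (ζ * x)) := by group
      rw [hyx'] at h2
      exact mul_right_cancel h2
    have hcon4 : ∀ ζ ∈ Z S, t ≠ y * ζ * x := by
      rintro ζ hζ rfl
      apply hef
      have h1 := (mem_Z.1 hζ).2 x hx
      have h2 : y * ζ * x * x = e * (x * (y * ζ * x)) := by
        calc y * ζ * x * x = y * (ζ * x) * x := by group
          _ = y * (x * ζ) * x := by rw [h1]
          _ = (y * x) * (ζ * x) := by group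
          _ = e * (x * (y * ζ * x)) := by rw [hyx']; group
      rw [htx'] at h2
      exact (mul_right_cancel h2).symm
    -- the commutator of `y` and `t`
    obtain ⟨c, hc⟩ : ∃ c, c = y * t * y⁻¹ * t⁻¹ := ⟨_, rfl⟩
    have hcE : c ∈ E S := by rw [hc]; exact comm_mem hy ht
    have hyt : y * t = c * (t * y) := by rw [hc]; group
    rcases E_enum hE he hf he1 hf1 hef he2 hf2 c hcE with h | h | h | h
    · -- `c = 1`
      rw [h, one_mul] at hyt
      rcases hK y hy hyZ t ht hyt with h1 | h1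
      · exact htZ h1
      · exact hcon1 _ h1 (by group)
    · -- `c = e`
      rw [h] at hyt
      have hyxi : y * x⁻¹ = e * (x⁻¹ * y) := by
        calc y * x⁻¹ = e * e * (y * x⁻¹) := by rw [he2, one_mul]
          _ = e * (x⁻¹ * x) * (e * (y * x⁻¹)) := by group
          _ = e * x⁻¹ * (x * e) * y * x⁻¹ := by group
          _ = e * x⁻¹ * (e * (x * y)) * x⁻¹ := by rw [hec x hx]; group
          _ = e * (x⁻¹ * y) := by rw [← hyx']; group
      have h1 : y * (t * x⁻¹) = t * x⁻¹ * y := by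
        calc y * (t * x⁻¹) = (y * t) * x⁻¹ := by group
          _ = e * t * (y * x⁻¹) := by rw [hyt]; group
          _ = e * (t * e) * (x⁻¹ * y) := by rw [hyxi]; group
          _ = e * e * (t * x⁻¹ * y) := by rw [hec t ht]; group
          _ = t * x⁻¹ * y := by rw [he2, one_mul]
      rcases hK y hy hyZ _ (S.mul_mem ht (S.inv_mem hx)) h1 with h2 | h2
      · exact hcon2 _ h2 (by group)
      · exact hcon4 _ h2 (by group)
    · -- `c = f`
      rw [h] at hyt
      have htxi : t * x⁻¹ = f * (x⁻¹ * t) := by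
        calc t * x⁻¹ = f * f * (t * x⁻¹) := by rw [hf2, one_mul]
          _ = f * (x⁻¹ * x) * (f * (t * x⁻¹)) := by group
          _ = f * x⁻¹ * (x * f) * t * x⁻¹ := by group
          _ = f * x⁻¹ * (f * (x * t)) * x⁻¹ := by rw [hfc x hx]; group
          _ = f * (x⁻¹ * t) := by rw [← htx']; group
      have hty : t * y = f * (y * t) := by
        calc t * y = f * f * (t * y) := by rw [hf2, one_mul]
          _ = f * (y * t) := by rw [hyt]; group
      have h1 : t * (y * x⁻¹) = y * x⁻¹ * t := by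
        calc t * (y * x⁻¹) = (t * y) * x⁻¹ := by group
          _ = f * y * (t * x⁻¹) := by rw [hty]; group
          _ = f * (y * f) * (x⁻¹ * t) := by rw [htxi]; group
          _ = f * f * (y * x⁻¹ * t) := by rw [hfc y hy]; group
          _ = y * x⁻¹ * t := by rw [hf2, one_mul]
      rcases hK t ht htZ _ (S.mul_mem hy (S.inv_mem hx)) h1 with h2 | h2
      · exact hcon3 _ h2 (by group)
      · have h3 := (Z S).inv_mem h2
        have h4 := (mem_Z.1 h3).2 t ht
        refine hcon4 _ ((Z S).mul_mem h3 ((hsq x⁻¹ (S.inv_mem hx)))) ?_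
        have h5 := (mem_Z.1 h3).2 y hy
        -- `t = y (t⁻¹ y x⁻¹)⁻¹ x⁻¹ x⁻¹ x`
        calc t = t * (t⁻¹ * (y * x⁻¹))⁻¹ * (t⁻¹ * (y * x⁻¹)) := by group
          _ = (t⁻¹ * (y * x⁻¹))⁻¹ * t * (t⁻¹ * (y * x⁻¹)) := by rw [h4]
          _ = ((t⁻¹ * (y * x⁻¹))⁻¹ * y) * x⁻¹ := by group
          _ = (y * (t⁻¹ * (y * x⁻¹))⁻¹) * x⁻¹ := by rw [h5]
          _ = y * ((t⁻¹ * (y * x⁻¹))⁻¹ * (x⁻¹ * x⁻¹)) * x := by group
    · -- `c = e f`
      rw [h] at hyt
      have hefc : ∀ s ∈ S, s * (e * f) = e * f * s := fun s hs => by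
        calc s * (e * f) = (s * e) * f := by group
          _ = e * (s * f) := by rw [hec s hs]; group
          _ = e * f * s := by rw [hfc s hs]; group
      have hef2 : e * f * (e * f) = 1 := by
        calc e * f * (e * f) = e * (f * e) * f := by group
          _ = (e * e) * (f * f) := by rw [← hfc e heS]; group
          _ = 1 := by rw [he2, hf2, one_mul]
      have hty : t * y = e * f * (y * t) := by
        calc t * y = e * f * (e * f) * (t * y) := by rw [hef2, one_mul]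
          _ = e * f * (y * t) := by rw [hyt]; group
      have h1 : x * y * (y * t) = y * t * (x * y) := by
        symm
        calc y * t * (x * y) = y * (t * x) * y := by group
          _ = (y * f) * x * (t * y) := by rw [htx']; group
          _ = (y * f) * (x * (e * f)) * (y * t) := by rw [hty]; group
          _ = (f * y) * ((e * f) * x) * (y * t) := by rw [hfc y hy, hefc x hx]
          _ = f * (y * (e * f)) * x * (y * t) := by group
          _ = f * ((e * f) * y) * x * (y * t) := by rw [hefc y hy]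
          _ = (f * (e * f)) * (y * x) * (y * t) := by group
          _ = ((e * f) * f) * (e * (x * y)) * (y * t) := by rw [hefc f hfS, hyx']
          _ = e * (f * f) * e * (x * y * (y * t)) := by group
          _ = x * y * (y * t) := by rw [hf2, mul_one, he2, one_mul]
      have hxyZ : x * y ∉ Z S := by
        intro h2
        apply hyZ
        by_contra
        apply he1
        have h3 := (mem_Z.1 h2).2 x hx
        have h4 : x * y = y * x := by
          calc x * y = x * (x * y) * x⁻¹ * (x * y)⁻¹ * (x * y) := by rw [h3]; group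
            _ = x * y := by rw [h3]; group
            _ = x⁻¹ * (x * (x * y)) := by group
            _ = x⁻¹ * (x * y * x) := by rw [h3]
            _ = y * x := by group
        calc e = e * (x * y) * (x * y)⁻¹ := by group
          _ = y * x * (x * y)⁻¹ := by rw [hyx']
          _ = 1 := by rw [h4, mul_inv_cancel]
      rcases hK (x * y) (S.mul_mem hx hy) hxyZ (y * t) (S.mul_mem hy ht) h1 with h2 | h2
      · -- `y t ∈ Z`
        have h3 := (Z S).mul_mem ((Z S).inv_mem (hsq y hy)) h2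
        have h4 := (mem_Z.1 h2).2 y⁻¹ (S.inv_mem hy)
        refine hcon1 _ ((Z S).mul_mem h2 (hsq y⁻¹ (S.inv_mem hy))) ?_
        calc t = y⁻¹ * (y * t) := by group
          _ = y * (y⁻¹ * (y⁻¹ * (y * t))) := by group
          _ = y * (y⁻¹ * ((y * t) * y⁻¹)) := by rw [h4]
          _ = y * ((y⁻¹ * (y * t)) * y⁻¹) := by group
          _ = y * (y * t * y⁻¹ * y⁻¹) := by rw [h4]
          _ = y * (y * t * (y⁻¹ * y⁻¹)) := by group
      · -- `(x y)⁻¹ y t ∈ Z`
        have h3 := (mem_Z.1 h2).2 y⁻¹ (S.inv_mem hy)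
        refine hcon2 _ ((Z S).mul_mem (hEZ he) h2) ?_
        have h4 := (mem_Z.1 h2).2 x hx
        have hyiy : y⁻¹ * x * y = e * x := by
          have h5 := hec y⁻¹ (S.inv_mem hy)
          calc y⁻¹ * x * y = y⁻¹ * (e * e) * (x * y) := by rw [he2]; group
            _ = (y⁻¹ * e) * (e * (x * y)) := by group
            _ = (e * y⁻¹) * (y * x) := by rw [h5, hyx']
            _ = e * x := by group
        calc t = y⁻¹ * ((x * y) * ((x * y)⁻¹ * (y * t))) := by group
          _ = (y⁻¹ * x * y) * ((x * y)⁻¹ * (y * t)) := by group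
          _ = e * (x * ((x * y)⁻¹ * (y * t))) := by rw [hyiy]; group
          _ = e * ((x * y)⁻¹ * (y * t)) * x := by rw [h4]; group

end Four

end Cfsg.Agent.H617.FusFour
end

-- part: H617/FusAbTwo
section
/-!
# Order `32`, `|[S, S]| = |Z(S)| = 4`: fusion
-/

set_option autoImplicit false

namespace Cfsg.Agent.H617.FusFour

open Cfsg Cfsg.FusionSystem Cfsg.Agent.H802 Cfsg.Agent.H617.FusInv Cfsg.Agent.H617.FusTwo

variable {Ω : Type*} [Group Ω] {S : Subgroup Ω}

section Elem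

variable [Finite S] (hS : IsPGroup 2 S) (h32 : Nat.card S = 32) (hE : Nat.card (E S) = 4)
  (hZ4 : Nat.card (Z S) = 4) (hE2 : ∀ e ∈ E S, e * e = 1)
  {A : Subgroup Ω} (hA : A ≤ S) (h2 : A.relIndex S = 2)
  (hab : ∀ a ∈ A, ∀ b ∈ A, a * b = b * a)

include h32 hZ4 in
omit [Finite S] in
theorem Z_ne : Z S ≠ S := by
  intro h
  rw [h, h32] at hZ4
  omega

include h32 h2 in
omit [Finite S] in
theorem exists_out : ∃ s ∈ S, s ∉ A := by
  by_contra hno
  push Not at hno
  have : A.relIndex S = 1 := Subgroup.relIndex_eq_one.2 hno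
  omega

include h32 hE hZ4 hE2 hA h2 hab in
theorem E_eq_Z : E S = Z S := by
  have hEA := E_le_of_relIndex_two h2
  obtain ⟨s, hs, hsA⟩ := exists_out h32 h2
  have h1 : E S ≤ Z S := by
    intro e he
    refine mem_Z_of_comm_out hA h2 hab (hEA he) hs hsA ?_
    have h3 := conj_E_out hA h2 hab hs hsA he
    calc s * e = s * e * s⁻¹ * s := by group
      _ = e⁻¹ * (e * e) * s := by rw [h3, hE2 e he, mul_one]
      _ = e * s := by group
  have hfin : Finite (Z S) := Nat.finite_of_card_ne_zero (by omega)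
  exact Subgroup.eq_of_le_of_card_ge h1 (by rw [hE, hZ4])

include h32 hZ4 hA h2 hab in
theorem card_C_out_eight {u : Ω} (hu : u ∈ S) (huA : u ∉ A) :
    Nat.card (C S u) = 8 ∧ (C S u).relIndex S = 4 := by
  have h1 := card_C_out hA h2 hab (Z_ne h32 hZ4) hu huA
  have h3 := card_eq_mul_relIndex (Z_le_C (S := S) hu)
  rw [h1, hZ4] at h3
  have h4 := card_eq_mul_relIndex (C_le (S := S) u)
  rw [h3, h32] at h4
  exact ⟨by omega, by omega⟩

/-- A map on `Q` of the form `q ↦ ζ(q) q`. -/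
theorem exists_autInducedBy_of_agree {Q : Subgroup Ω} (hQ : Q ≤ S) {σ : MulAut Q} {x : Q}
    (hfix : ∀ q : Q, (q : Ω) ∈ Z S → σ q = q) (hZQ : Z S ≤ Q)
    (hgen : ∀ q : Q, (q : Ω) ∈ Z S ∨ (x : Ω)⁻¹ * q ∈ Z S) {h : Ω} (hh : h ∈ S)
    (hx : ((σ x : Q) : Ω) = h * x * h⁻¹) : σ ∈ autInducedBy S Q := by
  refine (mem_autInducedBy_iff S Q σ).2 ⟨h, hh, fun q => ?_⟩
  rcases hgen q with hq | hq
  · rw [hfix q hq, (mem_Z.1 hq).2 h hh, mul_inv_cancel_right]
  · have h1 : (⟨(x : Ω)⁻¹ * q, hZQ hq⟩ : Q) = x⁻¹ * q := rfl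
    have h3 : q = x * ⟨(x : Ω)⁻¹ * q, hZQ hq⟩ := by rw [h1]; group
    have h4 := hfix ⟨(x : Ω)⁻¹ * q, hZQ hq⟩ hq
    have h5 := (mem_Z.1 hq).2 h hh
    rw [h3, map_mul, h4, Subgroup.coe_mul, Subgroup.coe_mul, hx]
    calc h * (x : Ω) * h⁻¹ * ((x : Ω)⁻¹ * q)
        = h * x * h⁻¹ * ((x : Ω)⁻¹ * q * h) * h⁻¹ := by group
      _ = h * x * h⁻¹ * (h * ((x : Ω)⁻¹ * q)) * h⁻¹ := by rw [h5]
      _ = h * (x * ((x : Ω)⁻¹ * q)) * h⁻¹ := by group

include hS h32 hE hZ4 hE2 hA h2 hab in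
theorem not_mem_A_aut {F : FusionSystem S} (hF : F.IsSaturated 2) {Q : Subgroup Ω}
    (hQn : F.IsFullyNormalized Q) (hQc : F.IsCentric Q)
    {α : MulAut Q} (hα : α ∈ F.autGroup Q) (hext : ¬ Extends F Q α) {x : Q}
    (hx : (x : Ω) ∉ A) : ((α x : Q) : Ω) ∉ A := by
  have hp : Fact (Nat.Prime 2) := ⟨Nat.prime_two⟩
  have hQS := hQc.1
  have hfin : Finite Q := finite_of_le hQS
  have hfinM : Finite (MulAut Q) := inferInstance
  have hEZ := E_eq_Z h32 hE hZ4 hE2 hA h2 hab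
  have hZA := Z_le_A hA h2 hab (Z_ne h32 hZ4)
  have hZ2 : ∀ ζ ∈ Z S, ζ * ζ = 1 := fun ζ hζ => hE2 ζ (by rw [hEZ]; exact hζ)
  have hZQ := Z_le_of_isCentric hQc
  have hxS : (x : Ω) ∈ S := hQS x.2
  have hxZ : (x : Ω) ∉ Z S := fun h => hx (hZA h)
  obtain ⟨hC8, hC4⟩ := card_C_out_eight h32 hZ4 hA h2 hab hxS hx
  have hrelC := card_C_out hA h2 hab (Z_ne h32 hZ4) hxS hx
  have hCQ : C S (x : Ω) ≤ Q := by
    intro y hy
    by_cases hyZ : y ∈ Z S
    · exact hZQ hyZ
    · have h3 := inv_mul_mem_of_relIndex_two hrelC (self_mem_C hxS) hy hxZ hyZ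
      have h4 : y = x * ((x : Ω)⁻¹ * y) := by group
      rw [h4]
      exact Q.mul_mem x.2 (hZQ h3)
  have h1 := card_eq_mul_relIndex hCQ
  have h3 := card_eq_mul_relIndex hQS
  rw [hC8] at h1
  rw [h32] at h3
  intro hαx
  have hcases : Nat.card Q = 8 ∨ Q.relIndex S = 2 ∨ Q.relIndex S = 1 := by
    generalize (C S (x : Ω)).relIndex Q = m at *
    generalize Q.relIndex S = n at *
    have h5 : n ∣ 4 := ⟨m, by rw [h1] at h3; nlinarith⟩
    have h4 : n ≤ 4 := Nat.le_of_dvd (by norm_num) h5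
    interval_cases n <;> omega
  -- the Sylow property
  obtain ⟨-, R, hR⟩ := isFullyAutomized_of_isFullyNormalized hS hF hQn
  have hsyl : ∀ τ ∈ F.autGroup Q, τ * τ = 1 →
      (∀ σ ∈ autInducedBy S Q, τ * σ * τ⁻¹ ∈ autInducedBy S Q) → τ ∈ autInducedBy S Q := by
    intro τ hτ hττ hn
    have h5 := mem_sylow_of_normalizes R (τ := ⟨τ, hτ⟩) (Subtype.ext hττ) (fun σ hσ => by
      rw [hR] at hσ ⊢
      exact hn _ hσ)
    rw [hR] at h5
    exact h5
  -- elements of `S` act trivially on `Q / Z`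
  have hcm : ∀ h ∈ S, ∀ q : Q, h * (q : Ω) * h⁻¹ * (q : Ω)⁻¹ ∈ Z S := fun h hh q => by
    rw [← hEZ]
    exact comm_mem hh (hQS q.2)
  have hnorm : S ≤ Subgroup.normalizer (Q : Set Ω) := by
    have hcj : ∀ s ∈ S, ∀ q ∈ Q, s * q * s⁻¹ ∈ Q := by
      intro s hs q hq
      have h5 : s * q * s⁻¹ = (s * q * s⁻¹ * q⁻¹) * q := by group
      rw [h5]
      exact Q.mul_mem (hZQ (hcm s hs ⟨q, hq⟩)) hq
    intro s hs
    rw [Subgroup.mem_normalizer_iff]
    refine fun q => ⟨hcj s hs q, fun hq => ?_⟩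
    have h5 := hcj s⁻¹ (S.inv_mem hs) _ hq
    have h6 : s⁻¹ * (s * q * s⁻¹) * s⁻¹⁻¹ = q := by group
    rwa [h6] at h5
  rcases hcases with h8 | h16 | h32'
  · -- `Q = C_S(x)`
    have hQC : C S (x : Ω) = Q := Subgroup.eq_of_le_of_card_ge hCQ (by rw [h8, hC8])
    have hQrel : (Z S).relIndex Q = 2 := by rw [← hQC]; exact hrelC
    have hQA : ∀ q ∈ Q, q ∈ A → q ∈ Z S := fun q hq hqA => by
      rw [← hQC] at hq
      exact mem_Z_of_comm_out hA h2 hab hqA hxS hx (mem_C.1 hq).2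
    have hαxZ : ((α x : Q) : Ω) ∈ Z S := hQA _ (α x).2 hαx
    have hgen : ∀ q : Q, (q : Ω) ∈ Z S ∨ (x : Ω)⁻¹ * q ∈ Z S := by
      intro q
      by_cases hq : (q : Ω) ∈ Z S
      · exact Or.inl hq
      · exact Or.inr (inv_mul_mem_of_relIndex_two hQrel x.2 q.2 hxZ hq)
    have hQab : ∀ a b : Q, a * b = b * a := by
      have h5 := comm_of_relIndex_two hQrel (fun n hn a ha => ((mem_Z.1 hn).2 a (hQS ha)).symm)
      exact fun a b => Subtype.ext (h5 a a.2 b b.2)
    -- `Q` is elementary abelian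
    have hQ2 : ∀ q : Q, q * q = 1 := by
      have hx2 : x * x = 1 := by
        apply α.injective
        rw [map_mul, map_one]
        exact Subtype.ext (hZ2 _ hαxZ)
      intro q
      rcases hgen q with hq | hq
      · exact Subtype.ext (hZ2 _ hq)
      · have h5 : (x⁻¹ * q) * (x⁻¹ * q) = 1 := Subtype.ext (hZ2 _ hq)
        calc q * q = (x * x) * ((x⁻¹ * q) * (x⁻¹ * q)) := by
              rw [hQab (x⁻¹ * q) (x⁻¹ * q), show (x * x) * ((x⁻¹ * q) * (x⁻¹ * q)) =
                x * (q * (x⁻¹ * q)) by group, ← mul_assoc q, hQab q x⁻¹]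
              group
          _ = 1 := by rw [hx2, h5, one_mul]
    -- an element of `Z` leaving `Z`
    obtain ⟨q₀, hq₀, hαq₀⟩ : ∃ q : Q, (q : Ω) ∈ Z S ∧ ((α q : Q) : Ω) ∉ Z S := by
      by_contra hno
      push Not at hno
      exact hxZ ((mem_iff_of_maps (X := (Z S : Set Ω)) (α := α) hno x).2 hαxZ)
    have hq₀1 : q₀ ≠ 1 := by
      rintro rfl
      apply hαq₀
      rw [map_one]
      exact (Z S).one_mem
    -- an element of `Z` staying in `Z`
    obtain ⟨e, heZ, he1, hαe⟩ : ∃ e : Q, (e : Ω) ∈ Z S ∧ e ≠ 1 ∧ ((α e : Q) : Ω) ∈ Z S := by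
      obtain ⟨q₁, hq₁, hq₁1, hq₁0⟩ : ∃ q : Q, (q : Ω) ∈ Z S ∧ q ≠ 1 ∧ q ≠ q₀ := by
        by_contra hno
        push Not at hno
        have h5 : (Z S).subgroupOf Q ≤ Subgroup.zpowers q₀ := by
          intro q hq
          by_cases hq1 : q = 1
          · rw [hq1]
            exact Subgroup.one_mem _
          · rw [hno q hq hq1]
            exact Subgroup.mem_zpowers q₀
        have h6 := Nat.card_le_card_of_injective _ (Subgroup.inclusion_injective h5)
        rw [Nat.card_congr (Subgroup.subgroupOfEquivOfLe hZQ).toEquiv, hZ4, Nat.card_zpowers] at h6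
        have h7 : orderOf q₀ ∣ 2 := orderOf_dvd_of_pow_eq_one (by rw [pow_two, hQ2])
        have := Nat.le_of_dvd (by norm_num) h7
        omega
      by_cases hαq₁ : ((α q₁ : Q) : Ω) ∈ Z S
      · exact ⟨q₁, hq₁, hq₁1, hαq₁⟩
      · refine ⟨q₀⁻¹ * q₁, (Z S).mul_mem ((Z S).inv_mem hq₀) hq₁, ?_, ?_⟩
        · intro h
          apply hq₁0
          calc q₁ = q₀ * (q₀⁻¹ * q₁) := by group
            _ = q₀ := by rw [h, mul_one]
        · rw [map_mul, map_inv]
          exact inv_mul_mem_of_relIndex_two hQrel (α q₀).2 (α q₁).2 hαq₀ hαq₁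
    obtain ⟨g, hg, hgx⟩ := exists_comm_of_relIndex hxS (hC4.trans hE.symm)
      (show ((α e : Q) : Ω) ∈ E S by rw [hEZ]; exact hαe)
    obtain ⟨β, hβF, hβS, hβ⟩ := exists_conjAut_mem (F := F) hQS hg (hnorm hg)
    -- the action of `β`
    have hβ1 : ∀ q : Q, (q : Ω) ∈ Z S → β q = q := fun q hq => Subtype.ext (by
      rw [hβ, (mem_Z.1 hq).2 g hg, mul_inv_cancel_right])
    have hβx : β x = α e * x := Subtype.ext (by rw [hβ, hgx]; rfl)
    have hβ2 : ∀ q : Q, (q : Ω) ∉ Z S → β q = α e * q := by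
      intro q hq
      have h5 : (x : Ω)⁻¹ * q ∈ Z S := (hgen q).resolve_left hq
      have h6 := hβ1 (x⁻¹ * q) h5
      calc β q = β (x * (x⁻¹ * q)) := by congr 1; group
        _ = β x * β (x⁻¹ * q) := map_mul _ _ _
        _ = α e * q := by rw [hβx, h6]; group
    obtain ⟨τ, hτ⟩ : ∃ τ : MulAut Q, τ = α⁻¹ * β * α := ⟨_, rfl⟩
    have hτF : τ ∈ F.autGroup Q := by
      rw [hτ]
      exact Subgroup.mul_mem _ (Subgroup.mul_mem _ (Subgroup.inv_mem _ hα) hβF) hα
    have hτa : ∀ q : Q, τ q = α⁻¹ (β (α q)) := fun q => by rw [hτ]; rfl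
    have hτ1 : ∀ q : Q, ((α q : Q) : Ω) ∈ Z S → τ q = q := fun q hq => by
      rw [hτa, hβ1 _ hq, MulAut.inv_apply_self]
    have hτ2 : ∀ q : Q, ((α q : Q) : Ω) ∉ Z S → τ q = e * q := fun q hq => by
      rw [hτa, hβ2 _ hq, ← map_mul, MulAut.inv_apply_self]
    have hτZ : ∀ q : Q, (q : Ω) ∈ Z S → ((τ q : Q) : Ω) ∈ Z S := by
      intro q hq
      by_cases h5 : ((α q : Q) : Ω) ∈ Z S
      · rw [hτ1 q h5]
        exact hq
      · rw [hτ2 q h5]
        exact (Z S).mul_mem heZ hq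
    have hττ : τ * τ = 1 := by
      apply MulEquiv.ext
      intro q
      change τ (τ q) = q
      by_cases h5 : ((α q : Q) : Ω) ∈ Z S
      · rw [hτ1 q h5, hτ1 q h5]
      · rw [hτ2 q h5, map_mul, hτ1 e hαe, hτ2 q h5, ← mul_assoc, hQ2 e, one_mul]
    have hτi : τ⁻¹ = τ := by
      calc τ⁻¹ = τ⁻¹ * (τ * τ) := by rw [hττ, mul_one]
        _ = τ := by group
    have hmem := hsyl τ hτF hττ (fun σ hσ => by
      obtain ⟨h, hh, hσh⟩ := (mem_autInducedBy_iff S Q σ).1 hσ
      have hσ1 : ∀ q : Q, (q : Ω) ∈ Z S → σ q = q := fun q hq => Subtype.ext (by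
        rw [hσh, (mem_Z.1 hq).2 h hh, mul_inv_cancel_right])
      have hfix : ∀ q : Q, (q : Ω) ∈ Z S → (τ * σ * τ⁻¹) q = q := by
        intro q hq
        rw [hτi]
        change τ (σ (τ q)) = q
        rw [hσ1 _ (hτZ q hq)]
        exact DFunLike.congr_fun hττ q
      have hxx : (((τ * σ * τ⁻¹) x : Q) : Ω) ∉ Z S := by
        intro h5
        apply hxZ
        exact (mem_iff_of_maps (X := (Z S : Set Ω)) (α := τ * σ * τ⁻¹) (fun q hq => by
          have := hfix q hq
          rw [this]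
          exact hq) x).2 h5
      have h5 : ((x : Ω)⁻¹ * ((τ * σ * τ⁻¹) x : Q)) ∈ Z S := (hgen _).resolve_left hxx
      obtain ⟨h', hh', hh'x⟩ := exists_comm_of_relIndex hxS (hC4.trans hE.symm)
        (show (x : Ω)⁻¹ * ((τ * σ * τ⁻¹) x : Q) ∈ E S by rw [hEZ]; exact h5)
      refine exists_autInducedBy_of_agree hQS hfix hZQ hgen hh' ?_
      have h6 := (mem_Z.1 h5).2 x hxS
      rw [hh'x, ← h6]
      group)
    obtain ⟨h, hh, hτh⟩ := (mem_autInducedBy_iff S Q τ).1 hmem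
    have h5 : τ q₀ = q₀ := Subtype.ext (by
      rw [hτh, (mem_Z.1 hq₀).2 h hh, mul_inv_cancel_right])
    rw [hτ2 q₀ hαq₀] at h5
    exact he1 (mul_eq_right.1 h5)
  · -- index two
    have hQ16 : Nat.card Q = 16 := by rw [h16] at h3; omega
    have hcen : ∀ y : Q, (y : Ω) ∈ Z S ↔ ∀ q : Q, q * y = y * q := by
      intro y
      constructor
      · exact fun h q => Subtype.ext ((mem_Z.1 h).2 q (hQS q.2))
      · intro h
        by_cases hyA : (y : Ω) ∈ A
        · exact mem_Z_of_comm_out hA h2 hab hyA hxS hx (congrArg Subtype.val (h x))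
        · exfalso
          have h5 : Q ≤ C S (y : Ω) := fun q hq =>
            mem_C.2 ⟨hQS hq, (congrArg Subtype.val (h ⟨q, hq⟩)).symm⟩
          have hfinC : Finite (C S (y : Ω)) := finite_of_le (C_le _)
          have h6 := Nat.card_le_card_of_injective _ (Subgroup.inclusion_injective h5)
          rw [hQ16, (card_C_out_eight h32 hZ4 hA h2 hab (hQS y.2) hyA).1] at h6
          omega
    have hαZ : ∀ (β : MulAut Q) (y : Q), (y : Ω) ∈ Z S → ((β y : Q) : Ω) ∈ Z S := by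
      intro β y hy
      rw [hcen] at hy ⊢
      intro q
      have h5 := congrArg β (hy (β⁻¹ q))
      rw [map_mul, map_mul, MulAut.apply_inv_self] at h5
      exact h5
    obtain ⟨g, hg, hgQ⟩ : ∃ g ∈ S, g ∉ Q := exists_out h32 h16
    obtain ⟨β, hβF, hβS, hβ⟩ := exists_conjAut_mem (F := F) hQS hg (hnorm hg)
    apply hext
    refine extends_of_conj_mem (isReceptive_of_isFullyNormalized hS hF hQn) hα hg hgQ hβ ?_
    -- all induced automorphisms act trivially on `Z` and `Q / Z`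
    have hind : ∀ σ ∈ autInducedBy S Q, (∀ q : Q, (q : Ω) ∈ Z S → σ q = q) ∧
        ∀ q : Q, ((σ q * q⁻¹ : Q) : Ω) ∈ Z S := by
      intro σ hσ
      obtain ⟨h, hh, hσh⟩ := (mem_autInducedBy_iff S Q σ).1 hσ
      refine ⟨fun q hq => Subtype.ext (by
        rw [hσh, (mem_Z.1 hq).2 h hh, mul_inv_cancel_right]), fun q => ?_⟩
      rw [Subgroup.coe_mul, hσh]
      exact hcm h hh q
    obtain ⟨hβ1, hβ2⟩ := hind β hβS
    obtain ⟨τ, hτ⟩ : ∃ τ : MulAut Q, τ = α * β * α⁻¹ := ⟨_, rfl⟩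
    have hτa : ∀ q : Q, τ q = α (β (α⁻¹ q)) := fun q => by rw [hτ]; rfl
    have hτ1 : ∀ q : Q, (q : Ω) ∈ Z S → τ q = q := by
      intro q hq
      rw [hτa, hβ1 _ (hαZ α⁻¹ q hq), MulAut.apply_inv_self]
    have hτ2 : ∀ q : Q, ((τ q * q⁻¹ : Q) : Ω) ∈ Z S := by
      intro q
      have h5 : τ q * q⁻¹ = α (β (α⁻¹ q) * (α⁻¹ q)⁻¹) := by
        rw [map_mul, map_inv, MulAut.apply_inv_self, hτa]
      rw [h5]
      exact hαZ α _ (hβ2 _)
    have hcommZ : ∀ q : Q, (q : Ω) ∈ Z S → ∀ r : Q, r * q = q * r := fun q hq => (hcen q).1 hq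
    rw [← hτ]
    refine hsyl τ ?_ ?_ fun σ hσ => ?_
    · rw [hτ]
      exact Subgroup.mul_mem _ (Subgroup.mul_mem _ hα hβF) (Subgroup.inv_mem _ hα)
    · apply MulEquiv.ext
      intro q
      change τ (τ q) = q
      have h5 := hτ2 q
      have h6 : τ q = (τ q * q⁻¹) * q := by group
      have h7 : (τ q * q⁻¹) * (τ q * q⁻¹) = 1 := Subtype.ext (hZ2 _ h5)
      calc τ (τ q) = τ ((τ q * q⁻¹) * q) := by rw [← h6]
        _ = τ (τ q * q⁻¹) * τ q := map_mul _ _ _
        _ = (τ q * q⁻¹) * τ q := by rw [hτ1 _ h5]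
        _ = (τ q * q⁻¹) * (τ q * q⁻¹) * q := by group
        _ = q := by rw [h7, one_mul]
    · obtain ⟨hσ1, hσ2⟩ := hind σ hσ
      have h5 : τ * σ = σ * τ := by
        apply MulEquiv.ext
        intro q
        change τ (σ q) = σ (τ q)
        have h6 : σ q = (σ q * q⁻¹) * q := by group
        have h7 : τ q = (τ q * q⁻¹) * q := by group
        calc τ (σ q) = τ ((σ q * q⁻¹) * q) := by rw [← h6]
          _ = (σ q * q⁻¹) * τ q := by rw [map_mul, hτ1 _ (hσ2 q)]
          _ = (σ q * q⁻¹) * (τ q * q⁻¹) * q := by group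
          _ = (τ q * q⁻¹) * (σ q * q⁻¹) * q := by rw [hcommZ _ (hτ2 q)]
          _ = (τ q * q⁻¹) * σ q := by group
          _ = σ ((τ q * q⁻¹) * q) := by rw [map_mul, hσ1 _ (hτ2 q)]
          _ = σ (τ q) := by rw [← h7]
      rw [h5, mul_inv_cancel_right]
      exact hσ
  · have hQ : Q = S := le_antisymm hQS (Subgroup.relIndex_eq_one.1 h32')
    subst hQ
    -- `α⁻¹(A) ≤ C_S(x)`
    have hA16 : Nat.card A = 16 := by
      have h5 := card_eq_mul_relIndex hA
      rw [h32, h2] at h5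
      omega
    have hmap : ∀ a : A, ((α⁻¹ ⟨a, hA a.2⟩ : Q) : Ω) ∈ C Q (x : Ω) := by
      intro a
      refine mem_C.2 ⟨(α⁻¹ ⟨a, hA a.2⟩).2, ?_⟩
      have h5 := hab _ hαx a a.2
      have h6 : α x * ⟨a, hA a.2⟩ = ⟨a, hA a.2⟩ * α x := Subtype.ext h5
      have h7 := congrArg (fun t => (α⁻¹ : MulAut Q) t) h6
      simp only [map_mul, MulAut.inv_apply_self] at h7
      exact congrArg Subtype.val h7
    have hfinC : Finite (C Q (x : Ω)) := finite_of_le (C_le _)
    have h5 := Nat.card_le_card_of_injective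
      (fun a : A => (⟨(α⁻¹ ⟨a, hA a.2⟩ : Q), hmap a⟩ : C Q (x : Ω))) (by
        intro a b h
        have h6 : ((α⁻¹ ⟨a, hA a.2⟩ : Q) : Ω) = (α⁻¹ ⟨b, hA b.2⟩ : Q) :=
          congrArg (fun t : C Q (x : Ω) => (t : Ω)) h
        have h7 := (α⁻¹ : MulAut Q).injective (Subtype.ext h6)
        exact Subtype.ext (congrArg (fun t : Q => (t : Ω)) h7))
    rw [hA16, hC8] at h5
    omega

include hS h32 hE hZ4 hE2 hA h2 hab in
/-- **Order `32`, `[S, S]` elementary abelian of order `4`, `|Z(S)| = 4`.** -/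
theorem exists_of_elem {F : FusionSystem S} (hF : F.IsSaturated 2) :
    ∃ u ∈ S, ∀ v, F.IsConjElt u v → v ∈ S ∧ Nat.card (C S v) = 8 := by
  have hp : Fact (Nat.Prime 2) := ⟨Nat.prime_two⟩
  obtain ⟨u, hu, huA⟩ := exists_out h32 h2
  refine ⟨u, hu, fun v hv => ?_⟩
  have h1 := mem_iff_of_isConjElt_of_not_extends hS hF {x | x ∈ S ∧ x ∉ A}
    (fun Q hQn hQc α hα hext => by
    have hfin : Finite Q := finite_of_le hQc.1
    have hfinM : Finite (MulAut Q) := inferInstance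
    intro x
    constructor
    · exact fun hx => ⟨hQc.1 (α x).2, not_mem_A_aut hS h32 hE hZ4 hE2 hA h2 hab hF hQn hQc hα
        hext hx.2⟩
    · intro hx
      refine ⟨hQc.1 x.2, fun hxA => ?_⟩
      -- use the other direction through powers of `α`
      by_contra
      have hext' : ∀ n : ℕ, (∀ y : Q, (y : Ω) ∉ A → (((α ^ n) y : Q) : Ω) ∉ A) := by
        intro n
        induction n with
        | zero => intro y hy; simpa using hy
        | succ n ih =>
          intro y hy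
          rw [pow_succ']
          exact not_mem_A_aut hS h32 hE hZ4 hE2 hA h2 hab hF hQn hQc hα hext (ih y hy)
      obtain ⟨n, hn, hn1⟩ := (isOfFinOrder_of_finite α).exists_pow_eq_one
      obtain ⟨m, rfl⟩ : ∃ m, n = m + 1 := ⟨n - 1, by omega⟩
      have h2 := hext' m _ hx.2
      rw [← MulAut.mul_apply, ← pow_succ, hn1] at h2
      exact h2 hxA) hv
  obtain ⟨hvS, hvA⟩ := h1.1 ⟨hu, huA⟩
  exact ⟨hvS, (card_C_out_eight h32 hZ4 hA h2 hab hvS hvA).1⟩

end Elem

end Cfsg.Agent.H617.FusFour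
end

-- part: H617/FusAbCyc
section
/-!
# Order `32`, `[S, S]` cyclic of order `4`, `|Z(S)| = 4`
-/

set_option autoImplicit false

namespace Cfsg.Agent.H617.FusFour

open Cfsg Cfsg.FusionSystem Cfsg.Agent.H802 Cfsg.Agent.H617.FusInv Cfsg.Agent.H617.FusTwo

variable {Ω : Type*} [Group Ω] {S : Subgroup Ω}

/-- Conjugate central elements are conjugate under `Aut_F(S)`. -/
theorem exists_aut_of_central {p : ℕ} [Fact p.Prime] [Finite S] (hS : IsPGroup p S)
    {F : FusionSystem S} (hF : F.IsSaturated p) {c z : Ω} (hc : c ∈ Z S) (hz : z ∈ Z S)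
    {P : Subgroup Ω} {φ : P →* Ω} (hφ : φ ∈ F.Hom P) (hcP : c ∈ P) (hφc : φ ⟨c, hcP⟩ = z) :
    ∃ α ∈ F.autGroup S, ((α ⟨c, hc.1⟩ : S) : Ω) = z := by
  have hPS := hom_le hφ
  have hle : Subgroup.zpowers c ≤ P := Subgroup.zpowers_le.2 hcP
  have hφ' := restrict_mem hφ hle
  set φ' := φ.comp (Subgroup.inclusion hle) with hφ'def
  have hcS : Subgroup.zpowers c ≤ S := hle.trans hPS
  have hval : φ' ⟨c, Subgroup.mem_zpowers c⟩ = z := hφc
  have hrange : φ'.range = Subgroup.zpowers z := by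
    ext y
    constructor
    · rintro ⟨⟨_, n, rfl⟩, rfl⟩
      refine ⟨n, ?_⟩
      change z ^ n = _
      rw [← hval, ← map_zpow]
      rfl
    · rintro ⟨n, rfl⟩
      refine ⟨⟨c, Subgroup.mem_zpowers c⟩ ^ n, ?_⟩
      rw [map_zpow, hval]
  have hcen : ∀ y ∈ Z S, centralizerIn S (Subgroup.zpowers y) = S := by
    intro y hy
    refine le_antisymm inf_le_left fun s hs => mem_C.2 ⟨hs, ((mem_Z.1 hy).2 s hs).symm⟩
  have hfc : F.IsFullyCentralized (Subgroup.zpowers z) := by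
    refine ⟨Subgroup.zpowers_le.2 hz.1, fun Q hQ => ?_⟩
    rw [hcen z hz]
    exact Nat.card_le_card_of_injective _ (Subgroup.inclusion_injective
      (inf_le_left : centralizerIn S Q ≤ S))
  obtain ⟨ψ, hψ, hψe⟩ := (isReceptive_of_isFullyCentralized hS hF hfc).2 _ φ' hφ' hrange
  have hext : extender S (Subgroup.zpowers c) φ' = S := by
    refine le_antisymm (extender_le _ _ _) ?_
    conv_lhs => rw [← hcen c hc]
    exact centralizerIn_le_extender S _ φ'
  have hψ' : ψ.comp (Subgroup.inclusion hext.ge) ∈ F.Hom S := restrict_mem hψ hext.ge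
  obtain ⟨α, hα, hαe⟩ := exists_aut hψ' (range_eq_of_mapsTo hψ' fun x => hom_apply_mem hψ' x)
  refine ⟨α, hα, ?_⟩
  rw [hαe]
  change ψ ⟨c, _⟩ = z
  rw [hψe c (Subgroup.mem_zpowers c), hval]

theorem orderOf_of_isConjElt {F : FusionSystem S} {x y : Ω} (h : F.IsConjElt x y) :
    orderOf y = orderOf x := by
  obtain ⟨φ, hφ, rfl⟩ := h
  rw [orderOf_injective φ (F.injective_of_mem hφ)]
  exact (orderOf_injective (Subgroup.zpowers x).subtype Subtype.val_injective
    (⟨x, Subgroup.mem_zpowers x⟩ : Subgroup.zpowers x)).symm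

theorem mem_of_isConjElt {F : FusionSystem S} {x y : Ω} (h : F.IsConjElt x y) : y ∈ S := by
  obtain ⟨φ, hφ, rfl⟩ := h
  exact hom_apply_mem hφ _

theorem orderOf_eight {u : Ω} (h4 : u ^ 4 ≠ 1) (h8 : u ^ 8 = 1) : orderOf u = 8 := by
  have hp : Fact (Nat.Prime 2) := ⟨Nat.prime_two⟩
  have := orderOf_eq_prime_pow (p := 2) (n := 2) (x := u) (by norm_num; exact h4)
    (by norm_num; exact h8)
  rw [this]
  norm_num

section Cyc

variable [Finite S] (hS : IsPGroup 2 S) (h32 : Nat.card S = 32) (hE : Nat.card (E S) = 4)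
  (hZ4 : Nat.card (Z S) = 4) {w : Ω} (hw : w ∈ E S) (hw2 : w * w ≠ 1)
  {A : Subgroup Ω} (hA : A ≤ S) (h2 : A.relIndex S = 2)
  (hab : ∀ a ∈ A, ∀ b ∈ A, a * b = b * a)

include hS h32 hE hZ4 hw hw2 hA h2 hab in
/-- **Order `32`, `[S, S]` cyclic of order `4`, `|Z(S)| = 4`.** -/
theorem exists_of_cyc {F : FusionSystem S} (hF : F.IsSaturated 2) :
    (∃ u ∈ S, ∀ v, F.IsConjElt u v → v ∈ S ∧ Nat.card (C S v) = 8) ∨
    (∃ u ∈ S, orderOf u = 8 ∧ Nat.card (C S u) = 16 ∧
      ∃ s ∈ S, s * u * s⁻¹ = u⁻¹ ∨ s * u * s⁻¹ = u ^ 3) := by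
  have hp : Fact (Nat.Prime 2) := ⟨Nat.prime_two⟩
  have hZA := Z_le_A hA h2 hab (Z_ne h32 hZ4)
  have hEA := E_le_of_relIndex_two h2
  obtain ⟨s, hs, hsA⟩ := exists_out h32 h2
  obtain ⟨a, ha, hwa⟩ := exists_comm_out hA h2 hab hs hsA hw
  obtain ⟨hEall, hw4, -⟩ := E_cyclic hE hw hw2
  have hwwZ := ww_mem_Z hE hw hw2
  have hwA : w ∈ A := hEA hw
  have hsa : s * a * s⁻¹ = w * a := by rw [hwa]; group
  have hsw : s * w * s⁻¹ = w⁻¹ := conj_E_out hA h2 hab hs hsA hw
  have hwa' : w * a = a * w := hab w hwA a ha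
  have haaZ : a * a ∉ Z S := by
    intro h
    apply hw2
    have h1 := (mem_Z.1 h).2 s hs
    have h3 : w * a * (w * a) = a * a := by
      rw [← hsa]
      calc s * a * s⁻¹ * (s * a * s⁻¹) = s * (a * a) * s⁻¹ := by group
        _ = a * a := by rw [h1, mul_inv_cancel_right]
    have h4 : w * a * (w * a) = w * w * (a * a) := by
      calc w * a * (w * a) = w * (a * w) * a := by simp [mul_assoc]
        _ = w * (w * a) * a := by rw [hwa']
        _ = w * w * (a * a) := by simp [mul_assoc]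
    rw [h4] at h3
    exact mul_eq_right.1 h3
  have haZ : a ∉ Z S := fun h => haaZ ((Z S).mul_mem h h)
  have hA16 : Nat.card A = 16 := by
    have h5 := card_eq_mul_relIndex hA
    rw [h32, h2] at h5
    omega
  have hZA4 : (Z S).relIndex A = 4 := by
    have h5 := card_eq_mul_relIndex hZA
    rw [hA16, hZ4] at h5
    omega
  have hAgen : ∀ b ∈ A, ∃ i : ℤ, ∃ ζ ∈ Z S, b = a ^ i * ζ := fun b hb =>
    exists_zpow_mul (hA ha) (le_of_relIndex_four hZA hZA4 ha haaZ hb)
  -- `n₀ = w a²`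
  obtain ⟨n₀, hn₀⟩ : ∃ n, n = w * a * a := ⟨_, rfl⟩
  have hn₀A : n₀ ∈ A := by rw [hn₀]; exact A.mul_mem (A.mul_mem hwA ha) ha
  have hn₀Z : n₀ ∈ Z S := by
    refine mem_Z_of_comm_out hA h2 hab hn₀A hs hsA ?_
    have h3 : s * n₀ * s⁻¹ = n₀ := by
      rw [hn₀]
      calc s * (w * a * a) * s⁻¹ = (s * w * s⁻¹) * (s * a * s⁻¹) * (s * a * s⁻¹) := by group
        _ = w⁻¹ * (w * a) * (w * a) := by rw [hsw, hsa]
        _ = a * w * a := by simp [mul_assoc]
        _ = w * a * a := by rw [hwa']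
    calc s * n₀ = s * n₀ * s⁻¹ * s := by group
      _ = n₀ * s := by rw [h3]
  have haa : a * a = w⁻¹ * n₀ := by rw [hn₀]; group
  have hnw : n₀ * w = w * n₀ := hab n₀ hn₀A w hwA
  have ha4 : a ^ 4 = w * w * (n₀ * n₀) := by
    have h3 : w⁻¹ * n₀ = n₀ * w⁻¹ := by
      calc w⁻¹ * n₀ = w⁻¹ * (n₀ * w) * w⁻¹ := by group
        _ = w⁻¹ * (w * n₀) * w⁻¹ := by rw [hnw]
        _ = n₀ * w⁻¹ := by group
    have h4 : w⁻¹ * w⁻¹ = w * w := by
      calc w⁻¹ * w⁻¹ = (w * w * (w * w)) * (w⁻¹ * w⁻¹) := by rw [hw4, one_mul]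
        _ = w * w := by simp [mul_assoc]
    calc a ^ 4 = (a * a) * (a * a) := by simp [pow_succ, mul_assoc]
      _ = w⁻¹ * n₀ * (w⁻¹ * n₀) := by rw [haa]
      _ = w⁻¹ * (n₀ * w⁻¹) * n₀ := by simp [mul_assoc]
      _ = w⁻¹ * (w⁻¹ * n₀) * n₀ := by rw [h3]
      _ = (w⁻¹ * w⁻¹) * (n₀ * n₀) := by simp [mul_assoc]
      _ = w * w * (n₀ * n₀) := by rw [h4]
  have hssZ := sq_mem_Z_of_out hA h2 hab hs hsA
  have has : (a * s) * (a * s) = n₀ * (s * s) := by
    calc (a * s) * (a * s) = a * (s * a * s⁻¹) * (s * s) := by simp [mul_assoc]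
      _ = (a * w) * a * (s * s) := by rw [hsa]; simp [mul_assoc]
      _ = n₀ * (s * s) := by rw [← hwa', hn₀]
  have hasS : a * s ∈ S := S.mul_mem (hA ha) hs
  have hasA : a * s ∉ A := by
    rw [mul_mem_iff_of_relIndex_two h2 (hA ha) hs]
    tauto
  have hfinZ : Finite (Z S) := Nat.finite_of_card_ne_zero (by omega)
  -- fourth powers in `Z`
  have hZp4 : ∀ ζ ∈ Z S, ζ ^ 4 = 1 := by
    intro ζ hζ
    have h3 : orderOf ζ ∣ 4 := by
      rw [← hZ4]
      exact Subgroup.orderOf_dvd_natCard _ hζ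
    exact orderOf_dvd_iff_pow_eq_one.1 h3
  by_cases hn2 : n₀ * n₀ = 1
  · -- `a` has order `8`
    have ha4' : a ^ 4 = w * w := by rw [ha4, hn2, mul_one]
    have ha8 : orderOf a = 8 := by
      refine orderOf_eight (by rw [ha4']; exact hw2) ?_
      have : a ^ 8 = a ^ 4 * a ^ 4 := by rw [← pow_add]
      rw [this, ha4', hw4]
    by_cases hn1 : n₀ = 1 ∨ n₀ = w * w
    · right
      refine ⟨a, hA ha, ha8, ?_, s, hs, ?_⟩
      · rw [card_C_in hA h2 hab ha haZ, hA16]
      · rcases hn1 with h | h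
        · left
          rw [hsa]
          rw [h] at haa
          calc w * a = w * (a * a) * a⁻¹ := by group
            _ = a⁻¹ := by rw [haa]; group
        · right
          rw [hsa]
          have h3 : a * a = w := by rw [haa, h]; group
          calc w * a = (a * a) * a := by rw [h3]
            _ = a ^ 3 := by simp [pow_succ]
    · left
      push Not at hn1
      obtain ⟨hn1, hnz⟩ := hn1
      -- `Z` is elementary abelian
      have hZ2 : ∀ ζ ∈ Z S, ζ * ζ = 1 := by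
        intro ζ hζ
        by_contra hζ2
        have hinv : ∀ y ∈ Z S, y ≠ 1 → y * y = 1 → y = ζ * ζ := by
          intro y hy hy1 hyy
          have ho : orderOf ζ = 4 := by
            have h3 : orderOf ζ ∣ 4 := orderOf_dvd_of_pow_eq_one (hZp4 ζ hζ)
            have h4 : orderOf ζ ≠ 1 := fun h => hζ2 (by rw [orderOf_eq_one_iff.1 h, one_mul])
            have h5 : orderOf ζ ≠ 2 := fun h => hζ2 (by
              have := pow_orderOf_eq_one ζ
              rwa [h, pow_two] at this)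
            have h6 : orderOf ζ ≤ 4 := Nat.le_of_dvd (by norm_num) h3
            have h7 : orderOf ζ ≠ 3 := fun h => by rw [h] at h3; revert h3; decide
            have h8 : orderOf ζ ≠ 0 := fun h => by rw [h] at h3; revert h3; decide
            omega
          have h3 : Subgroup.zpowers ζ = Z S := by
            refine Subgroup.eq_of_le_of_card_ge (Subgroup.zpowers_le.2 hζ) ?_
            rw [hZ4, Nat.card_zpowers, ho]
          rw [← h3] at hy
          obtain ⟨k, rfl⟩ := hy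
          change ζ ^ k ≠ 1 at hy1
          change ζ ^ k * ζ ^ k = 1 at hyy
          change ζ ^ k = ζ * ζ
          rw [← zpow_mod_orderOf ζ k, ho] at hy1 hyy ⊢
          have h5 : 0 ≤ k % (4 : ℕ) := Int.emod_nonneg _ (by norm_num)
          have h6 : k % (4 : ℕ) < 4 := Int.emod_lt_of_pos _ (by norm_num)
          generalize k % ((4 : ℕ) : ℤ) = m at *
          have hζ4 := hZp4 ζ hζ
          interval_cases m
          · exact absurd (zpow_zero ζ) hy1
          · rw [zpow_one] at hyy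
            exact absurd hyy hζ2
          · rw [show (2 : ℤ) = 1 + 1 by norm_num, zpow_add, zpow_one]
          · exfalso
            apply hζ2
            have h7 : ζ ^ (3 : ℤ) * ζ ^ (3 : ℤ) = ζ ^ 4 * (ζ * ζ) := by
              rw [← zpow_add, ← pow_two, ← pow_add]
              norm_cast
            rw [h7, hζ4, one_mul] at hyy
            exact hyy
        exact hnz ((hinv n₀ hn₀Z hn1 hn2).trans (hinv _ hwwZ hw2 hw4).symm)
      -- the element `t`
      obtain ⟨t, htS, htA, htt1, httw⟩ : ∃ t ∈ S, t ∉ A ∧ t * t ≠ 1 ∧ t * t ≠ w * w := by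
        by_cases h3 : s * s = 1
        · refine ⟨a * s, hasS, hasA, ?_, ?_⟩
          · rw [has, h3, mul_one]
            exact hn1
          · rw [has, h3, mul_one]
            exact hnz
        · by_cases h4 : s * s = w * w
          · refine ⟨a * s, hasS, hasA, ?_, ?_⟩
            · rw [has, h4]
              intro h5
              apply hnz
              calc n₀ = n₀ * (w * w * (w * w)) := by rw [hw4, mul_one]
                _ = (n₀ * (w * w)) * (w * w) := by simp [mul_assoc]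
                _ = w * w := by rw [h5, one_mul]
            · rw [has, h4]
              intro h5
              exact hn1 (mul_eq_right.1 h5)
          · exact ⟨s, hs, hsA, h3, h4⟩
      have httZ := sq_mem_Z_of_out hA h2 hab htS htA
      refine ⟨t, htS, fun v hv => ?_⟩
      have hvS := mem_of_isConjElt hv
      refine ⟨hvS, (card_C_out_eight h32 hZ4 hA h2 hab hvS ?_).1⟩
      intro hvA
      obtain ⟨φ, hφ, hφv⟩ := hv
      have hφt : φ ⟨t * t, (Subgroup.zpowers t).mul_mem (Subgroup.mem_zpowers t)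
          (Subgroup.mem_zpowers t)⟩ = v * v := by
        rw [← hφv, ← map_mul]
        rfl
      have hinj := F.injective_of_mem hφ
      have hvv1 : v * v ≠ 1 := by
        intro h
        apply htt1
        rw [h, ← map_one φ] at hφt
        exact congrArg Subtype.val (hinj hφt)
      have hvv : v * v = w * w := by
        obtain ⟨i, ζ, hζ, rfl⟩ := hAgen v hvA
        have hc : a ^ i * ζ = ζ * a ^ i :=
          hab _ (A.zpow_mem ha i) _ (hZA hζ)
        have h3 : a ^ i * ζ * (a ^ i * ζ) = a ^ i * a ^ i := by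
          calc a ^ i * ζ * (a ^ i * ζ) = a ^ i * (ζ * a ^ i) * ζ := by simp [mul_assoc]
            _ = a ^ i * (a ^ i * ζ) * ζ := by rw [hc]
            _ = a ^ i * a ^ i * (ζ * ζ) := by simp [mul_assoc]
            _ = a ^ i * a ^ i := by rw [hZ2 ζ hζ, mul_one]
        rw [h3] at hφt hvv1 ⊢
        -- fourth power
        have h4 : a ^ i * a ^ i * (a ^ i * a ^ i) = 1 := by
          rw [← hφt, ← map_mul, ← map_one φ]
          congr 1
          exact Subtype.ext (hZ2 _ httZ)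
        have h5 : (w * w) ^ i = 1 := by
          rw [← ha4', ← zpow_natCast, ← zpow_mul, ← h4, ← zpow_add, ← zpow_add]
          congr 1
          push_cast
          ring
        have h6 : Even i := by
          by_contra hodd
          rw [Int.not_even_iff_odd] at hodd
          obtain ⟨j, rfl⟩ := hodd
          apply hw2
          have h7 : (w * w) ^ (2 * j + 1) = w * w := by
            rw [zpow_add, zpow_one, zpow_mul]
            have : (w * w) ^ (2 : ℤ) = 1 := by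
              rw [show (2 : ℤ) = 1 + 1 by norm_num, zpow_add, zpow_one, hw4]
            rw [this, one_zpow, one_mul]
          rw [← h7, h5]
        obtain ⟨j, rfl⟩ := h6
        have h7 : a ^ (j + j) * a ^ (j + j) = (w * w) ^ j := by
          rw [← ha4', ← zpow_natCast, ← zpow_mul, ← zpow_add]
          congr 1
          push_cast
          ring
        rw [h7] at hvv1 ⊢
        rcases Int.even_or_odd j with ⟨k, rfl⟩ | ⟨k, rfl⟩
        · exfalso
          apply hvv1
          rw [← two_mul, zpow_mul]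
          have : (w * w) ^ (2 : ℤ) = 1 := by
            rw [show (2 : ℤ) = 1 + 1 by norm_num, zpow_add, zpow_one, hw4]
          rw [this, one_zpow]
        · rw [zpow_add, zpow_one, zpow_mul]
          have : (w * w) ^ (2 : ℤ) = 1 := by
            rw [show (2 : ℤ) = 1 + 1 by norm_num, zpow_add, zpow_one, hw4]
          rw [this, one_zpow, one_mul]
      rw [hvv] at hφt
      obtain ⟨α, hα, hαe⟩ := exists_aut_of_central hS hF httZ hwwZ hφ _ hφt
      -- `t² ∈ [S, S]`
      have h3 : (⟨t * t, httZ.1⟩ : S) = α⁻¹ ⟨w * w, hwwZ.1⟩ := by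
        rw [← MulAut.inv_apply_self S α ⟨t * t, httZ.1⟩]
        congr 1
        exact Subtype.ext hαe
      have h4 : t * t ∈ E S := by
        have h5 := aut_preserves_E (α := α⁻¹) (y := ⟨w * w, hwwZ.1⟩) ((E S).mul_mem hw hw)
        rw [← h3] at h5
        exact h5
      rcases hEall _ h4 with h5 | h5 | h5 | h5
      · exact htt1 h5
      · apply hw2
        rw [← h5]
        exact hZ2 _ httZ
      · exact httw h5
      · apply hw2
        have h6 := hZ2 _ httZ
        rw [h5] at h6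
        calc w * w = (w⁻¹ * w⁻¹)⁻¹ := by simp
          _ = 1 := by rw [h6, inv_one]
  · -- `Z` is cyclic of order four generated by `n₀`
    left
    have hnn : n₀ * n₀ = w * w := by
      have ho : orderOf n₀ = 4 := by
        have h3 : orderOf n₀ ∣ 4 := orderOf_dvd_of_pow_eq_one (hZp4 n₀ hn₀Z)
        have h4 : orderOf n₀ ≠ 1 := fun h => hn2 (by rw [orderOf_eq_one_iff.1 h, one_mul])
        have h5 : orderOf n₀ ≠ 2 := fun h => hn2 (by
          have := pow_orderOf_eq_one n₀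
          rwa [h, pow_two] at this)
        have h6 : orderOf n₀ ≤ 4 := Nat.le_of_dvd (by norm_num) h3
        have h7 : orderOf n₀ ≠ 3 := fun h => by rw [h] at h3; revert h3; decide
        have h8 : orderOf n₀ ≠ 0 := fun h => by rw [h] at h3; revert h3; decide
        omega
      have h3 : Subgroup.zpowers n₀ = Z S := by
        refine Subgroup.eq_of_le_of_card_ge (Subgroup.zpowers_le.2 hn₀Z) ?_
        rw [hZ4, Nat.card_zpowers, ho]
      have h4 := hwwZ
      rw [← h3] at h4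
      obtain ⟨k, hk⟩ := h4
      change n₀ ^ k = w * w at hk
      rw [← zpow_mod_orderOf n₀ k, ho] at hk
      have h5 : 0 ≤ k % (4 : ℕ) := Int.emod_nonneg _ (by norm_num)
      have h6 : k % (4 : ℕ) < 4 := Int.emod_lt_of_pos _ (by norm_num)
      generalize k % ((4 : ℕ) : ℤ) = m at *
      have hζ4 := hZp4 n₀ hn₀Z
      interval_cases m
      · exact absurd (hk.symm.trans (zpow_zero n₀)) hw2
      · exfalso
        apply hn2
        rw [zpow_one] at hk
        rw [hk, hw4]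
      · rw [← hk, show (2 : ℤ) = 1 + 1 by norm_num, zpow_add, zpow_one]
      · exfalso
        apply hn2
        have h7 : n₀ ^ (3 : ℤ) * n₀ ^ (3 : ℤ) = n₀ ^ 4 * (n₀ * n₀) := by
          rw [← zpow_add, ← pow_two, ← pow_add]
          norm_cast
        rw [hk, hw4, hζ4, one_mul] at h7
        exact h7.symm
    have ha4' : a ^ 4 = 1 := by rw [ha4, hnn, hw4]
    have hAexp : ∀ b ∈ A, b ^ 4 = 1 := by
      intro b hb
      obtain ⟨i, ζ, hζ, rfl⟩ := hAgen b hb
      have hc : Commute (a ^ i) ζ := hab _ (A.zpow_mem ha i) _ (hZA hζ)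
      rw [hc.mul_pow, hZp4 ζ hζ, mul_one, ← zpow_natCast, ← zpow_mul, mul_comm, zpow_mul,
        zpow_natCast, ha4', one_zpow]
    obtain ⟨t, htS, htA, htt⟩ : ∃ t ∈ S, t ∉ A ∧ t * t * (t * t) ≠ 1 := by
      by_cases h3 : s * s * (s * s) = 1
      · refine ⟨a * s, hasS, hasA, ?_⟩
        rw [has]
        have h4 := (mem_Z.1 hn₀Z).2 _ hssZ.1
        have h5 : n₀ * (s * s) * (n₀ * (s * s)) = n₀ * n₀ := by
          calc n₀ * (s * s) * (n₀ * (s * s)) = n₀ * ((s * s) * n₀) * (s * s) := by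
                simp [mul_assoc]
            _ = n₀ * (n₀ * (s * s)) * (s * s) := by rw [h4]
            _ = n₀ * n₀ * (s * s * (s * s)) := by simp [mul_assoc]
            _ = n₀ * n₀ := by rw [h3, mul_one]
        rw [h5]
        exact hn2
      · exact ⟨s, hs, hsA, h3⟩
    have httZ := sq_mem_Z_of_out hA h2 hab htS htA
    have ht8 : orderOf t = 8 := by
      refine orderOf_eight ?_ ?_
      · intro h
        apply htt
        rw [← h]
        simp [pow_succ, mul_assoc]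
      · have h3 := hZp4 _ httZ
        rw [← h3]
        simp [pow_succ, mul_assoc]
    refine ⟨t, htS, fun v hv => ?_⟩
    have hvS := mem_of_isConjElt hv
    refine ⟨hvS, (card_C_out_eight h32 hZ4 hA h2 hab hvS ?_).1⟩
    intro hvA
    have h3 := orderOf_of_isConjElt hv
    rw [ht8] at h3
    have h4 := orderOf_dvd_of_pow_eq_one (hAexp v hvA)
    rw [h3] at h4
    revert h4
    decide

end Cyc

end Cfsg.Agent.H617.FusFour
end

-- part: H617/FusMain
section
/-!
# Saturated fusion systems on nonabelian `2`-groups of order at most `32`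
-/

set_option autoImplicit false

namespace Cfsg.Agent.H617.FusMain

open Cfsg Cfsg.FusionSystem Cfsg.Agent.H802 Cfsg.Agent.H617.FusInv Cfsg.Agent.H617.FusTwo
open Cfsg.Agent.H617.FusFour

variable {Ω : Type*} [Group Ω] {S : Subgroup Ω}

theorem card_E : Nat.card (E S) = Nat.card (commutator S) := by
  have h : E S = (commutator S).map S.subtype := (Subgroup.map_subtype_commutator S).symm
  rw [h]
  exact (Nat.card_congr ((commutator S).equivMapOfInjective S.subtype
    Subtype.val_injective).toEquiv).symm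

/-- `|S| = |[S,S]| |S : [S,S]|`. -/
theorem card_E_mul : Nat.card (E S) * (commutator S).index = Nat.card S := by
  rw [card_E, Subgroup.card_mul_index]

theorem Z_eq_of_comm (h : ∀ a ∈ S, ∀ b ∈ S, a * b = b * a) : Z S = S :=
  le_antisymm Z_le fun s hs => mem_Z.2 ⟨hs, fun t ht => h t ht s hs⟩

theorem index_ge_four [Finite S] (hS : IsPGroup 2 S) (hna : Z S ≠ S) :
    (commutator S).index ≠ 1 ∧ (commutator S).index ≠ 2 := by
  have hp : Fact (Nat.Prime 2) := ⟨Nat.prime_two⟩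
  have hnil : Group.IsNilpotent S := hS.isNilpotent
  have key : ¬ IsCyclic (S ⧸ commutator S) := by
    intro h
    have h1 := Transfer.TausskyTwoGroup.commutator_eq_bot_of_isCyclic_quotient h
    apply hna
    refine Z_eq_of_comm fun a ha b hb => ?_
    have h2 : (⟨a, ha⟩ : S) * ⟨b, hb⟩ * (⟨a, ha⟩ : S)⁻¹ * (⟨b, hb⟩ : S)⁻¹ ∈ commutator S :=
      Subgroup.commutator_mem_commutator (Subgroup.mem_top _) (Subgroup.mem_top _)
    rw [h1, Subgroup.mem_bot] at h2
    have h3 : a * b * a⁻¹ * b⁻¹ = 1 := congrArg Subtype.val h2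
    calc a * b = a * b * a⁻¹ * b⁻¹ * (b * a) := by group
      _ = b * a := by rw [h3, one_mul]
  constructor
  · intro h
    apply key
    have h1 : Nat.card (S ⧸ commutator S) = 1 := h
    have : Subsingleton (S ⧸ commutator S) := (Nat.card_eq_one_iff_unique.1 h1).1
    infer_instance
  · intro h
    apply key
    exact isCyclic_of_prime_card (p := 2) h

theorem relIndex_Z_ne [Finite S] (hna : Z S ≠ S) :
    (Z S).relIndex S ≠ 1 ∧ (Z S).relIndex S ≠ 2 := by
  constructor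
  · intro h
    exact hna (le_antisymm Z_le (Subgroup.relIndex_eq_one.1 h))
  · intro h
    apply hna
    exact Z_eq_of_comm (comm_of_relIndex_two h fun n hn a ha => ((mem_Z.1 hn).2 a ha).symm)

theorem exists_not_mem_Z (hna : Z S ≠ S) : ∃ x ∈ S, x ∉ Z S := by
  by_contra hno
  push Not at hno
  exact hna (le_antisymm Z_le hno)

theorem exists_not_mem_C {x : Ω} (hx : x ∈ S) (hxZ : x ∉ Z S) : ∃ y ∈ S, y ∉ C S x := by
  by_contra hno
  push Not at hno
  exact C_ne hx hxZ (le_antisymm (C_le _) hno)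

/-- The conclusion of the analysis, first kind. -/
def KindA (S : Subgroup Ω) (F : FusionSystem S) : Prop :=
  ∃ u ∈ S, ∀ v, F.IsConjElt u v → v ∈ S ∧ Nat.card (C S v) * Nat.card (E S) ≤ Nat.card S ∧
    Nat.card (C S v) ≤ 4 * orderOf v

/-- The conclusion of the analysis, second kind. -/
def KindB (S : Subgroup Ω) : Prop :=
  ∃ u ∈ S, ∃ k, 3 ≤ k ∧ orderOf u = 2 ^ k ∧ Nat.card (C S u) ≤ 2 * 2 ^ k ∧
    (C S u).relIndex S = 2 ∧ (∃ s ∈ S, s * u * s⁻¹ = u⁻¹ ∨ s * u * s⁻¹ = u ^ (2 ^ (k - 1) - 1)) ∧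
    4 * Nat.card (C S u) * Nat.card (E S) ≤ Nat.card S * 2 ^ k

section Two

variable [Finite S] (hS : IsPGroup 2 S) (hna : Z S ≠ S) (hE : Nat.card (E S) = 2)

include hna hE in
theorem relIndex_C_two {x : Ω} (hx : x ∈ S) (hxZ : x ∉ Z S) : (C S x).relIndex S = 2 := by
  have h1 := relIndex_C_le (S := S) hx
  rw [hE] at h1
  have h2 : (C S x).relIndex S ≠ 1 := fun h =>
    C_ne hx hxZ (le_antisymm (C_le x) (Subgroup.relIndex_eq_one.1 h))
  have h3 : (C S x).relIndex S ≠ 0 := by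
    have hfin : Finite (S ⧸ (C S x).subgroupOf S) := inferInstance
    exact Subgroup.index_ne_zero_of_finite
  omega

include hS hE in
theorem exists_z : ∃ z ∈ Z S, z * z = 1 ∧ z ≠ 1 ∧
    ∀ a ∈ S, ∀ b ∈ S, a * b = b * a ∨ a * b = b * a * z := by
  obtain ⟨z, hzE, hzZ, hz1⟩ := exists_mem_E_Z hS (by rw [hE])
  have ho : orderOf z = 2 := by
    have h1 : orderOf z ∣ 2 := by
      rw [← hE]
      exact Subgroup.orderOf_dvd_natCard _ hzE
    have h2 : orderOf z ≠ 1 := fun h => hz1 (orderOf_eq_one_iff.1 h)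
    have h3 : 0 < orderOf z := Nat.pos_of_dvd_of_pos h1 (by norm_num)
    have := Nat.le_of_dvd (by norm_num) h1
    omega
  have hz2 : z * z = 1 := by
    rw [← pow_two, ← ho]
    exact pow_orderOf_eq_one z
  have hfin : Finite (E S) := finite_of_le E_le
  have hEz : Subgroup.zpowers z = E S := by
    refine Subgroup.eq_of_le_of_card_ge (Subgroup.zpowers_le.2 hzE) ?_
    rw [hE, Nat.card_zpowers, ho]
  refine ⟨z, hzZ, hz2, hz1, fun a ha b hb => ?_⟩
  have h1 := comm_mem ha hb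
  rw [← hEz] at h1
  obtain ⟨n, hn⟩ := h1
  change z ^ n = a * b * a⁻¹ * b⁻¹ at hn
  have h2 : a * b = z ^ n * (b * a) := by rw [hn]; group
  rcases Int.even_or_odd n with ⟨m, rfl⟩ | ⟨m, rfl⟩
  · left
    rw [h2, ← two_mul, zpow_mul]
    have : z ^ (2 : ℤ) = 1 := by
      rw [show (2 : ℤ) = 1 + 1 by norm_num, zpow_add, zpow_one, hz2]
    rw [this, one_zpow, one_mul]
  · right
    rw [h2, zpow_add, zpow_mul, zpow_one]
    have : z ^ (2 : ℤ) = 1 := by
      rw [show (2 : ℤ) = 1 + 1 by norm_num, zpow_add, zpow_one, hz2]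
    rw [this, one_zpow, one_mul, (mem_Z.1 hzZ).2 _ (S.mul_mem hb ha)]

include hna hE in
/-- `|Z(S)| = 4`, `|S| = 32` does not occur. -/
theorem not_card_Z_four (h32 : Nat.card S = 32) : Nat.card (Z S) ≠ 4 := by
  intro hZ4
  obtain ⟨x, hx, hxZ⟩ := exists_not_mem_Z hna
  obtain ⟨y, hy, hyC⟩ := exists_not_mem_C hx hxZ
  have hyZ : y ∉ Z S := fun h => hyC (Z_le_C hx h)
  have hxC : x ∉ C S y := fun h => hyC (mem_C.2 ⟨hy, (mem_C.1 h).2.symm⟩)
  have h1 := relIndex_C_two hna hE hx hxZ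
  have h2 := relIndex_C_two hna hE hy hyZ
  obtain ⟨K, hK⟩ : ∃ K, K = C S x ⊓ C S y := ⟨_, rfl⟩
  have hKx : K ≤ C S x := hK ▸ inf_le_left
  have hKy : K ≤ C S y := hK ▸ inf_le_right
  have hKS : K ≤ S := hKx.trans (C_le x)
  have hKrel : K.relIndex S ≤ 4 := by
    rw [hK]
    refine (Subgroup.relIndex_inf_le).trans ?_
    rw [h1, h2]
  have h3 := Subgroup.relIndex_mul_relIndex K (C S x) S hKx (C_le x)
  rw [h1] at h3
  have hKCx : K.relIndex (C S x) ≠ 1 := fun h =>
    hxC (hKy (Subgroup.relIndex_eq_one.1 h (self_mem_C hx)))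
  have hcS := card_eq_mul_relIndex hKS
  have hKrel' : K.relIndex (C S x) = 2 := by
    have h4 : K.relIndex (C S x) ≠ 0 := by
      intro h
      rw [h, zero_mul] at h3
      rw [← h3, mul_zero, h32] at hcS
      omega
    omega
  have hK8 : Nat.card K = 8 := by
    rw [hKrel'] at h3
    rw [← h3, h32] at hcS
    omega
  have hZK : Z S ≤ K := by
    rw [hK]
    exact le_inf (Z_le_C hx) (Z_le_C hy)
  have hZK2 : (Z S).relIndex K = 2 := by
    have := card_eq_mul_relIndex hZK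
    rw [hK8, hZ4] at this
    omega
  have hKab := comm_of_relIndex_two hZK2 fun n hn a ha => ((mem_Z.1 hn).2 a (hKS ha)).symm
  have hCx : ∀ s ∈ C S x, ∀ k ∈ K, s * k = k * s := by
    intro s hs k hk
    by_cases hsK : s ∈ K
    · exact hKab s hsK k hk
    · have h4 := inv_mul_mem_of_relIndex_two hKrel' (self_mem_C hx) hs
        (fun h => hxC (hKy h)) hsK
      have h5 := hKab _ h4 k hk
      have h6 := (mem_C.1 (hKx hk)).2
      calc s * k = x * ((x⁻¹ * s) * k) := by group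
        _ = x * k * (x⁻¹ * s) := by rw [h5]; group
        _ = k * s := by rw [h6]; group
  have hKZ : K ≤ Z S := by
    intro k hk
    refine mem_Z.2 ⟨hKS hk, fun s hs => ?_⟩
    by_cases hsC : s ∈ C S x
    · exact hCx s hsC k hk
    · have h4 := inv_mul_mem_of_relIndex_two h1 hy hs hyC hsC
      have h5 := hCx _ h4 k hk
      have h6 := (mem_C.1 (hKy hk)).2
      calc s * k = y * ((y⁻¹ * s) * k) := by group
        _ = y * k * (y⁻¹ * s) := by rw [h5]; group
        _ = k * s := by rw [h6]; group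
  have hfin : Finite (Z S) := Nat.finite_of_card_ne_zero (by omega)
  have := Nat.card_le_card_of_injective _ (Subgroup.inclusion_injective hKZ)
  omega

theorem orderOf_ge_four (hS : IsPGroup 2 S) {v : Ω} (hv : v ∈ S) (hvv : v * v ≠ 1) :
    4 ≤ orderOf v := by
  obtain ⟨k, hk⟩ := hS ⟨v, hv⟩
  have hk' : v ^ 2 ^ k = 1 := congrArg Subtype.val hk
  obtain ⟨m, -, hm⟩ := (Nat.dvd_prime_pow Nat.prime_two).1 (orderOf_dvd_of_pow_eq_one hk')
  have hm2 : 2 ≤ m := by
    by_contra hlt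
    apply hvv
    have h1 : v ^ 2 = 1 := by
      apply orderOf_dvd_iff_pow_eq_one.1
      rw [hm]
      exact pow_dvd_pow 2 (show m ≤ 1 by omega) |>.trans (by norm_num)
    rw [← pow_two, h1]
  rw [hm]
  calc 4 = 2 ^ 2 := by norm_num
    _ ≤ 2 ^ m := Nat.pow_le_pow_right (by norm_num) hm2

include hS hna hE in
theorem kindA_of_two (hcard : Nat.card S ≤ 32) {F : FusionSystem S} (hF : F.IsSaturated 2) :
    KindA S F := by
  have hgoal : ∀ v ∈ S, v ∉ Z S → v * v ≠ 1 → Nat.card (C S v) * Nat.card (E S) ≤ Nat.card S ∧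
      Nat.card (C S v) ≤ 4 * orderOf v := by
    intro v hv hvZ hvv
    have h1 := relIndex_C_two hna hE hv hvZ
    have h2 := card_eq_mul_relIndex (C_le (S := S) v)
    have h3 := orderOf_ge_four hS hv hvv
    rw [h1] at h2
    rw [hE]
    omega
  by_cases hex : ∃ y ∈ Z S, y * y ≠ 1
  · -- `Z(S)` not elementary abelian
    obtain ⟨z, hzZ, hz2, hz1, hcom⟩ := exists_z hS hE
    have hrZ : (Z S).relIndex S = 4 := by
      obtain ⟨hr1, hr2⟩ := relIndex_Z_ne (S := S) hna
      have h1 := card_eq_mul_relIndex (Z_le (S := S))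
      obtain ⟨y, hy, hyy⟩ := hex
      have hfin : Finite (Z S) := finite_of_le Z_le
      have h2 : 4 ∣ Nat.card (Z S) := by
        have h3 := orderOf_ge_four hS (Z_le hy) hyy
        have hp : Fact (Nat.Prime 2) := ⟨Nat.prime_two⟩
        obtain ⟨k, hk⟩ := IsPGroup.iff_card.1 (hS.to_le (Z_le (S := S)))
        have h4 : orderOf y ∣ 2 ^ k := by
          rw [← hk]
          exact Subgroup.orderOf_dvd_natCard _ hy
        have h5 := Nat.le_of_dvd (by positivity) h4
        have h6 : 2 ≤ k := by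
          by_contra hlt
          have : 2 ^ k ≤ 2 ^ 1 := Nat.pow_le_pow_right (by norm_num) (by omega)
          omega
        rw [hk]
        calc 4 = 2 ^ 2 := by norm_num
          _ ∣ 2 ^ k := pow_dvd_pow 2 h6
      have hp : Fact (Nat.Prime 2) := ⟨Nat.prime_two⟩
      obtain ⟨n, hn⟩ := IsPGroup.iff_card.1 hS
      obtain ⟨c, hc⟩ := h2
      have hr0 : (Z S).relIndex S ≠ 0 := by
        intro h
        rw [h, mul_zero] at h1
        have : 0 < Nat.card S := Nat.card_pos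
        omega
      have hrd : (Z S).relIndex S ∣ 2 ^ n := ⟨Nat.card (Z S), by rw [← hn, h1, mul_comm]⟩
      obtain ⟨m, hmn, hm⟩ := (Nat.dvd_prime_pow Nat.prime_two).1 hrd
      have hm2 : 2 ≤ m := by
        by_contra hlt
        have : m = 0 ∨ m = 1 := by omega
        rcases this with rfl | rfl
        · exact hr1 hm
        · exact hr2 hm
      have hm3 : m ≤ 3 := by
        by_contra hlt
        have h5 : 2 ^ 4 ≤ 2 ^ m := Nat.pow_le_pow_right (by norm_num) (by omega)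
        have hc0 : c ≠ 0 := by
          rintro rfl
          rw [hc, mul_zero, zero_mul] at h1
          have : 0 < Nat.card S := Nat.card_pos
          omega
        have h6 : 4 * 2 ^ 4 ≤ Nat.card (Z S) * (Z S).relIndex S := by
          rw [hc, hm]
          exact Nat.mul_le_mul (by omega) h5
        omega
      have : m = 2 ∨ m = 3 := by omega
      rcases this with rfl | rfl
      · rw [hm]; norm_num
      · exfalso
        have hZ4 : Nat.card (Z S) = 4 := by
          have hc0 : c ≠ 0 := by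
            rintro rfl
            rw [hc, mul_zero, zero_mul] at h1
            have : 0 < Nat.card S := Nat.card_pos
            omega
          rw [hm] at h1
          omega
        have hS32 : Nat.card S = 32 := by rw [h1, hZ4, hm]; norm_num
        exact not_card_Z_four hna hE hS32 hZ4
    obtain ⟨u, hu, huu, hcl⟩ := exists_noncentral_of_quarter hS hF hrZ hzZ hz2 hcom hex
    refine ⟨u, hu, fun v hv => ?_⟩
    obtain ⟨hvS, hvZ⟩ := hcl v hv
    refine ⟨hvS, hgoal v hvS hvZ fun h => huu ?_⟩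
    have h3 := orderOf_of_isConjElt hv
    have h4 : v ^ 2 = 1 := by rw [pow_two, h]
    have h5 := orderOf_dvd_of_pow_eq_one h4
    rw [h3] at h5
    rw [← pow_two]
    exact orderOf_dvd_iff_pow_eq_one.1 h5
  · push Not at hex
    obtain ⟨u, hu, huu⟩ : ∃ u ∈ S, u * u ≠ 1 := by
      by_contra hno
      push Not at hno
      apply hna
      refine Z_eq_of_comm fun a ha b hb => ?_
      have h1 := hno _ (S.mul_mem ha hb)
      have h2 := hno a ha
      have h3 := hno b hb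
      calc a * b = a * (a * b * (a * b)) * b := by rw [h1, mul_one]
        _ = (a * a) * (b * a) * (b * b) := by simp [mul_assoc]
        _ = b * a := by rw [h2, h3, one_mul, mul_one]
    refine ⟨u, hu, fun v hv => ?_⟩
    have hvS := mem_of_isConjElt hv
    have hvv : v * v ≠ 1 := by
      intro h
      apply huu
      have h3 := orderOf_of_isConjElt hv
      have h4 : v ^ 2 = 1 := by rw [pow_two, h]
      have h5 := orderOf_dvd_of_pow_eq_one h4
      rw [h3] at h5
      rw [← pow_two]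
      exact orderOf_dvd_iff_pow_eq_one.1 h5
    exact ⟨hvS, hgoal v hvS (fun h => hvv (hex v h)) hvv⟩

end Two

/-! ### Maximal class -/

theorem exists_cyclic_index_two [Finite S] {n : ℕ} (hn : Nat.card S = 2 ^ (n + 1))
    (h4 : (commutator S).index = 4) :
    ∃ u ∈ S, orderOf u = 2 ^ n ∧ (Subgroup.zpowers u).relIndex S = 2 := by
  obtain ⟨D, hD, hD2⟩ := Transfer.TausskyTwoGroup.exists_isCyclic_index_two (n + 1) hn h4
  obtain ⟨g, hg⟩ := hD.exists_generator
  have h1 : D.map S.subtype = Subgroup.zpowers ((g : S) : Ω) := by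
    ext y
    constructor
    · rintro ⟨d, hd, rfl⟩
      obtain ⟨k, hk⟩ := hg ⟨d, hd⟩
      refine ⟨k, ?_⟩
      have h2 := congrArg (fun t : D => ((t : S) : Ω)) hk
      exact h2
    · rintro ⟨k, rfl⟩
      exact ⟨(g : S) ^ k, D.zpow_mem g.2 k, rfl⟩
  have h2 : (Subgroup.zpowers ((g : S) : Ω)).relIndex S = 2 := by
    rw [← h1, Subgroup.relIndex, Subgroup.subgroupOf, Subgroup.comap_map_eq_self_of_injective
      Subtype.val_injective, hD2]
  refine ⟨g, (g : S).2, ?_, h2⟩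
  have h3 := card_eq_mul_relIndex (Subgroup.zpowers_le.2 (g : S).2)
  rw [h2, hn, Nat.card_zpowers, pow_succ] at h3
  omega

theorem zpowers_comm {u : Ω} : ∀ a ∈ Subgroup.zpowers u, ∀ b ∈ Subgroup.zpowers u,
    a * b = b * a := by
  rintro _ ⟨i, rfl⟩ _ ⟨j, rfl⟩
  change u ^ i * u ^ j = u ^ j * u ^ i
  rw [← zpow_add, ← zpow_add, add_comm]

theorem kindB_of_maximal [Finite S] {n : ℕ} (hn3 : n = 3 ∨ n = 4)
    (hn : Nat.card S = 2 ^ (n + 1)) (h4 : (commutator S).index = 4)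
    (hna : Z S ≠ S) : KindB S := by
  obtain ⟨u, hu, hou, hrel⟩ := exists_cyclic_index_two hn h4
  have hA : Subgroup.zpowers u ≤ S := Subgroup.zpowers_le.2 hu
  have hab := zpowers_comm (u := u)
  obtain ⟨s, hs, hsA⟩ : ∃ s ∈ S, s ∉ Subgroup.zpowers u := by
    by_contra hno
    push Not at hno
    have : (Subgroup.zpowers u).relIndex S = 1 := Subgroup.relIndex_eq_one.2 hno
    omega
  have hZA := Z_le_A hA hrel hab hna
  have hEmul := card_E_mul (S := S)
  rw [h4, hn] at hEmul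
  have hZidx := relIndex_Z_A_le hA hrel hab hs hsA hna
  have hZcard := card_eq_mul_relIndex hZA
  rw [hZidx, Nat.card_zpowers, hou] at hZcard
  have hEpos : 0 < Nat.card (E S) := by
    rcases Nat.eq_zero_or_pos (Nat.card (E S)) with h | h
    · rw [h, zero_mul] at hEmul
      have : 0 < 2 ^ (n + 1) := by positivity
      omega
    · exact h
  have hZ2 : Nat.card (Z S) = 2 := by
    have h5 : Nat.card (E S) * 4 = 2 * (Nat.card (Z S) * Nat.card (E S)) := by
      rw [hEmul, ← hZcard, pow_succ, mul_comm]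
    have h6 : Nat.card (E S) * 4 = Nat.card (E S) * (2 * Nat.card (Z S)) := by
      rw [h5]; ring
    have h7 := Nat.eq_of_mul_eq_mul_left hEpos h6
    omega
  have huZ : u ∉ Z S := by
    intro h
    have hfin : Finite (Z S) := Nat.finite_of_card_ne_zero (by omega)
    have h5 : orderOf u ∣ 2 := by
      rw [← hZ2]
      exact Subgroup.orderOf_dvd_natCard _ h
    rw [hou] at h5
    have h6 := Nat.le_of_dvd (by norm_num) h5
    rcases hn3 with rfl | rfl <;> norm_num at h6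
  have huA : u ∈ Subgroup.zpowers u := Subgroup.mem_zpowers u
  have hC : C S u = Subgroup.zpowers u := card_C_in hA hrel hab huA huZ
  -- the action of `s`
  have hnorm := le_normalizer_of_relIndex_two hA hrel
  have hsu : s * u * s⁻¹ ∈ Subgroup.zpowers u :=
    (Subgroup.mem_normalizer_iff.1 (hnorm hs) u).1 huA
  obtain ⟨t, ht⟩ := hsu
  change u ^ t = s * u * s⁻¹ at ht
  have hss : s * s ∈ Subgroup.zpowers u := by
    rw [mul_mem_iff_of_relIndex_two hrel hs hs]
  have hsu2 : u ^ (t * t) = u := by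
    rw [zpow_mul, ht]
    have h5 : (s * u * s⁻¹) ^ t = s * u ^ t * s⁻¹ := by
      rw [conj_zpow]
    rw [h5, ht]
    calc s * (s * u * s⁻¹) * s⁻¹ = (s * s) * u * (s * s)⁻¹ := by group
      _ = u := by rw [hab _ hss u huA, mul_inv_cancel_right]
  have hsuZ : s * u ≠ u * s := fun h => huZ (mem_Z_of_comm_out hA hrel hab huA hs hsA h)
  have hsuu : s * (u * u) ≠ u * u * s := by
    intro h
    have h5 := mem_Z_of_comm_out hA hrel hab
      ((Subgroup.zpowers u).mul_mem huA huA) hs hsA h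
    have hfin : Finite (Z S) := Nat.finite_of_card_ne_zero (by omega)
    have h6 : orderOf (u * u) ∣ 2 := by
      rw [← hZ2]
      exact Subgroup.orderOf_dvd_natCard _ h5
    have h7 : u ^ 4 = 1 := by
      have := orderOf_dvd_iff_pow_eq_one.1 h6
      rw [← this]
      simp [pow_succ, mul_assoc]
    have h8 := orderOf_dvd_of_pow_eq_one h7
    rw [hou] at h8
    have h9 := Nat.le_of_dvd (by norm_num) h8
    rcases hn3 with rfl | rfl <;> norm_num at h9
  have hmod : ∀ i j : ℤ, u ^ i = u ^ j ↔ (i - j) % (2 ^ n : ℕ) = 0 := by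
    intro i j
    rw [← hou]
    rw [zpow_eq_zpow_iff_modEq, Int.modEq_iff_dvd, ← neg_sub, Int.dvd_neg]
    exact ⟨fun h => Int.emod_eq_zero_of_dvd h, fun h => Int.dvd_of_emod_eq_zero h⟩
  have htt : (t * t - 1) % (2 ^ n : ℕ) = 0 := by
    rw [← hmod, hsu2, zpow_one]
  have ht1 : (t - 1) % (2 ^ n : ℕ) ≠ 0 := by
    intro h
    rw [← hmod, zpow_one, ht] at h
    apply hsuZ
    calc s * u = s * u * s⁻¹ * s := by group
      _ = u * s := by rw [h]
  have ht2 : (2 * t - 2) % (2 ^ n : ℕ) ≠ 0 := by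
    intro h
    rw [← hmod] at h
    apply hsuu
    have h5 : s * (u * u) * s⁻¹ = u * u := by
      calc s * (u * u) * s⁻¹ = (s * u * s⁻¹) * (s * u * s⁻¹) := by group
        _ = u ^ (2 * t) := by rw [← ht, ← zpow_add]; congr 1; ring
        _ = u * u := by
          rw [h, show (2 : ℤ) = 1 + 1 by norm_num, zpow_add, zpow_one]
    calc s * (u * u) = s * (u * u) * s⁻¹ * s := by group
      _ = u * u * s := by rw [h5]
  have hfinal : s * u * s⁻¹ = u⁻¹ ∨ s * u * s⁻¹ = u ^ (2 ^ (n - 1) - 1) := by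
    rw [← ht]
    have h5 : u⁻¹ = u ^ (-1 : ℤ) := by simp
    have h6 : u ^ (2 ^ (n - 1) - 1) = u ^ (((2 ^ (n - 1) - 1 : ℕ) : ℤ)) := by
      rw [zpow_natCast]
    rw [h5, h6, hmod, hmod]
    rcases hn3 with rfl | rfl
    · norm_num at htt ht1 ht2 ⊢
      have h7 : t % 8 = 0 ∨ t % 8 = 1 ∨ t % 8 = 2 ∨ t % 8 = 3 ∨ t % 8 = 4 ∨ t % 8 = 5 ∨
          t % 8 = 6 ∨ t % 8 = 7 := by omega
      have h8 : (t * t - 1) % 8 = ((t % 8) * (t % 8) - 1) % 8 := by
        rw [Int.sub_emod, Int.mul_emod, ← Int.sub_emod]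
      replace htt := Int.emod_eq_zero_of_dvd htt
      rw [h8] at htt
      rcases h7 with h | h | h | h | h | h | h | h <;> rw [h] at htt <;> omega
    · norm_num at htt ht1 ht2 ⊢
      have h7 : t % 16 = 0 ∨ t % 16 = 1 ∨ t % 16 = 2 ∨ t % 16 = 3 ∨ t % 16 = 4 ∨ t % 16 = 5 ∨
          t % 16 = 6 ∨ t % 16 = 7 ∨ t % 16 = 8 ∨ t % 16 = 9 ∨ t % 16 = 10 ∨ t % 16 = 11 ∨
          t % 16 = 12 ∨ t % 16 = 13 ∨ t % 16 = 14 ∨ t % 16 = 15 := by omega
      have h8 : (t * t - 1) % 16 = ((t % 16) * (t % 16) - 1) % 16 := by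
        rw [Int.sub_emod, Int.mul_emod, ← Int.sub_emod]
      replace htt := Int.emod_eq_zero_of_dvd htt
      rw [h8] at htt
      rcases h7 with h | h | h | h | h | h | h | h | h | h | h | h | h | h | h | h <;>
        rw [h] at htt <;> omega
  refine ⟨u, hu, n, by omega, hou, ?_, ?_, ⟨s, hs, hfinal⟩, ?_⟩
  · rw [hC, Nat.card_zpowers, hou]
    omega
  · rw [hC, hrel]
  · rw [hC, Nat.card_zpowers, hou, hn]
    have h5 : 4 * 2 ^ n * Nat.card (E S) = 2 ^ n * (Nat.card (E S) * 4) := by ring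
    rw [h5, hEmul, mul_comm]

/-- **Main statement on fusion.** -/
theorem kind [Finite S] (hS : IsPGroup 2 S) (hna : Z S ≠ S) (hcard : Nat.card S ≤ 32)
    {F : FusionSystem S} (hF : F.IsSaturated 2) : KindA S F ∨ KindB S := by
  have hp : Fact (Nat.Prime 2) := ⟨Nat.prime_two⟩
  obtain ⟨n, hn⟩ := IsPGroup.iff_card.1 hS
  have hEmul := card_E_mul (S := S)
  obtain ⟨hi1, hi2⟩ := index_ge_four hS hna
  have hfinE : Finite (E S) := finite_of_le E_le
  obtain ⟨e, he⟩ := IsPGroup.iff_card.1 (hS.to_le (E_le (S := S)))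
  have hidx : ∃ i, (commutator S).index = 2 ^ i ∧ e + i = n := by
    have h1 : (commutator S).index ∣ 2 ^ n := ⟨Nat.card (E S), by rw [← hn, ← hEmul, mul_comm]⟩
    obtain ⟨i, hi, hi'⟩ := (Nat.dvd_prime_pow Nat.prime_two).1 h1
    refine ⟨i, hi', ?_⟩
    rw [he, hi', hn, ← pow_add] at hEmul
    exact Nat.pow_right_injective (le_refl 2) hEmul
  obtain ⟨i, hi, hein⟩ := hidx
  have hi3 : 2 ≤ i := by
    by_contra hlt
    have : i = 0 ∨ i = 1 := by omega
    rcases this with rfl | rfl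
    · exact hi1 hi
    · exact hi2 hi
  have hn5 : n ≤ 5 := by
    by_contra hlt
    have : 2 ^ 6 ≤ 2 ^ n := Nat.pow_le_pow_right (by norm_num) (by omega)
    omega
  have he1 : 1 ≤ e := by
    by_contra hlt
    have he0 : e = 0 := by omega
    rw [he0, pow_zero] at he
    apply hna
    refine Z_eq_of_comm fun a ha b hb => ?_
    have h1 : E S = ⊥ := Subgroup.eq_bot_of_card_eq _ he
    have h2 := comm_mem ha hb
    rw [h1, Subgroup.mem_bot] at h2
    calc a * b = a * b * a⁻¹ * b⁻¹ * (b * a) := by group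
      _ = b * a := by rw [h2, one_mul]
  have hcases : e = 1 ∨ (e = 2 ∧ i = 2 ∧ n = 4) ∨ (e = 2 ∧ i = 3 ∧ n = 5) ∨
      (e = 3 ∧ i = 2 ∧ n = 5) := by omega
  rcases hcases with rfl | ⟨rfl, rfl, rfl⟩ | ⟨rfl, rfl, rfl⟩ | ⟨rfl, rfl, rfl⟩
  · exact Or.inl (kindA_of_two hS hna (by rw [he]; norm_num) hcard hF)
  · exact Or.inr (kindB_of_maximal (n := 3) (Or.inl rfl) hn (by rw [hi]; norm_num) hna)
  · -- `|S| = 32`, `|[S, S]| = 4`
    have h32 : Nat.card S = 32 := by rw [hn]; norm_num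
    have hE : Nat.card (E S) = 4 := by rw [he]; norm_num
    have hfinZ : Finite (Z S) := finite_of_le Z_le
    obtain ⟨z, hz⟩ := IsPGroup.iff_card.1 (hS.to_le (Z_le (S := S)))
    obtain ⟨hr1, hr2⟩ := relIndex_Z_ne (S := S) hna
    have hZmul := card_eq_mul_relIndex (Z_le (S := S))
    rw [h32, hz] at hZmul
    have hz1 : 1 ≤ z := by
      by_contra hlt
      have hz0 : z = 0 := by omega
      rw [hz0, pow_zero] at hz
      obtain ⟨y, -, hyZ, hy1⟩ := exists_mem_E_Z hS (by rw [hE]; norm_num)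
      have h1 : Z S = ⊥ := Subgroup.eq_bot_of_card_eq _ hz
      rw [h1, Subgroup.mem_bot] at hyZ
      exact hy1 hyZ
    have hz5 : z ≤ 5 := by
      by_contra hlt
      have h1 : 2 ^ 6 ≤ 2 ^ z := Nat.pow_le_pow_right (by norm_num) (by omega)
      have h2 : (Z S).relIndex S ≠ 0 := by
        intro h
        rw [h, mul_zero] at hZmul
        omega
      have h3 : 2 ^ z * 1 ≤ 2 ^ z * (Z S).relIndex S := Nat.mul_le_mul_left _ (by omega)
      omega
    have hgoal : ∀ v ∈ S, Nat.card (C S v) = 8 →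
        Nat.card (C S v) * Nat.card (E S) ≤ Nat.card S ∧ Nat.card (C S v) ≤ 4 * orderOf v := by
      intro v hv h8
      rw [h8, hE, h32]
      refine ⟨by norm_num, ?_⟩
      have h1 : orderOf v ≠ 1 := by
        intro h
        rw [orderOf_eq_one_iff] at h
        have h2 : C S v = S := by
          refine le_antisymm (C_le v) fun s hs => mem_C.2 ⟨hs, ?_⟩
          rw [h, one_mul, mul_one]
        rw [h2, h32] at h8
        omega
      have h3 : 0 < orderOf v := by
        have h4 : orderOf v ∣ 32 := by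
          rw [← h32]
          exact Subgroup.orderOf_dvd_natCard _ hv
        exact Nat.pos_of_dvd_of_pos h4 (by norm_num)
      omega
    have hz12 : z = 1 ∨ z = 2 := by
      have hz4 : z ≠ 4 := by
        rintro rfl
        apply hr2
        omega
      have hz5' : z ≠ 5 := by
        rintro rfl
        apply hr1
        omega
      have hz3 : z ≠ 3 := by
        rintro rfl
        have hr4 : (Z S).relIndex S = 4 := by omega
        obtain ⟨x, hx, hxZ⟩ := exists_not_mem_Z hna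
        obtain ⟨y, hy, hyC⟩ := exists_not_mem_C hx hxZ
        obtain ⟨h1, h2⟩ := relIndex_C hr4 hx hxZ
        have h3 := relIndex_Z_A_le (C_le x) h2 (fun a ha b hb => comm_of_mem_C hr4 hx hxZ ha hb)
          hy hyC hna
        rw [h1, hE] at h3
        omega
      omega
    rcases hz12 with rfl | rfl
    · have hZ2 : Nat.card (Z S) = 2 := by rw [hz]; norm_num
      by_cases hex : ∃ w ∈ E S, w * w ≠ 1
      · obtain ⟨w, hw, hw2⟩ := hex
        obtain ⟨u, hu, hu8⟩ := exists_orderOf_eight h32 hE hZ2 hw hw2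
        left
        refine ⟨u, hu, fun v hv => ?_⟩
        have hvS := mem_of_isConjElt hv
        exact ⟨hvS, hgoal v hvS (card_C_of_orderOf_eight h32 hE hZ2 hvS
          ((orderOf_of_isConjElt hv).trans hu8))⟩
      · push Not at hex
        obtain ⟨u, hu, hcl⟩ := exists_of_klein hS h32 hE hex hZ2 hF
        left
        exact ⟨u, hu, fun v hv => ⟨(hcl v hv).1, hgoal v (hcl v hv).1 (hcl v hv).2⟩⟩
    · have hZ4 : Nat.card (Z S) = 4 := by rw [hz]; norm_num
      obtain ⟨A, hA, hA2, hab⟩ := exists_abelian_index_two h32 hE hZ4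
      by_cases hex : ∃ w ∈ E S, w * w ≠ 1
      · obtain ⟨w, hw, hw2⟩ := hex
        rcases exists_of_cyc hS h32 hE hZ4 hw hw2 hA hA2 hab hF with
          ⟨u, hu, hcl⟩ | ⟨u, hu, hu8, huC, s, hs, hsu⟩
        · left
          exact ⟨u, hu, fun v hv => ⟨(hcl v hv).1, hgoal v (hcl v hv).1 (hcl v hv).2⟩⟩
        · right
          refine ⟨u, hu, 3, le_rfl, by rw [hu8]; norm_num, by rw [huC]; norm_num, ?_,
            ⟨s, hs, hsu⟩, ?_⟩
          · have h1 := card_eq_mul_relIndex (C_le (S := S) u)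
            rw [huC, h32] at h1
            omega
          · rw [huC, hE, h32]
            norm_num
      · push Not at hex
        obtain ⟨u, hu, hcl⟩ := exists_of_elem hS h32 hE hZ4 hex hA hA2 hab hF
        left
        exact ⟨u, hu, fun v hv => ⟨(hcl v hv).1, hgoal v (hcl v hv).1 (hcl v hv).2⟩⟩
  · exact Or.inr (kindB_of_maximal (n := 4) (Or.inr rfl) hn (by rw [hi]; norm_num) hna)

end Cfsg.Agent.H617.FusMain
end
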