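import Mathlib
import Cfsg.Agent.H617.StarFive
import Cfsg.Agent.H617.SmallRank
import Cfsg.Agent.H617.FusMain
import Cfsg.Agent.H617.RankOneCol
import Cfsg.Agent.H649.FusBlock
set_option linter.all false

-- part: H617/BoundFive
section
/-!
# Olsson's bound for defect group `2 ^ 5` and local inertial quotients of order five
-/

set_option autoImplicit false
set_option linter.unusedSectionVars false

open Cfsg
open scoped ComplexConjugate

namespace Cfsg.Agent.H617.BoundFive

open Cfsg.Agent.H651 Cfsg.Agent.H649 Cfsg.Agent.Characters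
open Cfsg.Agent.H652.DoubleCount Cfsg.Agent.H645.FusCount Cfsg.Agent.H650
open Cfsg.Agent.H645.TraceForm Cfsg.Agent.H645.LocMono Cfsg.Agent.H645.Watanabe
open Cfsg.Agent.H613.RegGram
open Cfsg.Agent.H613.Contrib Cfsg.Agent.H613.ContribVal Cfsg.Agent.H644.CentralQuot
open Cfsg.Agent.H617.AbelRank Cfsg.Agent.H617.StarCols
open Cfsg.Agent.H617.StarFive

universe u

variable {G : Type u} [Group G] [Fintype G] {M : Ideal AlgInt}

/-- The quadratic form of the contributions in terms of the inflated characters. -/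
theorem exists_form (hM : IsPModular 2 M) {u : G} {H : Subgroup G} [Fintype H]
    (hH : H = Subgroup.centralizer ({u} : Set G)) {u' : H} (hu' : (u' : G) = u)
    (huu : u * u = 1) (hU : (Subgroup.zpowers u').Normal) {b : Set (IrrCharacter H)} [Fintype b]
    (hb : IsPBlock M b) [Fintype (defl (Subgroup.zpowers u') b)]
    {r : defl (Subgroup.zpowers u') b → defl (Subgroup.zpowers u') b → ℤ}
    (hr : ∀ θ θ', (r θ θ' : ℂ) = 32 * rg 2 (infl (Subgroup.zpowers u') θ : H → ℂ)
        (infl (Subgroup.zpowers u') θ' : H → ℂ)) (χ : IrrCharacter G) :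
    ∃ z : defl (Subgroup.zpowers u') b → ℤ,
      32 * contr 2 u b (χ : G → ℂ) (χ : G → ℂ) = ((∑ θ, ∑ θ', z θ * z θ' * r θ θ' : ℤ) : ℂ) := by
  classical
  have : Finite (IrrCharacter H) := Core.finite_irr
  have := Fintype.ofFinite (IrrCharacter H)
  obtain ⟨n, e, hE⟩ := exists_exp (u := u) hH (q := 2) (by rw [pow_two, huu])
  have hε : ∀ ξ, ∃ ε : ℤ, e ξ = ε := by
    intro ξ
    have h1 := hE.root ξ
    have h0 : (e ξ - 1) * (e ξ + 1) = 0 := by linear_combination h1
    rcases mul_eq_zero.1 h0 with h | h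
    · exact ⟨1, by push_cast; linear_combination h⟩
    · exact ⟨-1, by push_cast; linear_combination h⟩
  choose ε hε using hε
  have hu'u' : u' * u' = 1 := Subtype.ext (by
    change (u' : G) * u' = 1
    rw [hu', huu])
  have hu'c : ∀ g : H, u' * g = g * u' := by
    intro g
    apply Subtype.ext
    change (u' : G) * g = g * u'
    rw [hu']
    have h1 : (g : G) ∈ Subgroup.centralizer ({u} : Set G) := hH.le g.2
    exact (Subgroup.mem_centralizer_singleton_iff.1 h1).symm
  have hcen := zpowers_le_center hu'u' hu'c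
  have hpU : IsPGroup 2 (Subgroup.zpowers u') := by
    have h1 : orderOf u' ∣ 2 ^ 1 := by
      rw [pow_one]
      exact orderOf_dvd_of_pow_eq_one (by rw [pow_two, hu'u'])
    obtain ⟨k, -, hk⟩ := (Nat.dvd_prime_pow Nat.prime_two).1 h1
    exact IsPGroup.of_card (n := k) (by rw [Nat.card_zpowers, hk])
  have hm : ∀ ξ : b, ∃ m : defl (Subgroup.zpowers u') b → ℤ, ∀ g : H, ¬ 2 ∣ orderOf g →
      ((ξ : IrrCharacter H) : H → ℂ) g = ∑ ψ : defl (Subgroup.zpowers u') b, (m ψ : ℂ) *
        (infl (Subgroup.zpowers u') (ψ : IrrCharacter (H ⧸ Subgroup.zpowers u')) : H → ℂ) g :=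
    fun ξ => Cfsg.Agent.H658.exists_int_defl hM hcen hpU hb ξ.2
  choose m hm using hm
  have hrg : ∀ ξ η : b, rg 2 ((ξ : IrrCharacter H) : H → ℂ) ((η : IrrCharacter H) : H → ℂ) =
      ∑ θ : defl (Subgroup.zpowers u') b, ∑ θ' : defl (Subgroup.zpowers u') b,
        (m ξ θ : ℂ) * m η θ' * rg 2 (infl (Subgroup.zpowers u') θ : H → ℂ)
          (infl (Subgroup.zpowers u') θ' : H → ℂ) := by
    intro ξ η
    simp only [rg_def, pair_eq_sum_filter]
    have h1 : ∀ g ∈ Finset.univ.filter (fun x : H => ¬ 2 ∣ orderOf x),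
        ((ξ : IrrCharacter H) : H → ℂ) g * conj (((η : IrrCharacter H) : H → ℂ) g) =
        ∑ θ : defl (Subgroup.zpowers u') b, ∑ θ' : defl (Subgroup.zpowers u') b,
          (m ξ θ : ℂ) * m η θ' * ((infl (Subgroup.zpowers u') θ : H → ℂ) g *
          conj ((infl (Subgroup.zpowers u') θ' : H → ℂ) g)) := by
      intro g hg
      rw [hm ξ g (Finset.mem_filter.1 hg).2, hm η g (Finset.mem_filter.1 hg).2, map_sum,
        Finset.sum_mul_sum]
      refine Finset.sum_congr rfl fun θ _ => Finset.sum_congr rfl fun θ' _ => ?_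
      rw [map_mul, map_intCast]
      ring
    rw [Finset.sum_congr rfl h1, Finset.sum_comm, Finset.mul_sum]
    refine Finset.sum_congr rfl fun θ _ => ?_
    rw [Finset.sum_comm, Finset.mul_sum]
    refine Finset.sum_congr rfl fun θ' _ => ?_
    rw [← Finset.mul_sum]
    ring
  refine ⟨fun θ => ∑ ξ : b, (n χ ξ : ℤ) * ε ξ * m ξ θ, ?_⟩
  have h1 := contr_eq_sum hM hE hb χ χ (k := 1) (by rw [pow_one]; exact hH)
  rw [pow_one] at h1
  have swap : ∀ F : b → b → defl (Subgroup.zpowers u') b → defl (Subgroup.zpowers u') b → ℂ,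
      ∑ ξ, ∑ η, ∑ θ, ∑ θ', F ξ η θ θ' = ∑ θ, ∑ θ', ∑ ξ, ∑ η, F ξ η θ θ' := by
    intro F
    calc ∑ ξ, ∑ η, ∑ θ, ∑ θ', F ξ η θ θ' = ∑ ξ, ∑ θ, ∑ η, ∑ θ', F ξ η θ θ' :=
          Finset.sum_congr rfl fun ξ _ => Finset.sum_comm
      _ = ∑ θ, ∑ ξ, ∑ η, ∑ θ', F ξ η θ θ' := Finset.sum_comm
      _ = ∑ θ, ∑ ξ, ∑ θ', ∑ η, F ξ η θ θ' :=
          Finset.sum_congr rfl fun θ _ => Finset.sum_congr rfl fun ξ _ => Finset.sum_comm
      _ = _ := Finset.sum_congr rfl fun θ _ => Finset.sum_comm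
  rw [h1]
  have h2 : (32 : ℂ) * ∑ ξ : b, ∑ η : b, (n χ ξ : ℂ) * (n χ η : ℂ) *
      (e ξ * conj (e η)) ^ 1 * rg 2 ((ξ : IrrCharacter H) : H → ℂ)
        ((η : IrrCharacter H) : H → ℂ) =
      ∑ ξ : b, ∑ η : b, ∑ θ : defl (Subgroup.zpowers u') b,
        ∑ θ' : defl (Subgroup.zpowers u') b, ((n χ ξ : ℂ) * ε ξ * m ξ θ) *
          ((n χ η : ℂ) * ε η * m η θ') * r θ θ' := by
    rw [Finset.mul_sum]
    refine Finset.sum_congr rfl fun ξ _ => ?_
    rw [Finset.mul_sum]
    refine Finset.sum_congr rfl fun η _ => ?_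
    rw [hrg, Finset.mul_sum, Finset.mul_sum]
    refine Finset.sum_congr rfl fun θ _ => ?_
    rw [Finset.mul_sum, Finset.mul_sum]
    refine Finset.sum_congr rfl fun θ' _ => ?_
    rw [hr, hε ξ, hε η, map_intCast]
    ring
  rw [h2, swap]
  push_cast
  refine Finset.sum_congr rfl fun θ _ => Finset.sum_congr rfl fun θ' _ => ?_
  rw [Finset.sum_mul_sum, Finset.sum_mul]
  refine Finset.sum_congr rfl fun ξ _ => ?_
  rw [Finset.sum_mul]

/-- **The bound.** -/
theorem bound_five (hM : IsPModular 2 M) {B : Set (IrrCharacter G)} {a : BrauerPairIdx G}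
    (hmax : IsMaximalBrauerPair 2 M B a.1 a.2) (hel : ∀ x ∈ a.1, x * x = 1)
    (hcard : Nat.card a.1 = 32) {u : G} (hu : u ∈ a.1) (hu1 : u ≠ 1)
    (hidx : (Subgroup.centralizer (a.1 : Set G)).relIndex
      (stab a ⊓ Subgroup.centralizer ({u} : Set G)) = 5)
    (hfix : ∀ w ∈ a.1, (∀ t ∈ stab a, t * u * t⁻¹ = u → t * w * t⁻¹ = w) → w = 1 ∨ w = u) :
    Nat.card {χ : IrrCharacter G // χ ∈ B ∧ blockHeight 2 B (χ : G → ℂ) = 0} ≤ 32 := by
  classical
  have hp2 : Fact (Nat.Prime 2) := ⟨Nat.prime_two⟩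
  have hMp := Cfsg.Agent.Blocks.Local.isPrime_of_isPModular hM
  have huu := hel u hu
  have hab : ∀ x ∈ a.1, ∀ y ∈ a.1, x * y = y * x := by
    intro x hx y hy
    have h1 := hel (x * y) (a.1.mul_mem hx hy)
    have h2 : (x * y) * (y * x) = 1 := by
      calc (x * y) * (y * x) = x * (y * y) * x := by group
        _ = 1 := by rw [hel y hy, mul_one, hel x hx]
    exact mul_left_cancel (h1.trans h2.symm)
  obtain ⟨b, a', hind, -, ha', hmax', hab', hstab⟩ := exists_local hM hmax hab hu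
  obtain ⟨H, hH⟩ : ∃ H, H = Subgroup.centralizer ({u} : Set G) := ⟨_, rfl⟩
  rw [← hH] at hidx
  revert b a'
  rw [← hH]
  intro b a' hind ha' hmax' hab' hstab
  have := Fintype.ofFinite H
  have hfinH := Core.finite_irr (G := H)
  have := Fintype.ofFinite (IrrCharacter H)
  have hfinG := Core.finite_irr (G := G)
  have := Fintype.ofFinite (IrrCharacter G)
  have : Fintype b := Fintype.ofFinite b
  have : Fintype B := Fintype.ofFinite B
  have haH : a.1 ≤ H := by
    intro x hx
    rw [hH, Subgroup.mem_centralizer_singleton_iff]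
    exact hab x hx u hu
  obtain ⟨u', hu'⟩ : ∃ u' : H, (u' : G) = u := ⟨⟨u, haH hu⟩, rfl⟩
  have hu'a : u' ∈ a'.1 := by
    rw [ha', Subgroup.mem_subgroupOf, hu']
    exact hu
  have hu'1 : u' ≠ 1 := by
    rintro rfl
    exact hu1 hu'.symm
  have hu'c : ∀ g : H, u' * g = g * u' := by
    intro g
    apply Subtype.ext
    change (u' : G) * g = g * u'
    rw [hu']
    have h1 : (g : G) ∈ Subgroup.centralizer ({u} : Set G) := hH.le g.2
    exact (Subgroup.mem_centralizer_singleton_iff.1 h1).symm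
  have hel' : ∀ x ∈ a'.1, x * x = 1 := by
    intro x hx
    rw [ha', Subgroup.mem_subgroupOf] at hx
    exact Subtype.ext (hel x hx)
  have hcard' : Nat.card a'.1 = 32 := by
    rw [ha', ← hcard]
    exact Nat.card_congr (Subgroup.subgroupOfEquivOfLe haH).toEquiv
  have hU : (Subgroup.zpowers u').Normal := by
    refine ⟨fun x hx g => ?_⟩
    have h1 : Subgroup.zpowers u' ≤ Subgroup.center H := by
      rw [Subgroup.zpowers_le, Subgroup.mem_center_iff]
      exact fun g => (hu'c g).symm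
    rw [Subgroup.mem_center_iff.1 (h1 hx) g, mul_inv_cancel_right]
    exact hx
  have : Fintype (defl (Subgroup.zpowers u') b) := by
    have := Core.finite_irr (G := H ⧸ Subgroup.zpowers u')
    exact Fintype.ofFinite _
  have hCH : Subgroup.centralizer (a.1 : Set G) ≤ H := by
    intro x hx
    rw [hH, Subgroup.mem_centralizer_singleton_iff]
    exact (Subgroup.mem_centralizer_iff.1 hx u hu).symm
  have hC' : Subgroup.centralizer (a'.1 : Set H) =
      (Subgroup.centralizer (a.1 : Set G)).subgroupOf H := by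
    ext x
    rw [Subgroup.mem_subgroupOf, Subgroup.mem_centralizer_iff, Subgroup.mem_centralizer_iff]
    constructor
    · intro h y hy
      have h1 : (⟨y, haH hy⟩ : H) ∈ a'.1 := by
        rw [ha', Subgroup.mem_subgroupOf]
        exact hy
      exact congrArg Subtype.val (h _ h1)
    · intro h y hy
      rw [SetLike.mem_coe, ha', Subgroup.mem_subgroupOf] at hy
      exact Subtype.ext (h y hy)
  have hS' : stab a' = (stab a ⊓ H).subgroupOf H := by
    ext x
    rw [hstab, Subgroup.mem_subgroupOf, Subgroup.mem_inf]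
    exact ⟨fun h => ⟨h, x.2⟩, fun h => h.1⟩
  have hidx' : (Subgroup.centralizer (a'.1 : Set H)).relIndex (stab a') = 5 := by
    rw [hC', hS', Subgroup.relIndex_subgroupOf inf_le_right, hidx]
  have hfix' : ∀ w ∈ a'.1, (∀ t ∈ stab a', t * w * t⁻¹ = w) → w = 1 ∨ w = u' := by
    intro w hw h
    have hw' : (w : G) ∈ a.1 := by
      rw [ha', Subgroup.mem_subgroupOf] at hw
      exact hw
    rcases hfix w hw' (fun t ht htu => by
      have htH : t ∈ H := by
        rw [hH, Subgroup.mem_centralizer_singleton_iff]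
        calc t * u = t * u * t⁻¹ * t := by group
          _ = u * t := by rw [htu]
      exact congrArg Subtype.val (h ⟨t, htH⟩ ((hstab _).2 ht))) with h1 | h1
    · exact Or.inl (Subtype.ext h1)
    · exact Or.inr (Subtype.ext (h1.trans hu'.symm))
  obtain ⟨r, hr, hlocal⟩ := five_local hM hmax' hel' hcard' hidx' hu'a hu'1 hu'c hfix' hU
  -- the forms
  have hform := fun χ => exists_form hM hH hu' huu hU hind.1 hr χ
  choose z hz using hform
  have hdb : ((2 : ℕ) : ℂ) ^ blockDefect 2 b = 32 := by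
    have h1 := pow_blockDefect' hM hmax' hab'
    rw [hcard'] at h1
    exact_mod_cast h1
  have hodd : ∀ χ : IrrCharacter G, χ ∈ B → blockHeight 2 B (χ : G → ℂ) = 0 →
      Odd (∑ θ, ∑ θ', z χ θ * z χ θ' * r θ θ') := by
    intro χ hχ h0
    obtain ⟨n, e, hE⟩ := exists_exp (u := u) hH (q := 2 ^ 1) (by rw [pow_one, pow_two, huu])
    have h1 := not_memLocalIdeal_contr hM hE hind hχ hχ h0 h0 (k := 1) (by rw [pow_one]; exact hH)
    rw [pow_one, hdb, hz, Cfsg.Agent.Blocks.Local.memLocalIdeal_intCast_iff hM] at h1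
    rw [← Int.not_even_iff_odd]
    intro h2
    exact h1 (by exact_mod_cast h2.two_dvd)
  by_cases hex : ∃ χ : IrrCharacter G, χ ∈ B ∧ blockHeight 2 B (χ : G → ℂ) = 0
  · obtain ⟨χ₀, hχ₀, hχ₀0⟩ := hex
    have hrank := (hlocal (z χ₀) (hodd χ₀ hχ₀ hχ₀0)).1
    have hsum := sum_contr_self hM ⟨1, by
      rw [pow_one]
      exact orderOf_eq_prime (by rw [pow_two, huu]) hu1⟩ hH hind
    set q : IrrCharacter G → ℤ := fun χ => ∑ θ, ∑ θ', z χ θ * z χ θ' * r θ θ' with hq
    have hqsum : ∑ χ : B, q χ = 32 * blockRank 2 b := by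
      have h1 : ((∑ χ : B, q χ : ℤ) : ℂ) = ((32 * (blockRank 2 b : ℤ) : ℤ) : ℂ) := by
        push_cast
        rw [← hsum, Finset.mul_sum]
        refine Finset.sum_congr rfl fun χ _ => ?_
        rw [hz χ]
      exact_mod_cast h1
    have hq0 : ∀ χ : IrrCharacter G, 0 ≤ q χ := by
      intro χ
      have h1 := hz χ
      rw [contr_self_eq] at h1
      have h2 : ((32 * ∑ η : b, ‖wt 2 u (χ : G → ℂ) ((η : IrrCharacter H) : H → ℂ)‖ ^ 2 : ℝ) : ℂ) =
          ((q χ : ℝ) : ℂ) := by
        push_cast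
        push_cast at h1
        rw [h1, hq]
        push_cast
        rfl
      have h3 : (32 * ∑ η : b, ‖wt 2 u (χ : G → ℂ) ((η : IrrCharacter H) : H → ℂ)‖ ^ 2 : ℝ) =
          (q χ : ℝ) := by exact_mod_cast h2
      have h4 : (0 : ℝ) ≤ (q χ : ℝ) := by
        rw [← h3]
        positivity
      exact_mod_cast h4
    have hq5 : ∀ χ : B, blockHeight 2 B ((χ : IrrCharacter G) : G → ℂ) = 0 → 5 ≤ q χ := by
      intro χ h0
      have h1 := (hlocal (z χ) (hodd χ χ.2 h0)).2
      have h2 := hq0 χ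
      change q χ % 8 = 5 at h1
      omega
    have hcount : (5 : ℤ) * Nat.card {χ : IrrCharacter G // χ ∈ B ∧
        blockHeight 2 B (χ : G → ℂ) = 0} ≤ ∑ χ : B, q χ := by
      have h1 : Nat.card {χ : IrrCharacter G // χ ∈ B ∧ blockHeight 2 B (χ : G → ℂ) = 0} =
          (Finset.univ.filter fun ψ : B =>
            blockHeight 2 B ((ψ : IrrCharacter G) : G → ℂ) = 0).card := by
        rw [← Fintype.card_subtype, ← Nat.card_eq_fintype_card]
        exact Nat.card_congr (Equiv.subtypeSubtypeEquivSubtypeInter _ _).symm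
      rw [h1]
      refine le_trans ?_ (Finset.sum_le_sum_of_subset_of_nonneg (Finset.filter_subset
        (fun ψ : B => blockHeight 2 B ((ψ : IrrCharacter G) : G → ℂ) = 0) Finset.univ)
        fun ψ _ _ => hq0 ψ)
      rw [mul_comm, ← nsmul_eq_mul]
      refine Finset.card_nsmul_le_sum _ _ _ fun ψ hψ => ?_
      exact hq5 ψ (Finset.mem_filter.1 hψ).2
    rw [hqsum] at hcount
    omega
  · have h1 : IsEmpty {χ : IrrCharacter G // χ ∈ B ∧ blockHeight 2 B (χ : G → ℂ) = 0} :=
      ⟨fun χ => hex ⟨χ.1, χ.2⟩⟩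
    rw [Nat.card_of_isEmpty]
    omega

end Cfsg.Agent.H617.BoundFive
end

-- part: H617/KindABlock
section
/-!
# Olsson's bound in the first case
-/

set_option autoImplicit false

namespace Cfsg.Agent.H617.KindABlock

open Cfsg Cfsg.FusionSystem Cfsg.Agent.H617.SmallRank Cfsg.Agent.H617.FusMain
open Cfsg.Agent.H617.FusTwo Cfsg.Agent.H617.FusFour

universe u
variable {G : Type u} [Group G] [Finite G] {M : Ideal AlgInt}

theorem C_eq_inf (D : Subgroup G) (v : G) :
    C D v = D ⊓ Subgroup.centralizer ({v} : Set G) := by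
  ext y
  rw [mem_C, Subgroup.mem_inf, Subgroup.mem_centralizer_singleton_iff]
  exact ⟨fun h => ⟨h.1, h.2.symm⟩, fun h => ⟨h.1, h.2.symm⟩⟩

/-- The subsections of `exists_subsection`, with the numerical data. -/
theorem exists_subsection' (hM : IsPModular 2 M)
    {B : Set (IrrCharacter G)} (hB : IsPBlock M B) {D : Subgroup G} (hD : IsDefectGroup 2 M B D) :
    ∃ F : FusionSystem D, F.IsSaturated 2 ∧ ∀ u ∈ D, ∃ v ∈ D, F.IsConjElt u v ∧
      ∃ b : Set (IrrCharacter (Subgroup.centralizer ({v} : Set G))),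
        IsInducedBlock M (Subgroup.centralizer ({v} : Set G)) b B ∧
        2 ^ blockDefect 2 b = Nat.card (C D v) ∧ ∃ t : ℕ, orderOf v = 2 ^ t := by
  have hp : Fact (Nat.Prime 2) := ⟨Nat.prime_two⟩
  have := Fintype.ofFinite G
  have hDp : IsPGroup 2 D := Cfsg.Agent.Blocks.Basic.isPGroup_of_isDefectGroup hD
  obtain ⟨F, hsat, hF⟩ := exists_subsection hM hB hD
  refine ⟨F, hsat, fun u hu => ?_⟩
  obtain ⟨v, hv, huv, b, hind, hdef⟩ := hF u hu
  refine ⟨v, hv, huv, b, hind, ?_, ?_⟩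
  · have h1 := Cfsg.Agent.S0908.result 2 M hM b hind.1 _ hdef
    rw [Nat.card_congr (Subgroup.subgroupOfEquivOfLe inf_le_right).toEquiv] at h1
    rw [C_eq_inf, h1]
  · obtain ⟨k, hk⟩ := hDp ⟨v, hv⟩
    have hk' : v ^ 2 ^ k = 1 := congrArg Subtype.val hk
    obtain ⟨m, -, hm⟩ := (Nat.dvd_prime_pow Nat.prime_two).1 (orderOf_dvd_of_pow_eq_one hk')
    exact ⟨m, hm⟩

theorem card_height_zero_le (hM : IsPModular 2 M)
    {B : Set (IrrCharacter G)} {v : G} {t : ℕ} (hv : orderOf v = 2 ^ t)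
    {b : Set (IrrCharacter (Subgroup.centralizer ({v} : Set G)))}
    (hind : IsInducedBlock M (Subgroup.centralizer ({v} : Set G)) b B)
    (hd : 2 ^ blockDefect 2 b ≤ 4 * orderOf v) :
    Nat.card {χ : IrrCharacter G // χ ∈ B ∧ blockHeight 2 B (χ : G → ℂ) = 0} ≤
      2 ^ blockDefect 2 b := by
  refine (Cfsg.Agent.S4541.result M hM B hind.2.1 v ⟨t, hv⟩ b hind).2.2 ?_
  refine blockRank_le_three_of_central hM hind.1 hv ?_
  rw [hv, show 4 * 2 ^ t = 2 ^ (t + 2) by rw [pow_add]; ring] at hd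
  exact (Nat.pow_le_pow_iff_right (by norm_num)).1 hd

theorem bound_of_kindA (hM : IsPModular 2 M)
    {B : Set (IrrCharacter G)} {D : Subgroup G}
    {F : FusionSystem D} (hF : ∀ u ∈ D, ∃ v ∈ D, F.IsConjElt u v ∧
      ∃ b : Set (IrrCharacter (Subgroup.centralizer ({v} : Set G))),
        IsInducedBlock M (Subgroup.centralizer ({v} : Set G)) b B ∧
        2 ^ blockDefect 2 b = Nat.card (C D v) ∧ ∃ t : ℕ, orderOf v = 2 ^ t)
    (hA : KindA D F) :
    Nat.card {χ : IrrCharacter G // χ ∈ B ∧ blockHeight 2 B (χ : G → ℂ) = 0} ≤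
      (commutator D).index := by
  obtain ⟨u, hu, hcl⟩ := hA
  obtain ⟨v, hv, huv, b, hind, hdef, t, ht⟩ := hF u hu
  obtain ⟨-, h1, h2⟩ := hcl v huv
  have h3 := card_height_zero_le hM ht hind (by rw [hdef]; exact h2)
  rw [hdef] at h3
  refine h3.trans ?_
  rw [← card_E_mul (S := D), mul_comm] at h1
  have hpos : 0 < Nat.card (E D) := by
    have : Finite (E D) := inferInstance
    exact Nat.card_pos
  exact Nat.le_of_mul_le_mul_left h1 hpos

end Cfsg.Agent.H617.KindABlock
end

-- part: H617/KindBBlock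
section
/-!
# Olsson's bound in the second case
-/

set_option autoImplicit false
set_option linter.unusedSectionVars false

namespace Cfsg.Agent.H617.KindBBlock

open Cfsg Cfsg.FusionSystem Cfsg.Agent.H617.SmallRank Cfsg.Agent.H617.FusMain
open Cfsg.Agent.H617.FusTwo Cfsg.Agent.H617.FusFour Cfsg.Agent.H617.KindABlock Cfsg.Agent.H802

universe u
variable {G : Type u} [Group G] [Finite G] {M : Ideal AlgInt}

theorem centralizer_zpowers (u : G) :
    Subgroup.centralizer ((Subgroup.zpowers u : Subgroup G) : Set G) =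
      Subgroup.centralizer ({u} : Set G) := by
  ext y
  rw [Subgroup.mem_centralizer_singleton_iff, Subgroup.mem_centralizer_iff]
  constructor
  · intro h
    exact (h u (Subgroup.mem_zpowers u)).symm
  · rintro h _ ⟨n, rfl⟩
    exact ((show Commute u y from h.symm).zpow_left n).eq

/-- `Aut_F(⟨u⟩)` for `⟨u⟩` normal in `D`, `|D : C_D(u)| = 2`. -/
theorem aut_cyclic {D : Subgroup G} (hDp : IsPGroup 2 D) {F : FusionSystem D}
    (hsat : F.IsSaturated 2) {u : G} (hu : u ∈ D) {k : ℕ} (hou : orderOf u = 2 ^ k)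
    (hn : D ≤ Subgroup.normalizer ((Subgroup.zpowers u : Subgroup G) : Set G))
    (hidx : (C D u).relIndex D = 2) {s : G} (hs : s ∈ D) (hsu : s * u ≠ u * s)
    {α : MulAut (Subgroup.zpowers u)} (hα : α ∈ F.autGroup (Subgroup.zpowers u)) :
    ((α ⟨u, Subgroup.mem_zpowers u⟩ : Subgroup.zpowers u) : G) = u ∨
      ((α ⟨u, Subgroup.mem_zpowers u⟩ : Subgroup.zpowers u) : G) = s * u * s⁻¹ := by
  have hp : Fact (Nat.Prime 2) := ⟨Nat.prime_two⟩
  have hQD : (Subgroup.zpowers u) ≤ D := Subgroup.zpowers_le.2 hu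
  have hfn := isFullyNormalized_of_le_normalizer F hQD hn
  have hfa := isFullyAutomized_of_isFullyNormalized hDp hsat hfn
  have hcard := (isFullyAutomized_iff_card hDp hQD).1 hfa
  have hle := autInducedBy_le_autGroup F hQD
  -- the automorphism group is a `2`-group
  have h2 : IsPGroup 2 (MulAut (Subgroup.zpowers u)) := by
    have hc : Nat.card (Subgroup.zpowers u) = 2 ^ k := by rw [Nat.card_zpowers, hou]
    have h3 := IsCyclic.card_mulAut (Subgroup.zpowers u)
    rw [hc] at h3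
    rcases Nat.eq_zero_or_pos k with rfl | hk
    · rw [pow_zero, Nat.totient_one] at h3
      exact IsPGroup.of_card (n := 0) (by rw [h3, pow_zero])
    · rw [Nat.totient_prime_pow Nat.prime_two hk] at h3
      exact IsPGroup.of_card (n := k - 1) (by rw [h3]; simp)
  have heq : autInducedBy D (Subgroup.zpowers u) = F.autGroup (Subgroup.zpowers u) := by
    refine Subgroup.eq_of_le_of_card_ge hle (le_of_eq ?_)
    rw [hcard]
    obtain ⟨m, hm⟩ := IsPGroup.iff_card.1 (h2.to_subgroup (F.autGroup (Subgroup.zpowers u)))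
    rw [hm, Nat.Prime.factorization_pow Nat.prime_two]
    simp
  -- order two
  have hmul := card_autInducedBy_mul D (Subgroup.zpowers u)
  have h1 : normalizerIn D (Subgroup.zpowers u) = D := inf_eq_left.2 hn
  have h3 : Nat.card (C D u) * (C D u).relIndex D = Nat.card D := (card_eq_mul_relIndex (C_le u)).symm
  rw [h1, ← h3, hidx, mul_comm] at hmul
  have h4 : Nat.card (autInducedBy D (Subgroup.zpowers u)) = 2 := by
    have hpos : 0 < Nat.card (C D u) := Nat.card_pos
    exact Nat.eq_of_mul_eq_mul_left hpos hmul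
  obtain ⟨τ, hτ, hτi, hτs⟩ := exists_conjAut_mem (F := F) hQD hs (hn hs)
  have hτ1 : τ ≠ 1 := by
    intro h
    have h5 := hτs ⟨u, Subgroup.mem_zpowers u⟩
    rw [h] at h5
    apply hsu
    have h5' : u = s * u * s⁻¹ := h5
    calc s * u = s * u * s⁻¹ * s := by group
      _ = u * s := by rw [← h5']
  rw [← heq] at hα
  have h6 : Nat.card (autInducedBy D (Subgroup.zpowers u)) = 2 := h4
  rw [Nat.card_eq_two_iff' (1 : autInducedBy D (Subgroup.zpowers u))] at h6
  obtain ⟨x, hx, hxu⟩ := h6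
  have hxτ : (⟨τ, hτi⟩ : autInducedBy D (Subgroup.zpowers u)) = x := hxu _ (fun h => hτ1 (congrArg Subtype.val h))
  by_cases hα1 : α = 1
  · left
    rw [hα1]
    rfl
  · right
    have h7 : (⟨α, hα⟩ : autInducedBy D (Subgroup.zpowers u)) = x := hxu _ (fun h => hα1 (congrArg Subtype.val h))
    have h8 : α = τ := congrArg Subtype.val (h7.trans hxτ.symm)
    rw [h8]
    exact hτs _

theorem bound_of_kindB (hM : IsPModular 2 M)
    {B : Set (IrrCharacter G)} (hB : IsPBlock M B) {D : Subgroup G}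
    {e : Set (IrrCharacter (Subgroup.centralizer (D : Set G)))}
    (hmax : IsMaximalBrauerPair 2 M B D e) {F : FusionSystem D}
    (hF : IsBlockFusionSystemOn 2 M B D e F) (hsat : F.IsSaturated 2) (hK : KindB D) :
    Nat.card {χ : IrrCharacter G // χ ∈ B ∧ blockHeight 2 B (χ : G → ℂ) = 0} ≤
      (commutator D).index := by
  have hp : Fact (Nat.Prime 2) := ⟨Nat.prime_two⟩
  have := Fintype.ofFinite G
  have hMp := Cfsg.Agent.Blocks.Local.isPrime_of_isPModular hM
  obtain ⟨u, hu, k, hk, hou, hcu, hidx, ⟨s, hs, hsu⟩, hbd⟩ := hK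
  have hDp : IsPGroup 2 D := hmax.1.1.1
  obtain ⟨j, rfl⟩ : ∃ j, k = j + 1 := ⟨k - 1, by omega⟩
  rw [Nat.add_sub_cancel] at hsu
  set Q := Subgroup.zpowers u with hQdef
  have hQD : Q ≤ D := Subgroup.zpowers_le.2 hu
  -- the power
  obtain ⟨t, ht, hst⟩ : ∃ t : ℕ, (t = 2 ^ (j + 1) - 1 ∨ t = 2 ^ j - 1) ∧ s * u * s⁻¹ = u ^ t := by
    rcases hsu with h | h
    · refine ⟨2 ^ (j + 1) - 1, Or.inl rfl, ?_⟩
      rw [h, inv_eq_iff_mul_eq_one, ← pow_succ', Nat.sub_add_cancel Nat.one_le_two_pow, ← hou,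
        pow_orderOf_eq_one]
    · exact ⟨2 ^ j - 1, Or.inr rfl, h⟩
  have h2j : 4 ≤ 2 ^ j := by
    calc 4 = 2 ^ 2 := by norm_num
      _ ≤ 2 ^ j := Nat.pow_le_pow_right (by norm_num) (by omega)
  have hsne : s * u ≠ u * s := by
    intro h
    have h1 : s * u * s⁻¹ = u := by rw [h]; group
    rw [h1] at hst
    have h2 : u ^ 1 = u ^ t := by rw [pow_one]; exact hst
    rw [pow_inj_mod, hou] at h2
    rw [pow_succ] at h2 ht
    rw [Nat.mod_eq_of_lt (by omega), Nat.mod_eq_of_lt (by omega)] at h2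
    omega
  -- `⟨u⟩` is normal in `D`
  have hcomm : ∀ c ∈ C D u, c ∈ Subgroup.normalizer (Q : Set G) := by
    intro c hc
    rw [Subgroup.mem_normalizer_iff]
    intro y
    have h1 : c ∈ Subgroup.centralizer (Q : Set G) := hc.2
    constructor
    · intro hy
      have h2 := Subgroup.mem_centralizer_iff.1 h1 y hy
      have h3 : c * y * c⁻¹ = y := by rw [← h2]; group
      rw [h3]; exact hy
    · intro hy
      have h2 := Subgroup.mem_centralizer_iff.1 h1 _ hy
      have h3 : c * y * c⁻¹ = y := by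
        have h4 : c * (c * y * c⁻¹) * c⁻¹ = c * y * c⁻¹ := by rw [← h2]; group
        exact mul_left_cancel (mul_right_cancel h4)
      rwa [h3] at hy
  have hsn : s ∈ Subgroup.normalizer (Q : Set G) := by
    have hle : ∀ y ∈ Q, s * y * s⁻¹ ∈ Q := by
      rintro _ ⟨i, rfl⟩
      change s * u ^ i * s⁻¹ ∈ Q
      rw [← conj_zpow, hst]
      exact Subgroup.zpow_mem _ (Subgroup.pow_mem _ (Subgroup.mem_zpowers u) _) _
    rw [Subgroup.mem_normalizer_iff]
    intro y
    refine ⟨hle y, fun hy => ?_⟩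
    -- the map is surjective on the finite group
    have hmap : Q.map (MulAut.conj s).toMonoidHom ≤ Q := by
      rintro _ ⟨z, hz, rfl⟩
      exact hle z hz
    have hcard : Nat.card (Q.map (MulAut.conj s).toMonoidHom) = Nat.card Q :=
      Nat.card_congr (Q.equivMapOfInjective _ (MulAut.conj s).injective).symm.toEquiv
    have heq := Subgroup.eq_of_le_of_card_ge hmap (le_of_eq hcard.symm)
    rw [← heq] at hy
    obtain ⟨z, hz, hzy⟩ := hy
    have h5 : s * z * s⁻¹ = s * y * s⁻¹ := hzy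
    rw [← mul_left_cancel (mul_right_cancel h5)]
    exact hz
  have hn : D ≤ Subgroup.normalizer (Q : Set G) := by
    intro d hd
    by_cases hdc : d ∈ C D u
    · exact hcomm d hdc
    · have hsc : s ∉ C D u := fun h => hsne (mem_C.1 h).2.symm
      have h1 := inv_mul_mem_of_relIndex_two hidx hs hd hsc hdc
      have h2 : d = s * (s⁻¹ * d) := by group
      rw [h2]
      exact Subgroup.mul_mem _ hsn (hcomm _ h1)
  -- the block of the centralizer
  have hfn := isFullyNormalized_of_le_normalizer F hQD hn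
  have hfc := isFullyCentralized_of_isFullyNormalized hDp hsat hfn
  obtain ⟨f, ⟨hf, hfle⟩, -⟩ := Cfsg.Agent.S4655.result 2 M hM D Q e hmax.1.1 hQD
  have hdef := (Cfsg.Agent.S4678.result 2 M hM B D e hmax F hF _ f hQD hf hfle).1 hfc
  have hQp : IsPGroup 2 Q := hDp.to_le hQD
  have hpair := (Cfsg.Agent.S4658.result 2 M hM D Q e f hmax.1.1 ⟨hQp, hf⟩ hfle B hB).1 hmax.1
  have hind := (Cfsg.Agent.H649.isBrauerPairOf_iff_isInducedBlock hM hB hQp hf).1 hpair
  have := Fintype.ofFinite (Subgroup.centralizer (Q : Set G))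
  have hq : 2 ^ blockDefect 2 f = Nat.card (C D u) := by
    have h1 := Cfsg.Agent.S0908.result 2 M hM f hf _ hdef
    rw [Nat.card_congr (Subgroup.subgroupOfEquivOfLe inf_le_right).toEquiv] at h1
    exact h1.symm
  have hle : blockDefect 2 f ≤ (j + 1) + 1 := by
    refine (Nat.pow_le_pow_iff_right (a := 2) (by norm_num)).1 ?_
    rw [hq, pow_succ _ (j + 1)]
    omega
  have hrank1 : ∀ (H : Subgroup G) (_ : H = Subgroup.centralizer ({u} : Set G))
      (b : Set (IrrCharacter H)), IsPBlock M b → blockDefect 2 b ≤ (j + 1) + 1 →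
      blockRank 2 b ≤ 1 := by
    rintro H rfl b hb hdb
    exact blockRank_le_one_of_central hM hb hou hdb
  have hH := centralizer_zpowers u
  have hr := hrank1 _ hH f hf hle
  have hrpos := Cfsg.Agent.H632.TwoChars.blockRank_pos hM hf
  have hl : blockRank 2 f = 1 := by omega
  have hW : ∀ (g : G) (w : ℕ), g * u * g⁻¹ = u ^ w →
      StabilizesBlock (Subgroup.centralizer (Q : Set G)) f g → u ^ w = u ∨ u ^ w = u ^ t := by
    intro g w hgw hst'
    have hgn : g ∈ Subgroup.normalizer (Q : Set G) := by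
      have hle : ∀ y ∈ Q, g * y * g⁻¹ ∈ Q := by
        rintro _ ⟨i, rfl⟩
        change g * u ^ i * g⁻¹ ∈ Q
        rw [← conj_zpow, hgw]
        exact Subgroup.zpow_mem _ (Subgroup.pow_mem _ (Subgroup.mem_zpowers u) _) _
      rw [Subgroup.mem_normalizer_iff]
      intro y
      refine ⟨hle y, fun hy => ?_⟩
      have hmap : Q.map (MulAut.conj g).toMonoidHom ≤ Q := by
        rintro _ ⟨z, hz, rfl⟩
        exact hle z hz
      have hcard : Nat.card (Q.map (MulAut.conj g).toMonoidHom) = Nat.card Q :=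
        Nat.card_congr (Q.equivMapOfInjective _ (MulAut.conj g).injective).symm.toEquiv
      have heq := Subgroup.eq_of_le_of_card_ge hmap (le_of_eq hcard.symm)
      rw [← heq] at hy
      obtain ⟨z, hz, hzy⟩ := hy
      have h5 : g * z * g⁻¹ = g * y * g⁻¹ := hzy
      rw [← mul_left_cancel (mul_right_cancel h5)]
      exact hz
    have hidxeq := (Cfsg.Agent.H649.conjIdx_eq_iff hf g).2 ⟨hgn, hst'⟩
    have hle2 : Cfsg.Agent.H649.LEIdx 2 M (Cfsg.Agent.H649.conjIdx g ⟨Q, f⟩) ⟨D, e⟩ := by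
      rw [hidxeq]; exact hfle
    have hle3 : SubpairLE 2 M (Q.map (MulAut.conj g).toMonoidHom) (conjBlock Q g f) D e := by
      rw [Cfsg.Agent.H649.conjBlock_eq]
      exact hle2
    have hhom : conjHom Q g ∈ F.Hom Q := (hF.2 Q _).2 ⟨hQD, g, fun x => rfl,
      Cfsg.Agent.H649.SubpairLE.le hle3, f, hfle, hle3⟩
    obtain ⟨τ, hτ⟩ := exists_conjAut (P := Q) hgn
    have hτF : τ ∈ F.autGroup Q := by
      refine Subgroup.subset_closure ?_
      change Q.subtype.comp τ.toMonoidHom ∈ F.Hom Q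
      have : Q.subtype.comp τ.toMonoidHom = conjHom Q g := by
        ext x
        exact hτ x
      rw [this]
      exact hhom
    have h1 := aut_cyclic hDp hsat hu hou hn hidx hs hsne hτF
    rw [hτ, hst] at h1
    rw [← hgw]
    exact h1
  have hmain := Cfsg.Agent.H617.RankOneCol.card_height_zero_le hM (by omega) hou hH hind hl ht hst
    (Cfsg.Agent.H649.stabilizes_of_mem hM hmax.1.1 hfle hs hsn) hW
  rw [pow_succ, hq] at hmain
  -- numerics
  have hE := card_E_mul (S := D)
  have hEpos : 0 < Nat.card (E D) := Nat.card_pos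
  rw [← hE] at hbd
  have h3 : 4 * Nat.card (C D u) ≤ (commutator D).index * 2 ^ (j + 1) := by
    have h4 : Nat.card (E D) * (4 * Nat.card (C D u)) ≤
        Nat.card (E D) * ((commutator D).index * 2 ^ (j + 1)) := by
      calc Nat.card (E D) * (4 * Nat.card (C D u)) = 4 * Nat.card (C D u) * Nat.card (E D) := by ring
        _ ≤ _ := hbd
        _ = _ := by ring
    exact Nat.le_of_mul_le_mul_left h4 hEpos
  rw [pow_succ] at h3
  have hpos : 0 < 2 ^ j := by positivity
  have h5 : (commutator D).index * (2 ^ j * 2) = 2 * (2 ^ j * (commutator D).index) := by ring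
  have h6 : 2 ^ j * Nat.card {χ : IrrCharacter G // χ ∈ B ∧ blockHeight 2 B (χ : G → ℂ) = 0} ≤
      2 ^ j * (commutator D).index := by
    refine hmain.trans ?_
    omega
  exact Nat.le_of_mul_le_mul_left h6 hpos

end Cfsg.Agent.H617.KindBBlock
end

-- part: H617/OlssonMain
section
/-!
# Olsson's bound for `2`-blocks of defect at most five
-/

set_option autoImplicit false
set_option linter.unusedSectionVars false

namespace Cfsg.Agent.H617.OlssonMain

open Cfsg Cfsg.FusionSystem Cfsg.Agent.H617.SmallRank Cfsg.Agent.H617.FusMain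
open Cfsg.Agent.H617.FusTwo Cfsg.Agent.H617.FusFour Cfsg.Agent.H617.KindABlock
open Cfsg.Agent.H617.KindBBlock
open Cfsg.Agent.H652.DoubleCount Cfsg.Agent.H645.FusCount
open Cfsg.Agent.H617.AbelRank Cfsg.Agent.H617.StarAut

universe u

variable {G : Type u} [Group G] [Finite G] {M : Ideal AlgInt}

/-- The subsections for the fusion system of a maximal pair. -/
theorem subsection_of_fusion (hM : IsPModular 2 M)
    {B : Set (IrrCharacter G)} (hB : IsPBlock M B) {D : Subgroup G}
    {e : Set (IrrCharacter (Subgroup.centralizer (D : Set G)))}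
    (hmax : IsMaximalBrauerPair 2 M B D e) {F : FusionSystem D}
    (hF : IsBlockFusionSystemOn 2 M B D e F) (hsat : F.IsSaturated 2) :
    ∀ u ∈ D, ∃ v ∈ D, F.IsConjElt u v ∧
      ∃ b : Set (IrrCharacter (Subgroup.centralizer ({v} : Set G))),
        IsInducedBlock M (Subgroup.centralizer ({v} : Set G)) b B ∧
        2 ^ blockDefect 2 b = Nat.card (C D v) ∧ ∃ t : ℕ, orderOf v = 2 ^ t := by
  have hp2 : Fact (Nat.Prime 2) := ⟨Nat.prime_two⟩
  have := Fintype.ofFinite G
  have := Cfsg.Agent.Blocks.Local.isPrime_of_isPModular hM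
  have hDp : IsPGroup 2 D := hmax.1.1.1
  have he := hmax.1
  intro u hu
  have huD : Subgroup.zpowers u ≤ D := Subgroup.zpowers_le.2 hu
  obtain ⟨Q, hQ, hQn⟩ := Cfsg.Agent.H802.exists_isFullyNormalized hDp hsat huD
  have hQc := Cfsg.Agent.H802.isFullyCentralized_of_isFullyNormalized hDp hsat hQn
  obtain ⟨φ, hφ, hφQ⟩ := hQ
  obtain ⟨v, hv⟩ : ∃ v, v = φ ⟨u, Subgroup.mem_zpowers u⟩ := ⟨_, rfl⟩
  have hQv : Q = Subgroup.zpowers v := by
    rw [← hφQ]
    ext y
    constructor
    · rintro ⟨⟨_, n, rfl⟩, rfl⟩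
      refine ⟨n, ?_⟩
      change v ^ n = _
      rw [hv, ← map_zpow]
      rfl
    · rintro ⟨n, rfl⟩
      refine ⟨⟨u, Subgroup.mem_zpowers u⟩ ^ n, ?_⟩
      rw [map_zpow, ← hv]
  have hvD : v ∈ D := by
    rw [hv]
    exact Cfsg.Agent.H802.hom_apply_mem hφ _
  refine ⟨v, hvD, ⟨φ, hφ, hv.symm⟩, ?_⟩
  have hvD' : Subgroup.zpowers v ≤ D := Subgroup.zpowers_le.2 hvD
  obtain ⟨f, ⟨hf, hfle⟩, -⟩ := Cfsg.Agent.S4655.result 2 M hM D (Subgroup.zpowers v) e he.1 hvD'
  have hfc : F.IsFullyCentralized (Subgroup.zpowers v) := hQv ▸ hQc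
  have hdef := (Cfsg.Agent.S4678.result 2 M hM B D e hmax F hF _ f hvD' hf hfle).1 hfc
  have hvp : IsPGroup 2 (Subgroup.zpowers v) := hDp.to_le hvD'
  have hpair := (Cfsg.Agent.S4658.result 2 M hM D (Subgroup.zpowers v) e f he.1 ⟨hvp, hf⟩ hfle B
    hB).1 he
  have hind := (Cfsg.Agent.H649.isBrauerPairOf_iff_isInducedBlock hM hB hvp hf).1 hpair
  have key : ∀ H : Subgroup G,
      H = Subgroup.centralizer ((Subgroup.zpowers v : Subgroup G) : Set G) →
      ∃ b : Set (IrrCharacter H), IsInducedBlock M H b B ∧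
        IsDefectGroup 2 M b ((D ⊓ H).subgroupOf H) := by
    rintro H rfl
    exact ⟨f, hind, hdef⟩
  obtain ⟨b, hb1, hb2⟩ := key _ (centralizer_zpowers v).symm
  refine ⟨b, hb1, ?_, ?_⟩
  · have h1 := Cfsg.Agent.S0908.result 2 M hM b hb1.1 _ hb2
    rw [← h1, C_eq_inf]
    exact Nat.card_congr (Subgroup.subgroupOfEquivOfLe inf_le_right).toEquiv
  · obtain ⟨k, hk⟩ := (IsPGroup.iff_orderOf.1 hDp) ⟨v, hvD⟩
    exact ⟨k, by rw [← hk, Subgroup.orderOf_mk]⟩

/-- Nonabelian defect groups. -/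
theorem bound_nonabelian (hM : IsPModular 2 M) {B : Set (IrrCharacter G)} (hB : IsPBlock M B)
    {D : Subgroup G} (hD : IsDefectGroup 2 M B D) (hna : Z D ≠ D) (hcard : Nat.card D ≤ 32) :
    Nat.card {χ : IrrCharacter G // χ ∈ B ∧ blockHeight 2 B (χ : G → ℂ) = 0} ≤
      (commutator D).index := by
  have hp2 : Fact (Nat.Prime 2) := ⟨Nat.prime_two⟩
  have := Fintype.ofFinite G
  have := Cfsg.Agent.Blocks.Local.isPrime_of_isPModular hM
  have hDp : IsPGroup 2 D := Cfsg.Agent.Blocks.Basic.isPGroup_of_isDefectGroup hD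
  obtain ⟨e, he⟩ := Cfsg.Agent.H649.exists_pair_of_isDefectGroup hM hB hD
  have hmax := Cfsg.Agent.H644.isMaximalBrauerPair_of_isDefectGroup hM he hD
  obtain ⟨F, hF, hsat⟩ := Cfsg.Agent.S4677.result 2 M hM B D e hmax
  rcases kind hDp hna hcard hsat with h | h
  · exact bound_of_kindA hM (subsection_of_fusion hM hB hmax hF hsat) h
  · exact bound_of_kindB hM hB hmax hF hsat h

/-- The statement on odd order groups of automorphisms. -/
def OddAct : Prop :=
  ∀ (V : Type u) [CommGroup V] [Finite V], IsPGroup 2 V → Nat.card V ≤ 32 →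
    ∀ A : Subgroup (MulAut V), Odd (Nat.card A) →
    ∃ u : V, ∃ S : Subgroup (MulAut V), (∀ s, s ∈ S ↔ s ∈ A ∧ s u = u) ∧
      (Nat.card S = 1 ∨
        (Nat.card S = 3 ∧ 4 * Nat.card {x : V // ∀ s ∈ S, s x = x} = Nat.card V) ∨
        (Nat.card S = 5 ∧ Nat.card V = 32 ∧ (∀ x : V, x * x = 1) ∧ u ≠ 1 ∧
          ∀ x : V, (∀ s ∈ S, s x = x) → x = 1 ∨ x = u))

theorem oddAct_group (hodd : OddAct.{u}) {V : Type u} [Group V] [Finite V]
    (hab : ∀ x y : V, x * y = y * x) (hV : IsPGroup 2 V) (hcard : Nat.card V ≤ 32)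
    (A : Subgroup (MulAut V)) (hA : Odd (Nat.card A)) :
    ∃ u : V, ∃ S : Subgroup (MulAut V), (∀ s, s ∈ S ↔ s ∈ A ∧ s u = u) ∧
      (Nat.card S = 1 ∨
        (Nat.card S = 3 ∧ 4 * Nat.card {x : V // ∀ s ∈ S, s x = x} = Nat.card V) ∨
        (Nat.card S = 5 ∧ Nat.card V = 32 ∧ (∀ x : V, x * x = 1) ∧ u ≠ 1 ∧
          ∀ x : V, (∀ s ∈ S, s x = x) → x = 1 ∨ x = u)) :=
  letI : CommGroup V := { ‹Group V› with mul_comm := hab }
  hodd V hV hcard A hA

/-- Local inertial quotient of order three. -/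
theorem rank_le_three (hM : IsPModular 2 M) {B : Set (IrrCharacter G)}
    {a : BrauerPairIdx G} (hmax : IsMaximalBrauerPair 2 M B a.1 a.2)
    (hab : ∀ x ∈ a.1, ∀ y ∈ a.1, x * y = y * x) {u : G} (hu : u ∈ a.1)
    (hidx : (Subgroup.centralizer (a.1 : Set G)).relIndex
      (stab a ⊓ Subgroup.centralizer ({u} : Set G)) = 3)
    (hW : 4 * Nat.card {w : G // w ∈ a.1 ∧ ∀ t ∈ stab a, t * u * t⁻¹ = u → t * w * t⁻¹ = w} =
      Nat.card a.1) : blockRank 2 (bP 2 M a u).2 ≤ 3 := by
  classical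
  have hp2 : Fact (Nat.Prime 2) := ⟨Nat.prime_two⟩
  have := Fintype.ofFinite G
  have hMp := Cfsg.Agent.Blocks.Local.isPrime_of_isPModular hM
  obtain ⟨b, a', hind, hrank, ha', hmax', hab', hstab⟩ := exists_local hM hmax hab hu
  rw [← hrank]
  clear hrank
  obtain ⟨H, hH⟩ : ∃ H, H = Subgroup.centralizer ({u} : Set G) := ⟨_, rfl⟩
  rw [← hH] at hidx
  revert b a'
  rw [← hH]
  intro b a' hind ha' hmax' hab' hstab
  have := Fintype.ofFinite H
  have haH : a.1 ≤ H := by
    intro x hx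
    rw [hH, Subgroup.mem_centralizer_singleton_iff]
    exact hab x hx u hu
  have hC' : Subgroup.centralizer (a'.1 : Set H) =
      (Subgroup.centralizer (a.1 : Set G)).subgroupOf H := by
    ext x
    rw [Subgroup.mem_subgroupOf, Subgroup.mem_centralizer_iff, Subgroup.mem_centralizer_iff]
    constructor
    · intro h y hy
      have h1 : (⟨y, haH hy⟩ : H) ∈ a'.1 := by
        rw [ha', Subgroup.mem_subgroupOf]
        exact hy
      exact congrArg Subtype.val (h _ h1)
    · intro h y hy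
      rw [SetLike.mem_coe, ha', Subgroup.mem_subgroupOf] at hy
      exact Subtype.ext (h y hy)
  have hS' : stab a' = (stab a ⊓ H).subgroupOf H := by
    ext x
    rw [hstab, Subgroup.mem_subgroupOf, Subgroup.mem_inf]
    exact ⟨fun h => ⟨h, x.2⟩, fun h => h.1⟩
  have hidx' : (Subgroup.centralizer (a'.1 : Set H)).relIndex (stab a') = 3 := by
    rw [hC', hS', Subgroup.relIndex_subgroupOf inf_le_right, hidx]
  refine rank_le_three_of_three hM hmax' hab' hidx' ?_
  have hcard' : Nat.card a'.1 = Nat.card a.1 := by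
    rw [ha']
    exact Nat.card_congr (Subgroup.subgroupOfEquivOfLe haH).toEquiv
  rw [hcard', ← hW]
  congr 1
  have htH : ∀ t : G, t * u * t⁻¹ = u → t ∈ H := by
    intro t htu
    rw [hH, Subgroup.mem_centralizer_singleton_iff]
    calc t * u = t * u * t⁻¹ * t := by group
      _ = u * t := by rw [htu]
  have hHt : ∀ t : H, (t : G) * u * (t : G)⁻¹ = u := by
    intro t
    have h1 : (t : G) ∈ Subgroup.centralizer ({u} : Set G) := hH.le t.2
    rw [Subgroup.mem_centralizer_singleton_iff] at h1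
    rw [h1]
    group
  refine Nat.card_congr
    { toFun := fun w => ⟨(w.1 : G), ?_, fun t ht htu => ?_⟩
      invFun := fun w => ⟨⟨w.1, haH w.2.1⟩, ?_, fun t ht => ?_⟩
      left_inv := fun _ => rfl
      right_inv := fun _ => rfl }
  · exact Subgroup.mem_subgroupOf.1 (ha'.le w.2.1)
  · exact congrArg Subtype.val (w.2.2 ⟨t, htH t htu⟩ ((hstab _).2 ht))
  · rw [ha', Subgroup.mem_subgroupOf]
    exact w.2.1
  · exact Subtype.ext (w.2.2 t ((hstab t).1 ht) (hHt t))

/-- Abelian defect groups. -/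
theorem bound_abelian (hodd : OddAct.{u}) (hM : IsPModular 2 M) {B : Set (IrrCharacter G)}
    {a : BrauerPairIdx G} (hmax : IsMaximalBrauerPair 2 M B a.1 a.2)
    (hab : ∀ x ∈ a.1, ∀ y ∈ a.1, x * y = y * x) (hcard : Nat.card a.1 ≤ 32) :
    Nat.card {χ : IrrCharacter G // χ ∈ B ∧ blockHeight 2 B (χ : G → ℂ) = 0} ≤
      Nat.card a.1 := by
  have hp2 : Fact (Nat.Prime 2) := ⟨Nat.prime_two⟩
  have := Fintype.ofFinite G
  have := Cfsg.Agent.Blocks.Local.isPrime_of_isPModular hM
  have hfin := Cfsg.Agent.Characters.Core.finite_irr (G := G)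
  have hle : Nat.card {χ : IrrCharacter G // χ ∈ B ∧ blockHeight 2 B (χ : G → ℂ) = 0} ≤
      Nat.card B :=
    Nat.card_le_card_of_injective (fun χ => (⟨χ.1, χ.2.1⟩ : B)) fun χ ψ h =>
      Subtype.ext (congrArg (fun x : B => (x : IrrCharacter G)) h)
  have hA : Odd (Nat.card (autG a)) := by
    have h1 := not_dvd_card_autG hM hmax hab
    rw [← Nat.not_even_iff_odd, even_iff_two_dvd]
    exact h1
  obtain ⟨u, S, hS, hc⟩ := oddAct_group hodd (fun x y => Subtype.ext (hab x x.2 y y.2))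
    hmax.1.1.1 hcard (autG a) hA
  have hrel := relIndex_inf hM hmax hab u.2 S hS
  rcases hc with h1 | ⟨h3, hW⟩ | ⟨h5, h32, hel, hu1, hfix⟩
  · -- regular orbit
    rw [h1, Subgroup.relIndex_eq_one] at hrel
    refine hle.trans (card_le_of_rank hM hmax hab u.2 ?_)
    rw [rank_one_at hM hmax hab u.2 ?_]
    · norm_num
    · intro t ht htu x hx
      have h2 : t ∈ stab a ⊓ Subgroup.centralizer ({(u : G)} : Set G) := by
        refine Subgroup.mem_inf.2 ⟨ht, Subgroup.mem_centralizer_singleton_iff.2 ?_⟩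
        calc t * (u : G) = t * u * t⁻¹ * t := by group
          _ = u * t := by rw [htu]
      have h3 := Subgroup.mem_centralizer_iff.1 (hrel h2) x hx
      rw [← h3]
      group
  · -- order three
    refine hle.trans (card_le_of_rank hM hmax hab u.2 ?_)
    refine rank_le_three hM hmax hab u.2 (hrel.trans h3) ?_
    rw [← hW]
    congr 1
    refine Nat.card_congr
      { toFun := fun w => ⟨⟨w.1, w.2.1⟩, fun s hs => ?_⟩
        invFun := fun x => ⟨x.1, x.1.2, fun t ht htu => ?_⟩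
        left_inv := fun _ => rfl
        right_inv := fun _ => rfl }
    · obtain ⟨t, ht, hst⟩ := (mem_autG hM hmax hab).1 ((hS s).1 hs).1
      apply Subtype.ext
      rw [hst]
      refine w.2.2 t ht ?_
      rw [← hst, ((hS s).1 hs).2]
    · obtain ⟨α, hα, h⟩ := exists_autG hM hmax hab ht
      rw [← h, x.2 α ((hS α).2 ⟨hα, Subtype.ext (by rw [h, htu])⟩)]
  · rw [h32]
    refine Cfsg.Agent.H617.BoundFive.bound_five hM hmax
      (fun x hx => congrArg Subtype.val (hel ⟨x, hx⟩)) h32 u.2 (fun h => hu1 (Subtype.ext h))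
      (hrel.trans h5) ?_
    intro w hw h
    rcases hfix ⟨w, hw⟩ (fun s hs => by
      obtain ⟨t, ht, hst⟩ := (mem_autG hM hmax hab).1 ((hS s).1 hs).1
      apply Subtype.ext
      rw [hst]
      refine h t ht ?_
      rw [← hst, ((hS s).1 hs).2]) with h' | h'
    · exact Or.inl (congrArg Subtype.val h')
    · exact Or.inr (congrArg Subtype.val h')

/-- **Olsson's bound** for `2`-blocks of defect at most five. -/
theorem main (hodd : OddAct.{u}) (hM : IsPModular 2 M) {B : Set (IrrCharacter G)}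
    (hB : IsPBlock M B) {D : Subgroup G} (hD : IsDefectGroup 2 M B D) (hcard : Nat.card D ≤ 32) :
    Nat.card {χ : IrrCharacter G // χ ∈ B ∧ blockHeight 2 B (χ : G → ℂ) = 0} ≤
      (commutator D).index := by
  by_cases hna : Z D = D
  · have := Fintype.ofFinite G
    have hMp := Cfsg.Agent.Blocks.Local.isPrime_of_isPModular hM
    obtain ⟨e, he⟩ := Cfsg.Agent.H649.exists_pair_of_isDefectGroup hM hB hD
    have hmax := Cfsg.Agent.H644.isMaximalBrauerPair_of_isDefectGroup hM he hD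
    have hab : ∀ x ∈ D, ∀ y ∈ D, x * y = y * x := by
      intro x hx y hy
      have h1 : x ∈ Z D := hna.symm ▸ hx
      exact (Subgroup.mem_centralizer_iff.1 h1.2 y hy).symm
    have h2 := bound_abelian hodd hM (a := ⟨D, e⟩) hmax hab hcard
    refine h2.trans (le_of_eq ?_)
    have h3 : commutator D = ⊥ := by
      rw [commutator_eq_closure, Subgroup.closure_eq_bot_iff]
      rintro _ ⟨x, y, rfl⟩
      rw [Set.mem_singleton_iff, commutatorElement_eq_one_iff_mul_comm]
      exact Subtype.ext (hab x x.2 y y.2)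
    rw [h3, Subgroup.index_bot]
  · exact bound_nonabelian hM hB hD hna hcard

end Cfsg.Agent.H617.OlssonMain
end
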